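import Cfsg.Agent.BlocksB.Cyclic.Main
import Cfsg.Agent.BrauerPairs.PrincipalBridge

/-!
# The principal block with a Sylow subgroup of prime order
-/

set_option autoImplicit false
set_option linter.style.haveILetI false
set_option linter.unusedSectionVars false

namespace CfsgLib.Cyclic

open Cfsg Finset CfsgLib.Block CfsgLib.Block.Chr CfsgLib.BrauerPairs CfsgLib.BlockStar
  CfsgLib.BlockB CfsgLib.SL2C
open scoped ComplexConjugate
open scoped Classical

universe u

variable {M : Ideal AlgInt} [M.IsPrime] {p : ℕ} [Fact p.Prime] [CharP (Residue M) p]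
  {G : Type u} [Group G] [Fintype G]

local notation "Z[" x "]" => Subgroup.zpowers x
local notation "C[" Q "]" => Subgroup.centralizer (SetLike.coe Q)
local notation "N[" Q "]" => Subgroup.normalizer (SetLike.coe Q)

variable {B : Set (IrrCharacter G)} {P : Subgroup G} {c : Set (IrrCharacter C[P])} {t : G} {n : ℕ}
  [Fintype P] {m : IrrCharacter G → (P →* ℂˣ) → ℕ}

/-- The values of two characters on a subsection are proportional. -/
theorem val_prop (V : CycVals (M := M) p P c t m) (χ ψ : IrrCharacter G) {u : P} (hu : u ≠ 1)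
    {κ : ℂ} (hκ : aval (m χ) u = κ * aval (m ψ) u) {s : G} (h : PElt p (u : G) s) :
    val χ (u : G) s (subBlk p P (idemIn M C[P] c) (u : G)) =
      κ * val ψ (u : G) s (subBlk p P (idemIn M C[P] c) (u : G)) := by
  set f := subBlk p P (idemIn M C[P] c) (u : G)
  set S0 := univ.filter (fun s : G => s ∈ C[Z[(u : G)]] ∧ ¬ p ∣ orderOf s)
  set w := fun φ : IrrCharacter G => fun s : G => val φ (u : G) s f
  have hI : ∀ φ φ' : IrrCharacter G, ∑ s ∈ S0, w φ s * conj (w φ' s) =
      (Nat.card C[Z[(u : G)]] : ℂ) *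
        (aval (m φ) u * conj (aval (m φ') u) * (Nat.card P : ℂ)⁻¹) := fun φ φ' => by
    rw [← V.contrib φ φ' u hu, contribR,
      mul_inv_cancel_left₀ (Nat.cast_ne_zero.2 Nat.card_pos.ne')]
  have h0 : ∑ s ∈ S0, ((‖w χ s - κ * w ψ s‖ : ℂ)) ^ 2 = 0 := by
    simp only [← Complex.mul_conj', map_sub, map_mul, sub_mul, mul_sub, sum_sub_distrib]
    simp only [mul_assoc, ← mul_sum]
    simp only [← mul_assoc]
    rw [show ∑ s ∈ S0, w χ s * conj κ * conj (w ψ s) = conj κ * ∑ s ∈ S0, w χ s * conj (w ψ s) by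
        rw [mul_sum]; exact sum_congr rfl fun s _ => by ring,
      show ∑ s ∈ S0, w ψ s * conj κ * conj (w ψ s) = conj κ * ∑ s ∈ S0, w ψ s * conj (w ψ s) by
        rw [mul_sum]; exact sum_congr rfl fun s _ => by ring, hI, hI, hI, hI, hκ, map_mul]
    ring
  have h1 : ∀ s ∈ S0, ‖w χ s - κ * w ψ s‖ ^ 2 = 0 := by
    refine (sum_eq_zero_iff_of_nonneg fun _ _ => sq_nonneg _).1 ?_
    exact_mod_cast h0
  exact sub_eq_zero.1 (norm_eq_zero.1 ((pow_eq_zero_iff two_ne_zero).1
    (h1 s (mem_filter.2 ⟨mem_univ _, mem_cz.2 h.comm.eq.symm, h.reg⟩))))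

/-- **The principal block when the order of a Sylow subgroup is prime.** -/
theorem principal_prime_order (hM : IsPModular p M) (S : Sylow p G) (hS : Nat.card S = p)
    {e : ℕ} (he : (C[(S : Subgroup G)] : Subgroup G).relIndex N[(S : Subgroup G)] = e)
    [Fintype (principalBlock M G)] :
    ∃ (X : Finset (principalBlock M G)) (εX : principalBlock M G → ℤ) (ε : ℤ),
      X.card = e ∧ e * (Xᶜ).card + 1 = p ∧
      (∀ χ ∈ X, (εX χ = 1 ∨ εX χ = -1) ∧ deg χ.1 ≡ εX χ [ZMOD p] ∧
        ∀ x : G, x ∈ (S : Subgroup G) → x ≠ 1 → ∀ y : G, y ∈ C[(S : Subgroup G)] →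
          ¬ p ∣ orderOf y → ((χ : IrrCharacter G) : G → ℂ) (x * y) = (εX χ : ℂ)) ∧
      (ε = 1 ∨ ε = -1) ∧
      (∀ θ, θ ∉ X → deg θ.1 ≡ ε * (e : ℤ) [ZMOD p]) ∧
      (∀ θ θ', θ ∉ X → θ' ∉ X → ∀ g : G, ¬ p ∣ orderOf g →
        ((θ : IrrCharacter G) : G → ℂ) g = ((θ' : IrrCharacter G) : G → ℂ) g) ∧
      ∀ θ, θ ∉ X → ∀ g : G, ¬ p ∣ orderOf g → (ε : ℂ) * ((θ : IrrCharacter G) : G → ℂ) g =
        ∑ χ ∈ X, (εX χ : ℂ) * ((χ : IrrCharacter G) : G → ℂ) g := by
  have hp : p.Prime := Fact.out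
  set P : Subgroup G := (S : Subgroup G) with hPdef
  haveI := Fintype.ofFinite P
  have hmax0 := isMaxPair_prin (k := Residue M) S
  have hB : IsPBlock M (principalBlock M G) := isPBlock_principal
  have hPD : IsDefectGroup p M (principalBlock M G) P := by
    rw [← idem_principal hM] at hmax0
    exact isDefectGroup_of_isDef hM hB (hmax0.isDef (isBlk_idem hM hB))
  haveI hfp : Fact p.Prime := inferInstance
  have hcyc : IsCyclic P := isCyclic_of_prime_card hS
  have hP1 : P ≠ ⊥ := fun h => by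
    have h' : Nat.card P = p := hS
    rw [h, Subgroup.card_bot] at h'
    exact hp.ne_one h'.symm
  have hab := commute_of_cyclic hcyc
  have hPC : P ≤ C[P] := fun x hx => Subgroup.mem_centralizer_iff.2 fun y hy => hab y hy x hx
  have hc : IsInducedBlock M C[P] (principalBlock M C[P]) (principalBlock M G) :=
    isInducedBlock_of_isBrauerPairOf hM hPC
      ((isBrauerPairOf_principal_iff hM S.isPGroup' isPBlock_principal).2 rfl)
  obtain ⟨t, n, Sd⟩ := exists_cycData hM hB hPD hcyc hP1 hc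
  obtain ⟨m, V⟩ := Sd.exists_cycVals
  have hne : n = e := by
    rw [Sd.n_eq, ← he]
    congr 1
    refine le_antisymm (fun g hg => hg.1) fun g hg => ⟨hg, ?_⟩
    rw [idemIn_principal hM]
    exact cj_prin (map_normalizer_centralizer hg)
  subst hne
  set one : principalBlock M G := ⟨trivIrr G, trivIrr_mem_principal⟩
  obtain ⟨-, X, δ, δ₀, rep, T, hx₀⟩ := exists_tree Sd V one
  have hcY : n * (Xᶜ).card + 1 = p := by rw [T.card_Y]; exact hS
  have hone1 : ∀ g : G, ((one : IrrCharacter G) : G → ℂ) g = 1 := fun g => rfl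
  have hdeg1 : deg one.1 = 1 := by
    have h := (irr_one one.1).1
    rw [hone1] at h
    exact_mod_cast h.symm
  -- values on the nontrivial subsections
  have hsec : ∀ (x : P), x ≠ 1 → ∀ y : G, y ∈ C[P] → ¬ p ∣ orderOf y →
      PElt p (x : G) y ∧ ∀ χ : principalBlock M G, ((χ : IrrCharacter G) : G → ℂ) ((x : G) * y) =
        val χ.1 (x : G) y (subBlk p P (idemIn M C[P] (principalBlock M C[P])) (x : G)) := by
    intro x hx y hy hyr
    have h : PElt p (x : G) y := ⟨mem_pSet.1 (mem_pSet_of_mem Sd.pair x.2), hyr,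
      (Subgroup.mem_centralizer_iff.1 hy x x.2)⟩
    refine ⟨h, fun χ => ?_⟩
    rw [← wsum_const_one (M := M) hM χ.1 h, wsum,
      sum_eq_single (subBlk p P (idemIn M C[P] (principalBlock M C[P])) (x : G))]
    · rw [br_one, one_mul, one_mul]
    · intro f hf hfne
      rw [br_one, one_mul, one_mul,
        val_eq_zero_of_not_pair hM hB χ.2 h (mem_blks.1 hf) fun hp' => hfne ?_]
      have h1 := (isPairOf_iff_of_ple (isBlk_idem hM hB) (subBlk_ple Sd.pair x.2) Sd.pair).2
        Sd.maxPair.1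
      rw [idem_principal hM] at h1 hp'
      rw [(isPairOf_prin_iff.1 hp').2, (isPairOf_prin_iff.1 h1).2]
    · intro hn'
      exact absurd (mem_blks.2 (PLE.isPair (subBlk_ple Sd.pair x.2) Sd.pair).2) hn'
  have hvalue : ∀ (χ : principalBlock M G) (κ : ℂ),
      (∀ u : P, u ≠ 1 → aval (m χ.1) u = κ * aval (m one.1) u) →
      ∀ x : G, x ∈ P → x ≠ 1 → ∀ y : G, y ∈ C[P] → ¬ p ∣ orderOf y →
        ((χ : IrrCharacter G) : G → ℂ) (x * y) = κ := by
    intro χ κ hκ x hx hx1 y hy hyr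
    have hx' : (⟨x, hx⟩ : P) ≠ 1 := fun h => hx1 (congrArg Subtype.val h)
    obtain ⟨h, hv⟩ := hsec ⟨x, hx⟩ hx' y hy hyr
    have h1 := hv one
    rw [hone1] at h1
    rw [hv χ, val_prop V χ.1 one.1 hx' (hκ _ hx') h, ← h1, mul_one]
  have hpN : (p : ℤ) ∣ (p : ℤ) ^ (Nat.card G).factorization p := by
    refine dvd_pow_self _ ?_
    have : p ∣ Nat.card G := hS ▸ Subgroup.card_subgroup_dvd_card P
    exact (Nat.Prime.factorization_pos_of_dvd hp Nat.card_pos.ne' this).ne'
  have hnpos := Sd.n_pos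
  by_cases hn1 : n = 1
  · -- one non-exceptional character
    obtain ⟨x₁, hx₁⟩ := card_eq_one.1 (T.card_X.trans hn1)
    have hagree : ∀ z : principalBlock M G, ∀ g : G, ¬ p ∣ orderOf g →
        ((z : IrrCharacter G) : G → ℂ) g = ((x₁ : IrrCharacter G) : G → ℂ) g := by
      intro z g hg
      by_cases hz : z ∈ X
      · rw [hx₁, mem_singleton] at hz; rw [hz]
      have h := T.reg z hz g hg
      have h1 := T.reg z hz 1 (by rw [orderOf_one]; exact hp.not_dvd_one)
      rw [hx₁, sum_singleton] at h h1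
      rw [(irr_one _).1, (irr_one _).1] at h1
      have h2 : δ₀ * deg z.1 + δ x₁ * deg x₁.1 = 0 := by exact_mod_cast h1
      have hd : δ x₁ = -δ₀ := by
        have e1 : (0 : ℤ) < deg z.1 := Nat.cast_pos.2 (irr_one z.1).2
        have e2 : (0 : ℤ) < deg x₁.1 := Nat.cast_pos.2 (irr_one x₁.1).2
        rcases T.sign₀ with e | e <;> rcases T.sign x₁ (by rw [hx₁]; exact mem_singleton_self _)
          with e' | e' <;> rw [e, e'] at h2 ⊢ <;> omega
      rw [hd, Int.cast_neg] at h
      have h0 : (δ₀ : ℂ) ≠ 0 := by rcases T.sign₀ with e | e <;> simp [e]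
      exact mul_left_cancel₀ h0 (by linear_combination h)
    have hag : ∀ z : principalBlock M G, ∀ g : G, ¬ p ∣ orderOf g →
        ((z : IrrCharacter G) : G → ℂ) g = 1 := fun z g hg => by
      rw [hagree z g hg, ← hagree one g hg, hone1]
    have hdeg : ∀ z : principalBlock M G, deg z.1 = 1 := fun z => by
      have h := hag z 1 (by rw [orderOf_one]; exact hp.not_dvd_one)
      rw [(irr_one _).1] at h
      exact_mod_cast h
    refine ⟨{one}, fun _ => 1, 1, by rw [card_singleton, hn1], ?_, fun χ hχ => ?_, Or.inl rfl,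
      fun θ _ => by rw [hdeg, hn1]; rfl, fun θ θ' _ _ g hg => by rw [hag θ g hg, hag θ' g hg],
      fun θ _ g hg => by simp [hag θ g hg, hag one g hg]⟩
    · rw [← hcY, card_compl, card_compl, card_singleton, T.card_X, hn1]
    · rw [mem_singleton] at hχ
      subst hχ
      exact ⟨Or.inl rfl, by rw [hdeg1], fun x _ _ y _ _ => by rw [hone1]; simp⟩
  -- the trivial character is not exceptional
  have hone : one ∈ X := by
    by_contra ho
    have hYone : 1 < (Xᶜ).card := by
      refine lt_of_le_of_ne (card_pos.2 ⟨one, mem_compl.2 ho⟩) fun h => ho (hx₀ ?_)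
      rw [← h, mul_one] at hcY
      exact (hS : Nat.card P = p).trans hcY.symm
    obtain ⟨y, hy, hy1⟩ := exists_mem_ne hYone one
    have hag : ∀ g : G, ¬ p ∣ orderOf g → ((y : IrrCharacter G) : G → ℂ) g = 1 := fun g hg => by
      rw [T.agree V (mem_compl.1 hy) ho hg, hone1]
    obtain ⟨lam, hlam⟩ := CfsgLib.Char.IsCharacter.exists_hom (isCharacter_irr y.1)
      (hag 1 (by rw [orderOf_one]; exact hp.not_dvd_one))
    haveI : Nontrivial P := (Subgroup.nontrivial_iff_ne_bot P).2 hP1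
    obtain ⟨u, hu⟩ := exists_ne (1 : P)
    have hu' : (u : G) ≠ 1 := fun h => hu (Subtype.ext h)
    set z : G := t * (u : G) * t⁻¹ * (u : G)⁻¹
    have hzP : z ∈ P := P.mul_mem (by simpa using Sd.conj_mem 1 u.2) (P.inv_mem u.2)
    have hz1 : z ≠ 1 := fun h => hn1 (Nat.eq_one_of_dvd_one (Sd.free (l := 1) u.2 hu'
      (by rw [pow_one]; exact mul_inv_eq_one.1 h)))
    have hlamz : lam z = 1 := by
      simp only [z, map_mul, map_inv]
      rw [mul_comm (lam t) (lam (u : G)), mul_inv_cancel_right, mul_inv_cancel]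
    have hPtriv : ∀ w ∈ P, lam w = 1 := by
      intro w hw
      have hgen : Z[(⟨z, hzP⟩ : P)] = ⊤ := zpowers_eq_top_of_prime_card (h := hS) (fun h =>
        hz1 (congrArg Subtype.val h))
      obtain ⟨i, hi⟩ := Subgroup.mem_zpowers_iff.1 (hgen ▸ Subgroup.mem_top (⟨w, hw⟩ : P))
      have hi' : z ^ i = w := congrArg Subtype.val hi
      rw [← hi', map_zpow, hlamz, _root_.one_zpow]
    refine hy1 (Subtype.ext (Subtype.ext (funext fun g => ?_)))
    rw [hone1, hlam]
    obtain ⟨x, s, hxs, rfl⟩ := exists_pElt p g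
    show ((lam (x * s) : ℂˣ) : ℂ) = 1
    rw [map_mul, Units.val_mul]
    have hls : ((lam s : ℂˣ) : ℂ) = 1 := by
      have := hag s hxs.reg
      rwa [hlam] at this
    obtain ⟨Q, hQ⟩ := hxs.isPGroup.exists_le_sylow
    obtain ⟨r, hr⟩ := MulAction.exists_smul_eq G Q S
    have hxr : r * x * r⁻¹ ∈ P := by
      rw [hPdef, ← hr]
      exact ⟨x, hQ (Subgroup.mem_zpowers x), rfl⟩
    have hlx : lam x = 1 := by
      have h := hPtriv _ hxr
      rwa [map_mul, map_mul, map_inv, mul_comm (lam r) (lam x), mul_inv_cancel_right] at h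
    rw [hlx, hls]; simp
  set δ₁ := δ one
  have hδ₁ : δ₁ * δ₁ = 1 := by rcases T.sign one hone with e | e <;> rw [show δ₁ = δ one from rfl, e] <;> rfl
  refine ⟨X, fun χ => δ₁ * δ χ, -(δ₁ * δ₀), T.card_X, hcY, fun χ hχ => ⟨?_, ?_, ?_⟩, ?_,
    fun θ hθ => ?_, fun θ θ' hθ hθ' g hg => T.agree V hθ hθ' hg, fun θ hθ g hg => ?_⟩
  · rcases T.sign χ hχ with e | e <;> rcases T.sign one hone with e' | e' <;> simp [δ₁, e, e']
  · have h := ((T.cong_X V hχ hone).of_dvd hpN).mul_left (δ χ)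
    rw [hdeg1, mul_one, ← mul_assoc,
      show δ χ * δ χ = 1 by rcases T.sign χ hχ with e | e <;> rw [e] <;> rfl, one_mul,
      mul_comm] at h
    exact h
  · refine hvalue χ _ fun u hu => ?_
    rw [T.val_X χ hχ u hu, T.val_X one hone u hu]
    have : ((δ₁ : ℤ) : ℂ) * δ₁ = 1 := by exact_mod_cast hδ₁
    push_cast
    linear_combination (δ χ : ℂ) * this
  · rcases T.sign₀ with e | e <;> rcases T.sign one hone with e' | e' <;> simp [δ₁, e, e']
  · refine ((T.cong_Y V hone hθ).of_dvd hpN).trans ?_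
    rw [hdeg1, show -((n : ℤ) * δ₀ * δ one * 1) = -(δ₁ * δ₀) * (n : ℤ) by ring]
  · have h := T.reg θ hθ g hg
    push_cast
    simp only [mul_assoc, ← mul_sum]
    linear_combination -(δ₁ : ℂ) * h

end CfsgLib.Cyclic
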