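import Cfsg.Agent.BrauerPairs.Reduction
import Mathlib.LinearAlgebra.FiniteDimensional.Lemmas
import Mathlib.LinearAlgebra.Matrix.ToLin
import Mathlib.LinearAlgebra.Matrix.NonsingularInverse
import Mathlib.LinearAlgebra.Projection
import Mathlib.LinearAlgebra.Eigenspace.Triangularizable
import Mathlib.LinearAlgebra.Eigenspace.Semisimple
import Mathlib.LinearAlgebra.Semisimple
import Mathlib.LinearAlgebra.Dual.Lemmas

/-!
# Linear algebra for blocks with cyclic defect groups

Independence lifts along reduction at `M`; a nilpotent operator normalised by an operator of finite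
order prime to the characteristic has an equivariant idempotent separating two independent kernel
vectors.
-/

set_option autoImplicit false
set_option linter.style.haveILetI false
set_option linter.unusedSectionVars false

namespace CfsgLib.Cyclic

open Cfsg CfsgLib.Block CfsgLib.BrauerPairs Module

universe u v

section lifting

variable {M : Ideal AlgInt} [M.IsPrime]

theorem red_coe (a : localRing M) : red M (a : ℂ) = res M a := red_eq a.2

/-- Reductions which are independent come from independent vectors. -/
theorem independent_of_red {ι κ : Type*} [Fintype ι] [Fintype κ] (v : ι → κ → localRing M)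
    (h : LinearIndependent (Residue M) fun i x => res M (v i x)) :
    LinearIndependent ℂ fun i x => (v i x : ℂ) := by
  classical
  obtain ⟨g, hg⟩ := LinearMap.exists_leftInverse_of_injective
    (Fintype.linearCombination (Residue M) fun i x => res M (v i x))
    (LinearMap.ker_eq_bot.2 fun c d hcd => funext (Fintype.linearIndependent_iffₛ.1 h c d
      (by simpa [Fintype.linearCombination_apply] using hcd)))
  have hPhi : ∀ i j, ∑ x, g (Pi.single x 1) j * res M (v i x) = if i = j then 1 else 0 := by
    intro i j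
    have h1 := LinearMap.congr_fun hg (Pi.single i 1)
    rw [LinearMap.comp_apply, Fintype.linearCombination_apply_single, one_smul,
      LinearMap.id_apply] at h1
    have h2 : (fun x => res M (v i x)) = ∑ x, res M (v i x) • Pi.single x (1 : Residue M) := by
      funext y; simp [Pi.single_apply]
    rw [h2, map_sum] at h1
    have h3 := congrFun h1 j
    simp only [map_smul, Finset.sum_apply, Pi.smul_apply, smul_eq_mul, Pi.single_apply] at h3
    rw [eq_comm (a := i)]
    exact (Finset.sum_congr rfl fun x _ => mul_comm _ _).trans h3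
  choose L hL using (Ideal.Quotient.mk_surjective : Function.Surjective (res M))
  let Φ : Matrix κ ι (localRing M) := Matrix.of fun x j => L (g (Pi.single x 1) j)
  let A : Matrix ι ι (localRing M) := Matrix.of v * Φ
  have hA : A.map (res M) = 1 := by
    ext i j
    simp only [A, Φ, Matrix.map_apply, Matrix.mul_apply, Matrix.of_apply, map_sum, map_mul,
      show ∀ y, res M (L y) = y from hL, Matrix.one_apply]
    rw [← hPhi i j]
    exact Finset.sum_congr rfl fun x _ => mul_comm _ _
  have hdet : (A.map (localRing M).subtype).det ≠ 0 := by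
    rw [← RingHom.mapMatrix_apply, ← RingHom.map_det]
    intro h0
    have h1 : res M A.det = 1 := by
      rw [RingHom.map_det, RingHom.mapMatrix_apply, hA, Matrix.det_one]
    have h2 : A.det = 0 := Subtype.coe_injective h0
    rw [h2, map_zero] at h1
    exact zero_ne_one h1
  rw [Fintype.linearIndependent_iff]
  intro c hc
  have h0 : Matrix.vecMul c (A.map (localRing M).subtype) = 0 := by
    funext j
    simp only [A, Φ, Matrix.vecMul, dotProduct, Matrix.map_apply, Matrix.mul_apply, Matrix.of_apply,
      map_sum, map_mul, Finset.mul_sum]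
    rw [Finset.sum_comm]
    refine Finset.sum_eq_zero fun x _ => ?_
    have h1 := congrFun hc x
    simp only [Finset.sum_apply, Pi.smul_apply, smul_eq_mul, Pi.zero_apply] at h1
    rw [Finset.sum_congr rfl fun i _ => (mul_assoc (c i) _ _).symm, ← Finset.sum_mul]
    simp [h1]
  exact congrFun (Matrix.eq_zero_of_vecMul_eq_zero hdet h0)

theorem finrank_red_le {ι κ : Type*} [Fintype ι] [Fintype κ] (v : ι → κ → localRing M) :
    finrank (Residue M) (Submodule.span (Residue M) (Set.range fun i x => res M (v i x))) ≤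
      finrank ℂ (Submodule.span ℂ (Set.range fun i x => (v i x : ℂ))) := by
  classical
  obtain ⟨s, hs, hspan, hli⟩ := exists_linearIndependent (Residue M)
    (Set.range fun i x => res M (v i x))
  haveI : Fintype s := ((Set.finite_range _).subset hs).fintype
  choose f hf using fun y : s => hs y.2
  have h1 : LinearIndependent ℂ fun y : s => fun x => (v (f y) x : ℂ) :=
    independent_of_red (fun y => v (f y)) (by
      rw [show (fun (y : s) x => res M (v (f y) x)) = Subtype.val from funext hf]
      exact hli)
  rw [← hspan, finrank_span_set_eq_card hli, Set.toFinset_card,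
    ← finrank_span_eq_card h1]
  refine Submodule.finrank_mono (Submodule.span_mono ?_)
  rintro _ ⟨y, rfl⟩
  exact ⟨f y, rfl⟩

/-- An idempotent over the local ring has the same rank over `ℂ` and over the residue field. -/
theorem rank_res_eq {κ : Type*} [Fintype κ] [DecidableEq κ] {Q : Matrix κ κ (localRing M)}
    (hQ : Q * Q = Q) :
    (finrank (Residue M) (LinearMap.range (Q.map (res M)).mulVecLin) : ℂ) =
      ∑ x, (Q x x : ℂ) := by
  classical
  have hle : ∀ R : Matrix κ κ (localRing M),
      finrank (Residue M) (LinearMap.range (R.map (res M)).mulVecLin) ≤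
        finrank ℂ (LinearMap.range (R.map (localRing M).subtype).mulVecLin) := by
    intro R
    rw [Matrix.range_mulVecLin, Matrix.range_mulVecLin]
    exact finrank_red_le fun i x => R x i
  have hid : ∀ {K : Type} [Field K] (P : Matrix κ κ K), P * P = P →
      finrank K (LinearMap.range P.mulVecLin) + finrank K (LinearMap.range (1 - P).mulVecLin) =
        Fintype.card κ := by
    intro K _ P hP
    have hker : LinearMap.range (1 - P).mulVecLin = LinearMap.ker P.mulVecLin := by
      ext w
      simp only [LinearMap.mem_range, LinearMap.mem_ker, Matrix.mulVecLin_apply]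
      constructor
      · rintro ⟨y, rfl⟩
        rw [Matrix.mulVec_mulVec, mul_sub, mul_one, hP, sub_self, Matrix.zero_mulVec]
      · intro hw
        exact ⟨w, by rw [Matrix.sub_mulVec, Matrix.one_mulVec, hw, sub_zero]⟩
    rw [hker, LinearMap.finrank_range_add_finrank_ker, Module.finrank_pi]
  set P := Q.map (localRing M).subtype with hPdef
  have hP : P * P = P := by rw [hPdef, ← Matrix.map_mul, hQ]
  have hR : Q.map (res M) * Q.map (res M) = Q.map (res M) := by rw [← Matrix.map_mul, hQ]
  have h1 := hle Q
  have h2 := hle (1 - Q)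
  rw [Matrix.map_sub _ (map_sub _), Matrix.map_sub _ (map_sub _),
    Matrix.map_one _ (map_zero _) (map_one _), Matrix.map_one _ (map_zero _) (map_one _)] at h2
  have h3 := hid P hP
  rw [← hPdef] at h1 h2
  have h4 : finrank (Residue M) (LinearMap.range (Q.map (res M)).mulVecLin) +
      finrank (Residue M) (LinearMap.range (1 - Q.map (res M)).mulVecLin) = Fintype.card κ := by
    have hker : LinearMap.range (1 - Q.map (res M)).mulVecLin =
        LinearMap.ker (Q.map (res M)).mulVecLin := by
      ext w
      simp only [LinearMap.mem_range, LinearMap.mem_ker, Matrix.mulVecLin_apply]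
      constructor
      · rintro ⟨y, rfl⟩
        rw [Matrix.mulVec_mulVec, mul_sub, mul_one, hR, sub_self, Matrix.zero_mulVec]
      · intro hw
        exact ⟨w, by rw [Matrix.sub_mulVec, Matrix.one_mulVec, hw, sub_zero]⟩
    rw [hker, LinearMap.finrank_range_add_finrank_ker, Module.finrank_pi]
  rw [show finrank (Residue M) (LinearMap.range (Q.map (res M)).mulVecLin) =
    finrank ℂ (LinearMap.range P.mulVecLin) from by omega]
  have hproj : LinearMap.IsProj (LinearMap.range P.mulVecLin) P.mulVecLin :=
    ⟨fun c => LinearMap.mem_range_self _ c, by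
      rintro _ ⟨c, rfl⟩; simp [Matrix.mulVec_mulVec, hP]⟩
  rw [← hproj.trace, ← Matrix.toLin'_apply', Matrix.trace_toLin'_eq]
  rfl

end lifting

section chains

variable {k : Type v} [Field k]

/-- Eigenvectors of an operator of finite order detect nonvanishing of functionals. -/
theorem exists_eigen_pair {V W : Type u} [AddCommGroup V] [Module k V] [FiniteDimensional k V]
    [AddCommGroup W] [Module k W] [IsAlgClosed k] {o : ℕ} (ho : (o : k) ≠ 0) {τ : End k V}
    (hτ : τ ^ o = 1) (F : V →ₗ[k] W) (hF : F ≠ 0) :
    ∃ (y : V) (α : k), τ y = α • y ∧ α ^ o = 1 ∧ F y ≠ 0 := by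
  by_contra h
  push_neg at h
  apply hF
  have hss : (⨆ α : k, τ.eigenspace α) = ⊤ := by
    have h1 : (Polynomial.X ^ o - Polynomial.C (1 : k)).Separable :=
      Polynomial.separable_X_pow_sub_C 1 ho one_ne_zero
    have h2 : τ.IsFinitelySemisimple := by
      refine Module.End.isFinitelySemisimple_iff_isSemisimple.2 ?_
      refine Module.End.isSemisimple_of_squarefree_aeval_eq_zero h1.squarefree ?_
      simp [hτ]
    simp_rw [← h2.maxGenEigenspace_eq_eigenspace]
    exact Module.End.iSup_maxGenEigenspace_eq_top τ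
  refine LinearMap.ext fun x => ?_
  have hx : x ∈ (⨆ α : k, τ.eigenspace α) := hss ▸ Submodule.mem_top
  induction hx using Submodule.iSup_induction' with
  | mem α y hy =>
    rw [Module.End.mem_eigenspace_iff] at hy
    by_cases hy0 : y = 0
    · simp [hy0]
    refine h y α hy ?_
    have hpow : ∀ j : ℕ, (τ ^ j) y = α ^ j • y := fun j => by
      induction j with
      | zero => simp
      | succ j ih => rw [pow_succ', Module.End.mul_apply, ih, map_smul, hy, smul_smul, pow_succ]
    have := hpow o
    rw [hτ, Module.End.one_apply] at this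
    exact (smul_left_injective k hy0 (this.symm.trans (one_smul k y).symm))
  | zero => simp
  | add a b _ _ ha hb => simp [map_add, ha, hb]

/-- **Equivariant splitting of a nilpotent operator.** -/
theorem exists_separating_idem [IsAlgClosed k] {m o : ℕ} (hm : 0 < m) (ho : (o : k) ≠ 0) {ζ : k}
    (hζ : ζ ≠ 0) :
    ∀ (d : ℕ) (V : Type u) [AddCommGroup V] [Module k V] [FiniteDimensional k V],
      finrank k V = d → ∀ (N τ : End k V), N ^ m = 0 → τ ^ o = 1 → τ * N = ζ • (N * τ) →
      ∀ v w : V, N v = 0 → N w = 0 → (∀ a b : k, a • v + b • w ∈ LinearMap.range (N ^ (m - 1)) →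
        a = 0 ∧ b = 0) →
      ∃ π : End k V, Commute π N ∧ Commute π τ ∧
        ∀ c : k, ∃ u : V, N u = 0 ∧ π u - c • u ∉ LinearMap.range (N ^ (m - 1)) := by
  intro d
  induction d using Nat.strong_induction_on with
  | _ d ih =>
  intro V _ _ _ hd N τ hN hτ hτN v w hv hw hvw
  classical
  have hV : v ≠ 0 := fun h0 => one_ne_zero (hvw 1 0 (by simp [h0])).1
  have hex : ∃ h, N ^ h = 0 := ⟨m, hN⟩
  set h := Nat.find hex
  have hh : N ^ h = 0 := Nat.find_spec hex
  have hhm : h ≤ m := Nat.find_min' hex hN
  have hh0 : h ≠ 0 := fun e => by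
    rw [e, pow_zero] at hh
    exact hV (by simpa using LinearMap.congr_fun hh v)
  have hF : N ^ (h - 1) ≠ 0 := Nat.find_min hex (Nat.sub_one_lt hh0)
  obtain ⟨y, α, hy, hαo, hy1⟩ := exists_eigen_pair ho hτ (N ^ (h - 1)) hF
  have hτNj : ∀ (j : ℕ) (u : V), τ ((N ^ j) u) = ζ ^ j • (N ^ j) (τ u) := fun j => by
    induction j with
    | zero => simp
    | succ j ij =>
      intro u
      have := LinearMap.congr_fun hτN ((N ^ j) u)
      simp only [Module.End.mul_apply, LinearMap.smul_apply] at this
      rw [pow_succ' N, Module.End.mul_apply, this, ij, map_smul, smul_smul, pow_succ' ζ]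
      rfl
  set top := (N ^ (h - 1)) y
  obtain ⟨φ0, hφ0⟩ : ∃ φ0 : Dual k V, φ0 top ≠ 0 := by
    by_contra hall
    push_neg at hall
    exact hy1 ((Module.forall_dual_apply_eq_zero_iff k top).1 hall)
  set β := ζ ^ (h - 1) * α
  have htop : τ top = β • top := by rw [hτNj, hy, map_smul, smul_smul]
  have hpow : ∀ j : ℕ, (τ ^ j) top = β ^ j • top := fun j => by
    induction j with
    | zero => simp
    | succ j ij => rw [pow_succ', Module.End.mul_apply, ij, map_smul, htop, smul_smul, pow_succ]
  have hβo : β ^ o = 1 := by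
    have := hpow o
    rw [hτ, Module.End.one_apply] at this
    exact smul_left_injective k (show top ≠ 0 from hy1) (this.symm.trans (one_smul k top).symm)
  have ho0 : o ≠ 0 := fun e => ho (by simp [e])
  have hβ0 : β ≠ 0 := fun e => by rw [e, zero_pow ho0] at hβo; exact zero_ne_one hβo
  let g : ℕ → Dual k V := fun j => (β⁻¹) ^ j • φ0.comp (τ ^ j)
  set φ : Dual k V := ∑ j ∈ Finset.range o, g j with hφdef
  have hg : g o = g 0 := by simp [g, inv_pow, hβo, hτ]
  have hφτ : φ.comp τ = β • φ := by
    have h1 : ∀ j, (g j).comp τ = β • g (j + 1) := fun j => by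
      simp only [g, LinearMap.smul_comp, smul_smul, LinearMap.comp_assoc, pow_succ τ j,
        Module.End.mul_eq_comp]
      congr 1
      rw [pow_succ', ← mul_assoc, mul_inv_cancel₀ hβ0, one_mul]
    rw [hφdef, show (∑ j ∈ Finset.range o, g j).comp τ = ∑ j ∈ Finset.range o, (g j).comp τ from
      LinearMap.ext fun u => by simp [LinearMap.sum_apply],
      Finset.sum_congr rfl fun j _ => h1 j, ← Finset.smul_sum]
    congr 1
    have h2 : ∑ j ∈ Finset.range o, g (j + 1) + g 0 = ∑ j ∈ Finset.range o, g j + g o := by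
      rw [← Finset.sum_range_succ', Finset.sum_range_succ]
    rw [hg] at h2
    exact add_right_cancel h2
  have hφtop : φ top ≠ 0 := by
    simp only [hφdef, g, LinearMap.sum_apply, LinearMap.smul_apply, LinearMap.comp_apply, hpow,
      map_smul, smul_eq_mul, ← mul_assoc, ← mul_pow, inv_mul_cancel₀ hβ0, one_pow, one_mul,
      Finset.sum_const, Finset.card_range, nsmul_eq_mul]
    exact mul_ne_zero ho hφ0
  -- the chain through `y` and its complement
  let L : (Fin h → k) →ₗ[k] V := Fintype.linearCombination k fun j : Fin h => (N ^ (j : ℕ)) y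
  let Φ : V →ₗ[k] (Fin h → k) := LinearMap.pi fun j => φ.comp (N ^ (j : ℕ))
  have hbig : ∀ j, h ≤ j → N ^ j = 0 := fun j hj => by
    rw [← Nat.sub_add_cancel hj, pow_add, hh, mul_zero]
  have hinj : Function.Injective (Φ ∘ₗ L) := by
    rw [← LinearMap.ker_eq_bot, Submodule.eq_bot_iff]
    intro c hc
    by_contra hne
    obtain ⟨j0, hj0⟩ : ∃ j : Fin h, c j ≠ 0 := Function.ne_iff.1 hne
    obtain ⟨j1, hj1, hmin⟩ := Finset.exists_min_image
      (Finset.univ.filter fun j : Fin h => c j ≠ 0) id ⟨j0, by simp [hj0]⟩
    simp only [Finset.mem_filter, Finset.mem_univ, true_and] at hj1 hmin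
    have h1 := congrFun (LinearMap.mem_ker.1 hc) ⟨h - 1 - (j1 : ℕ), by omega⟩
    simp only [LinearMap.comp_apply, L, Φ, Fintype.linearCombination_apply, LinearMap.pi_apply,
      map_sum, map_smul, ← Module.End.mul_apply, ← pow_add, Pi.zero_apply, smul_eq_mul] at h1
    rw [Finset.sum_eq_single j1] at h1
    · rw [show h - 1 - (j1 : ℕ) + j1 = h - 1 by omega] at h1
      exact mul_ne_zero hj1 hφtop h1
    · intro j _ hne'
      rcases eq_or_ne (c j) 0 with h0 | h0
      · rw [h0, zero_mul]
      · have : (j1 : ℕ) ≤ j := hmin j h0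
        have : (j : ℕ) ≠ j1 := fun e => hne' (Fin.ext e)
        rw [hbig _ (by omega), LinearMap.zero_apply, map_zero, mul_zero]
    · simp
  let E : (Fin h → k) ≃ₗ[k] (Fin h → k) := LinearEquiv.ofInjectiveEndo (Φ ∘ₗ L) hinj
  let π0 : End k V := L ∘ₗ E.symm.toLinearMap ∘ₗ Φ
  have hπΦ : ∀ u, Φ (π0 u) = Φ u := fun u => E.apply_symm_apply (Φ u)
  have hπidem : ∀ u, π0 (π0 u) = π0 u := fun u => by
    show L (E.symm (Φ (π0 u))) = _
    rw [hπΦ]
    rfl
  have hdec : ∀ u, Φ (u - π0 u) = 0 := fun u => by rw [map_sub, hπΦ, sub_self]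
  have huniq : ∀ u u1, u1 ∈ LinearMap.range L → Φ (u - u1) = 0 → π0 u = u1 := by
    rintro u _ ⟨c, rfl⟩ h0
    rw [map_sub, sub_eq_zero] at h0
    show L (E.symm (Φ u)) = L c
    congr 1
    rw [LinearEquiv.symm_apply_eq]
    exact h0
  have hUN : ∀ u ∈ LinearMap.range L, N u ∈ LinearMap.range L := by
    rintro _ ⟨c, rfl⟩
    simp only [L, Fintype.linearCombination_apply, map_sum, map_smul, ← Module.End.mul_apply,
      ← pow_succ']
    refine Submodule.sum_mem _ fun j _ => Submodule.smul_mem _ _ ?_
    by_cases hj : (j : ℕ) + 1 < h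
    · exact ⟨Pi.single ⟨(j : ℕ) + 1, hj⟩ 1, by simp [Fintype.linearCombination_apply_single]⟩
    · rw [hbig _ (by omega), LinearMap.zero_apply]
      exact Submodule.zero_mem _
  have hUτ : ∀ u ∈ LinearMap.range L, τ u ∈ LinearMap.range L := by
    rintro _ ⟨c, rfl⟩
    refine ⟨fun j => c j * (ζ ^ (j : ℕ) * α), ?_⟩
    simp only [L, Fintype.linearCombination_apply, map_sum, map_smul, hτNj, hy, smul_smul]
  have hKN : ∀ u, Φ u = 0 → Φ (N u) = 0 := fun u h0 => funext fun j => by
    simp only [Φ, LinearMap.pi_apply, LinearMap.comp_apply, ← Module.End.mul_apply, ← pow_succ,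
      Pi.zero_apply]
    by_cases hj : (j : ℕ) + 1 < h
    · exact congrFun h0 ⟨(j : ℕ) + 1, hj⟩
    · rw [hbig _ (by omega), LinearMap.zero_apply, map_zero]
  have hKτ : ∀ u, Φ u = 0 → Φ (τ u) = 0 := fun u h0 => funext fun j => by
    have h1 := LinearMap.congr_fun hφτ ((N ^ (j : ℕ)) u)
    simp only [LinearMap.comp_apply, LinearMap.smul_apply, hτNj, map_smul, smul_eq_mul] at h1
    have h2 : φ ((N ^ (j : ℕ)) u) = 0 := congrFun h0 j
    rw [h2, mul_zero] at h1
    exact (mul_eq_zero.1 h1).resolve_left (pow_ne_zero _ hζ)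
  have hπN : ∀ u, π0 (N u) = N (π0 u) := fun u =>
    huniq _ _ (hUN _ ⟨_, rfl⟩) (by rw [← map_sub]; exact hKN _ (hdec u))
  have hπτ : ∀ u, π0 (τ u) = τ (π0 u) := fun u =>
    huniq _ _ (hUτ _ ⟨_, rfl⟩) (by rw [← map_sub]; exact hKτ _ (hdec u))
  have hline : ∀ u ∈ LinearMap.range L, N u = 0 → ∃ c : k, u = c • top := by
    rintro _ ⟨c, rfl⟩ h0
    refine ⟨c ⟨h - 1, Nat.sub_one_lt hh0⟩, ?_⟩
    have hc : ∀ j : Fin h, (j : ℕ) + 1 < h → c j = 0 := by
      intro j0 hj0
      by_contra hne
      obtain ⟨j1, hj1, hmin⟩ := Finset.exists_min_image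
        (Finset.univ.filter fun j : Fin h => c j ≠ 0) id ⟨j0, by simp [hne]⟩
      simp only [Finset.mem_filter, Finset.mem_univ, true_and] at hj1 hmin
      have hle : (j1 : ℕ) ≤ j0 := hmin j0 hne
      have h1 := congrArg (fun u => φ ((N ^ (h - 2 - (j1 : ℕ))) u)) h0
      simp only [L, Fintype.linearCombination_apply, map_sum, map_smul, ← Module.End.mul_apply,
        ← pow_succ', ← pow_add, map_zero, smul_eq_mul] at h1
      rw [Finset.sum_eq_single j1] at h1
      · rw [show h - 2 - (j1 : ℕ) + (j1 + 1) = h - 1 by omega] at h1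
        exact mul_ne_zero hj1 hφtop h1
      · intro j _ hne'
        rcases eq_or_ne (c j) 0 with h0 | h0
        · rw [h0, zero_mul]
        · have : (j1 : ℕ) ≤ j := hmin j h0
          have : (j : ℕ) ≠ j1 := fun e => hne' (Fin.ext e)
          rw [hbig _ (by omega), LinearMap.zero_apply, map_zero, mul_zero]
      · simp
    simp only [L, Fintype.linearCombination_apply]
    rw [Finset.sum_eq_single (⟨h - 1, Nat.sub_one_lt hh0⟩ : Fin h)]
    · intro j _ hne
      rw [hc j (by have : (j : ℕ) ≠ h - 1 := fun e => hne (Fin.ext e); omega), zero_smul]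
    · simp
  have htopN : N top = 0 := by
    rw [← Module.End.mul_apply, ← pow_succ', Nat.sub_add_cancel (by omega : 1 ≤ h), hh,
      LinearMap.zero_apply]
  have htopU : top ∈ LinearMap.range L :=
    ⟨Pi.single ⟨h - 1, Nat.sub_one_lt hh0⟩ 1, by simp [L, Fintype.linearCombination_apply_single, top]⟩
  have hkerπ : ∀ u, N u = 0 → N (π0 u) = 0 := fun u hu => by rw [← hπN, hu, map_zero]
  rcases hhm.lt_or_eq with hlt | heq
  · -- the image of `N ^ (m - 1)` vanishes
    have hIm : LinearMap.range (N ^ (m - 1)) = ⊥ := by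
      rw [hbig _ (by omega), LinearMap.range_zero]
    refine ⟨π0, LinearMap.ext fun u => hπN u, LinearMap.ext fun u => hπτ u, fun c => ?_⟩
    by_contra hall
    push_neg at hall
    simp only [hIm, Submodule.mem_bot, sub_eq_zero] at hall
    have hc1 : c = 1 := by
      have h1 := hall top htopN
      rw [huniq top top htopU (by simp)] at h1
      exact smul_left_injective k (show top ≠ 0 from hy1) (h1.symm.trans (one_smul k top).symm)
    subst hc1
    simp only [one_smul] at hall
    obtain ⟨cv, hcv⟩ := hline v (hall v hv ▸ ⟨_, rfl⟩) hv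
    obtain ⟨cw, hcw⟩ := hline w (hall w hw ▸ ⟨_, rfl⟩) hw
    have h1 := hvw cw (-cv) (by
      rw [hcv, hcw, smul_smul, smul_smul, ← add_smul, show cw * cv + -cv * cw = (0 : k) by ring,
        zero_smul]
      exact Submodule.zero_mem _)
    exact hV (by rw [hcv, neg_eq_zero.1 h1.2, zero_smul])
  · -- recursion on the complement
    let K : Submodule k V := LinearMap.ker Φ
    let NK : End k K := N.restrict fun u hu => hKN u hu
    let τK : End k K := τ.restrict fun u hu => hKτ u hu
    let v' : K := ⟨v - π0 v, hdec v⟩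
    let w' : K := ⟨w - π0 w, hdec w⟩
    have hNK : ∀ (j : ℕ) (u : K), (((NK ^ j) u : K) : V) = (N ^ j) (u : V) := fun j u => by
      induction j with
      | zero => simp
      | succ j ij =>
        rw [pow_succ', Module.End.mul_apply, pow_succ', Module.End.mul_apply, ← ij]
        rfl
    have hlineIm : ∀ u ∈ LinearMap.range L, N u = 0 → u ∈ LinearMap.range (N ^ (m - 1)) := by
      intro u hu h0
      obtain ⟨c, rfl⟩ := hline u hu h0
      exact ⟨c • y, by rw [map_smul, ← heq]⟩
    have hdim : finrank k K < d := by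
      rw [← hd]
      refine Submodule.finrank_lt fun hK => ?_
      have h1 : Φ top = 0 := by
        rw [← LinearMap.mem_ker]
        show top ∈ K
        rw [hK]; trivial
      exact hφtop (by simpa [Φ] using congrFun h1 ⟨0, by omega⟩)
    have hτKpow : ∀ (j : ℕ) (u : K), (((τK ^ j) u : K) : V) = (τ ^ j) (u : V) := fun j u => by
      induction j with
      | zero => simp
      | succ j ij =>
        rw [pow_succ', Module.End.mul_apply, pow_succ', Module.End.mul_apply, ← ij]
        rfl
    obtain ⟨πK, hπKN, hπKτ, hsep⟩ := ih _ hdim K rfl NK τK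
      (LinearMap.ext fun u => Subtype.ext (by rw [hNK, hN]; rfl))
      (LinearMap.ext fun u => Subtype.ext (by rw [hτKpow, hτ]; rfl))
      (LinearMap.ext fun u => Subtype.ext (LinearMap.congr_fun hτN (u : V)))
      v' w' (Subtype.ext (by show N (v - π0 v) = 0; rw [map_sub, hv, hkerπ v hv, sub_zero]))
      (Subtype.ext (by show N (w - π0 w) = 0; rw [map_sub, hw, hkerπ w hw, sub_zero]))
      (fun a b hab => by
        refine hvw a b ?_
        obtain ⟨z, hz⟩ := hab
        have hz' : (N ^ (m - 1)) (z : V) = a • (v - π0 v) + b • (w - π0 w) := by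
          rw [← hNK, hz]; rfl
        have h1 : π0 (a • v + b • w) ∈ LinearMap.range (N ^ (m - 1)) :=
          hlineIm _ ⟨_, rfl⟩ (hkerπ _ (by rw [map_add, map_smul, map_smul, hv, hw]; simp))
        have h2 := Submodule.add_mem _ (LinearMap.mem_range_self (N ^ (m - 1)) (z : V)) h1
        rw [hz', map_add, map_smul, map_smul] at h2
        convert h2 using 1
        module)
    let R : V →ₗ[k] K := (LinearMap.id - π0).codRestrict K fun u => hdec u
    have hRK : ∀ u : K, R (u : V) = u := fun u => Subtype.ext (by
      show (u : V) - π0 u = u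
      rw [huniq (u : V) 0 (Submodule.zero_mem _) (by rw [sub_zero]; exact u.2), sub_zero])
    refine ⟨K.subtype ∘ₗ πK ∘ₗ R, LinearMap.ext fun u => ?_, LinearMap.ext fun u => ?_, fun c => ?_⟩
    · have hR : R (N u) = NK (R u) := Subtype.ext (by
        show N u - π0 (N u) = N (u - π0 u); rw [hπN, map_sub])
      show ((πK (R (N u)) : K) : V) = N ((πK (R u) : K) : V)
      rw [hR, show πK (NK (R u)) = NK (πK (R u)) from LinearMap.congr_fun hπKN (R u)]
      rfl
    · have hR : R (τ u) = τK (R u) := Subtype.ext (by
        show τ u - π0 (τ u) = τ (u - π0 u); rw [hπτ, map_sub])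
      show ((πK (R (τ u)) : K) : V) = τ ((πK (R u) : K) : V)
      rw [hR, show πK (τK (R u)) = τK (πK (R u)) from LinearMap.congr_fun hπKτ (R u)]
      rfl
    · obtain ⟨u, hu, hne⟩ := hsep c
      refine ⟨(u : V), congrArg Subtype.val hu, fun ⟨z, hz⟩ => hne ⟨R z, Subtype.ext ?_⟩⟩
      have h2 : R ((N ^ (m - 1)) z) = (NK ^ (m - 1)) (R z) := by
        clear hne hz
        generalize m - 1 = j
        induction j with
        | zero => simp
        | succ j ij =>
          rw [pow_succ', Module.End.mul_apply, pow_succ', Module.End.mul_apply, ← ij]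
          exact Subtype.ext (by
            show N _ - π0 (N _) = N (_ - π0 _)
            rw [hπN, map_sub]
            rfl)
      rw [← h2, hz]
      have h3 : (K.subtype ∘ₗ πK ∘ₗ R) (u : V) - c • (u : V) = ((πK u - c • u : K) : V) := by
        simp [hRK]
      rw [h3, hRK]

end chains

end CfsgLib.Cyclic
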