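import Cfsg.Agent.BlocksB.Cyclic.Subpairs
import Cfsg.Agent.BlocksB.Star.Nilpotent
import Cfsg.Agent.Blocks.Transport
import Cfsg.Agent.SL2C.AbChar

/-!
# The values of a block with cyclic defect group on its nontrivial subsections
-/

set_option autoImplicit false
set_option linter.style.haveILetI false
set_option linter.unusedSectionVars false

namespace CfsgLib.Cyclic

open Cfsg Finset CfsgLib.Block CfsgLib.Block.Chr CfsgLib.BrauerPairs CfsgLib.BlockStar
  CfsgLib.BlockB CfsgLib.SL2C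
open scoped ComplexConjugate
open scoped Classical

universe u

variable {M : Ideal AlgInt} [M.IsPrime] {p : ℕ} [Fact p.Prime] [CharP (Residue M) p]
  {G : Type u} [Group G] [Fintype G]

local notation "𝕜" => Residue M
local notation "Z[" x "]" => Subgroup.zpowers x
local notation "C[" Q "]" => Subgroup.centralizer (SetLike.coe Q)
local notation "N[" Q "]" => Subgroup.normalizer (SetLike.coe Q)

/-- A value at an idempotent of a subgroup decomposes along the restriction. -/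
theorem val_emb (hM : IsPModular p M) (L : Subgroup G) [Fintype L] [Fintype (IrrCharacter L)]
    (χ : IrrCharacter G) {x s : L} (h : PElt p x s) (h' : PElt p (x : G) (s : G))
    {ε : MonoidAlgebra 𝕜 L} (hε : ε * ε = ε) (hεT : FixBy (Z[x] ⊔ Z[s]) ε) :
    val χ (x : G) (s : G) (emb L ε) = ∑ ξ : IrrCharacter L,
      classInner (fun l : L => (χ : G → ℂ) l) (ξ : L → ℂ) * val ξ x s ε := by
  obtain ⟨b, hb, hbred, hbT⟩ := exists_lift (M := M) (Z[x] ⊔ Z[s]) hε hεT
  have hx := Subgroup.mem_sup_left (T := Z[s]) (Subgroup.mem_zpowers x)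
  have hs := Subgroup.mem_sup_right (S := Z[x]) (Subgroup.mem_zpowers s)
  set φ := MonoidAlgebra.mapDomainAlgHom (localRing M) (localRing M) L.subtype with hφ
  have hred : redA (φ b) = emb L ε := by
    rw [← hbred]
    refine coeff_ext fun g => ?_
    by_cases hg : g ∈ L
    · rw [show g = ((⟨g, hg⟩ : L) : G) from rfl, coeff_emb_coe, coeff_redA, coeff_redA]
      congr 1
      simp only [φ, MonoidAlgebra.mapDomainAlgHom_apply, MonoidAlgebra.coeff_mapDomain]
      exact Finsupp.mapDomain_apply Subtype.coe_injective _ (⟨g, hg⟩ : L)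
    · rw [coeff_redA, coeff_emb_not_mem L _ hg, suppIn_of_map b hg, map_zero]
  have hsingle : ∀ l : L, φ (MonoidAlgebra.single l (1 : localRing M)) =
      MonoidAlgebra.single (l : G) 1 := fun l => by
    simp [φ, MonoidAlgebra.mapDomainAlgHom_apply, MonoidAlgebra.mapDomain_single]
  have hfix : FixBy (Z[(x : G)] ⊔ Z[(s : G)]) (emb L ε) := by
    refine fixBy_sup (fixBy_zpowers ?_) (fixBy_zpowers ?_) <;>
      rw [cj_emb]
    · rw [hεT x hx]
    · rw [hεT s hs]
  rw [val_eq hM χ h' (b := φ b) (by rw [← map_mul, hb]) (hsingle x ▸ (hbT x hx).map φ)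
    (hsingle s ▸ (hbT s hs).map φ) (by rw [← map_mul, hε]) hfix (by rw [hred])]
  have hres : IsClassFunction L (fun l : L => (χ : G → ℂ) l) := fun a g =>
    isClassFunction_irr χ (a : G) (g : G)
  have hcoe : sval χ ((s : G) * x) (φ b) =
      ∑ l : L, (b.coeff l : ℂ) * (χ : G → ℂ) ((l * (s * x) : L) : G) := by
    have h1 : ∀ l : L, (φ b).coeff (l : G) = b.coeff l := fun l => by
      simp only [φ, MonoidAlgebra.mapDomainAlgHom_apply, MonoidAlgebra.coeff_mapDomain]
      exact Finsupp.mapDomain_apply Subtype.coe_injective _ l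
    rw [sval, ← sum_filter_of_ne (p := fun g => g ∈ L) fun g _ hne => by
      by_contra hg
      refine hne ?_
      rw [show (φ b).coeff g = 0 from suppIn_of_map b hg, ZeroMemClass.coe_zero, zero_mul],
      sum_subtype (univ.filter fun g => g ∈ L) (p := fun g => g ∈ L) (by simp)
        (fun g => ((φ b).coeff g : ℂ) * (χ : G → ℂ) (g * ((s : G) * x)))]
    exact sum_congr rfl fun l _ => by rw [h1]; rfl
  rw [hcoe]
  refine (sum_congr rfl fun l _ => congrArg (fun w => (b.coeff l : ℂ) * w)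
    (classFun_expand hres (l * (s * x)))).trans ?_
  simp only [mul_sum]
  rw [sum_comm]
  refine sum_congr rfl fun ξ _ => ?_
  rw [val_eq hM ξ h hb (hbT x hx) (hbT s hs) hε hεT (by rw [hbred]), sval, mul_sum]
  exact sum_congr rfl fun l _ => by ring

/-- Values transport along automorphisms. -/
theorem val_mulEquiv (hM : IsPModular p M) (σ : G ≃* G) (χ : IrrCharacter G) {x s : G}
    (h : PElt p x s) (h' : PElt p (σ x) (σ s)) {ε : MonoidAlgebra 𝕜 G} (hε : ε * ε = ε)
    (hεT : FixBy (Z[x] ⊔ Z[s]) ε) :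
    val χ (σ x) (σ s) (MonoidAlgebra.domCongr 𝕜 𝕜 σ ε) = val (irrComp σ χ) x s ε := by
  obtain ⟨b, hb, hbred, hbT⟩ := exists_lift (M := M) (Z[x] ⊔ Z[s]) hε hεT
  have hx := Subgroup.mem_sup_left (T := Z[s]) (Subgroup.mem_zpowers x)
  have hs := Subgroup.mem_sup_right (S := Z[x]) (Subgroup.mem_zpowers s)
  set Φ := MonoidAlgebra.domCongr (localRing M) (localRing M) σ
  have hΦ : ∀ a, Φ (MonoidAlgebra.single a (1 : localRing M)) =
      MonoidAlgebra.single (σ a) 1 := fun a => by simp [Φ]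
  have hred : redA (Φ b) = MonoidAlgebra.domCongr 𝕜 𝕜 σ ε := by
    rw [← hbred]
    refine coeff_ext fun g => ?_
    simp [Φ]
  have hcj : ∀ a, cj 𝕜 (σ a) (MonoidAlgebra.domCongr 𝕜 𝕜 σ ε) =
      MonoidAlgebra.domCongr 𝕜 𝕜 σ (cj 𝕜 a ε) := fun a => coeff_ext fun g => by
    simp [coeff_cj]
  rw [val_eq hM χ h' (b := Φ b) (by rw [← map_mul, hb]) (hΦ x ▸ (hbT x hx).map Φ)
      (hΦ s ▸ (hbT s hs).map Φ) (by rw [← map_mul, hε])
      (fixBy_sup (fixBy_zpowers (by rw [hcj, hεT x hx])) (fixBy_zpowers (by rw [hcj, hεT s hs])))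
      (by rw [hred]),
    val_eq hM (irrComp σ χ) h hb (hbT x hx) (hbT s hs) hε hεT (by rw [hbred]), sval, sval]
  refine (Fintype.sum_equiv σ.toEquiv _ _ fun y => ?_).symm
  show (b.coeff y : ℂ) * (χ : G → ℂ) (σ (y * (s * x))) =
    ((Φ b).coeff (σ y) : ℂ) * (χ : G → ℂ) (σ y * (σ s * σ x))
  rw [map_mul, map_mul]
  congr 1
  simp [Φ]

/-- The value of a character at the block idempotent of a subsection outside its block. -/
theorem val_eq_zero_of_not_pair (hM : IsPModular p M) {B : Set (IrrCharacter G)}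
    (hB : IsPBlock M B) {χ : IrrCharacter G} (hχ : χ ∈ B) {x s : G} (h : PElt p x s)
    {f : MonoidAlgebra 𝕜 G} (hf : IsBlk 𝕜 C[Z[x]] f)
    (hn : ¬ IsPairOf p (idem M B) (Z[x], f)) : val χ x s f = 0 := by
  haveI := Fintype.ofFinite C[Z[x]]
  obtain ⟨c, hc, rfl⟩ := exists_idemIn_eq hM hf
  rw [val_idemIn hM χ h hc,
    subPart_eq_zero_of_not_pair hM hB hχ (mem_pSet.2 h.pow) hc hn]

/-- The sum of the linear characters with given multiplicities. -/
noncomputable def aval {P : Subgroup G} [Fintype P] (m : (P →* ℂˣ) → ℕ) (u : P) : ℂ :=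
  ∑ l : P →* ℂˣ, (m l : ℂ) * (l u : ℂ)

theorem aval_twist {P : Subgroup G} [Fintype P] (m : (P →* ℂˣ) → ℕ) (ν : P →* ℂˣ) (u : P) :
    aval (fun l => m (l * ν⁻¹)) u = aval m u * (ν u : ℂ) := by
  rw [aval, aval, sum_mul, ← Equiv.sum_comp (Equiv.mulRight ν)]
  refine sum_congr rfl fun l _ => ?_
  simp only [Equiv.coe_mulRight, mul_inv_cancel_right, MonoidHom.mul_apply, Units.val_mul]
  ring

namespace CycData

variable {B : Set (IrrCharacter G)} {P : Subgroup G} {c : Set (IrrCharacter C[P])} {t : G} {n : ℕ}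
  (S : CycData (M := M) p B P c t n)
include S

/-- **The values on the nontrivial subsections.** -/
theorem exists_values [Fintype P] :
    ∃ m : IrrCharacter G → (P →* ℂˣ) → ℕ,
      (∀ χ ψ : IrrCharacter G, ∀ u : P, u ≠ 1 →
        contribR p χ ψ (u : G) (subBlk p P (idemIn M C[P] c) (u : G)) =
          aval (m χ) u * conj (aval (m ψ) u) * (Nat.card P : ℂ)⁻¹) ∧
      ∀ (χ : IrrCharacter G) (u v : P), u ≠ 1 → (v : G) = t * (u : G) * t⁻¹ →
        aval (m χ) v = aval (m χ) u := by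
  have hM := S.hM
  have hab := commute_of_cyclic S.hcyc
  have hP := S.pair
  set e := idemIn M C[P] c
  obtain ⟨k, hk⟩ := IsPGroup.iff_card.mp hP.1
  have hk0 : k ≠ 0 := fun h => S.hP1 (Subgroup.card_eq_one.mp (by rw [hk, h, pow_zero]))
  obtain ⟨⟨z, hz⟩, hzo⟩ := exists_prime_orderOf_dvd_card' (G := P) p (hk ▸ dvd_pow_self p hk0)
  rw [Subgroup.orderOf_mk] at hzo
  have hz1 : z ≠ 1 := fun h =>
    (Fact.out : p.Prime).ne_one (by rw [← hzo, h, orderOf_one])
  set Z := Z[z] with hZ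
  have hZP : Z ≤ P := Subgroup.zpowers_le.mpr hz
  have hZc : Nat.card Z = p := by rw [hZ, Nat.card_zpowers, hzo]
  set L := C[Z] with hL
  have hPC : P ≤ L := fun x hx => Subgroup.mem_centralizer_iff.mpr fun y hy => hab y (hZP hy) x hx
  have hfree : ∀ s ∈ stab P e, s ∈ (C[Z] : Subgroup G) → s ∈ (C[P] : Subgroup G) := fun s hs hsZ =>
    Inertial.free_of_cyclic hM S.hB hP S.maxPair S.hcyc s hs z hz hz1 (mul_inv_eq_iff_eq_mul.2
      (Subgroup.mem_centralizer_iff.1 hsZ z (Subgroup.mem_zpowers z)).symm)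
  obtain ⟨f, hf⟩ := Inertial.exists_inducedIn hM hP.1 S.hc.1 hab hZP
  haveI := Fintype.ofFinite L
  letI := irrFintype (G := L)
  obtain ⟨e', hee', hP', hmax'⟩ := Inertial.local_maxPair hM S.hB hP S.maxPair hab hZP hf
  set P' := P.subgroupOf L with hP'def
  haveI := Fintype.ofFinite P'
  have hfB : IsPBlock M f := hf.2.1
  have hnil : IsNil p (idem M f) := ((isNilpotentBlock_iff hM).1
    (Inertial.isNilpotentBlock_local hM S.hB hP S.maxPair hab hZP hfree hf)).2
  obtain ⟨χ₀, hχ₀, h0⟩ := exists_height_zero hM hfB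
  obtain ⟨Φ, -, hΦ⟩ := exists_characters hM hfB hnil hmax' hχ₀ h0
  have hinner := exists_conj_mem hM hfB hnil hmax'
  let φ : P' ≃* P := Subgroup.subgroupOfEquivOfLe hPC
  have hab' : ∀ a b : P', a * b = b * a := fun a b =>
    Subtype.ext (Subtype.ext (hab _ a.2 _ b.2))
  let Λ : (P →* ℂˣ) ≃ IrrCharacter P' :=
    ({ toFun := fun l => l.comp φ.toMonoidHom, invFun := fun l => l.comp φ.symm.toMonoidHom
       left_inv := fun l => MonoidHom.ext fun a => by simp
       right_inv := fun l => MonoidHom.ext fun a => by simp } :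
      (P →* ℂˣ) ≃ (P' →* ℂˣ)).trans <| CfsgLib.Char.linearCharEquiv.trans
        (Equiv.subtypeUnivEquiv fun χ =>
          CfsgLib.Char.IsIrrCharacter.apply_one_eq_one χ.2 hab')
  have hΛ : ∀ (l : P →* ℂˣ) (u : P'), (Λ l : P' → ℂ) u = (l (φ u) : ℂ) := fun l u => rfl
  -- restriction multiplicities
  have hN : ∀ (χ : IrrCharacter G) (ξ : IrrCharacter L), ∃ m : ℕ,
      classInner (fun l : L => (χ : G → ℂ) l) (ξ : L → ℂ) = (m : ℂ) := fun χ ξ =>
    CfsgLib.Char.IsCharacter.exists_classInner_eq_natCast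
      (CfsgLib.Char.IsCharacter.restrict (isCharacter_irr χ) L) ξ.2
  choose N hN using hN
  -- the pairs inside the centralizer
  let u' : P → L := fun u => ⟨(u : G), hPC u.2⟩
  have hu' : ∀ u : P, u' u ∈ P' := fun u => Subgroup.mem_subgroupOf.2 u.2
  let ε : P → MonoidAlgebra 𝕜 L := fun u => subBlk p P' e' (u' u)
  have hεblk : ∀ u : P, IsBlk 𝕜 C[Z[u' u]] (ε u) := fun u =>
    (PLE.isPair (subBlk_ple hP' (hu' u)) hP').2
  have hmapP : P'.map L.subtype = P := Subgroup.map_subgroupOf_eq_of_le hPC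
  have hCle : ∀ u : P, u ≠ 1 → (C[Z[(u : G)]] : Subgroup G) ≤ L := fun u hu =>
    Subgroup.centralizer_le (SetLike.coe_subset_coe.mpr
      (le_zpowers_of_cyclic hP.1 S.hcyc hZP hZc u.2 fun h => hu (Subtype.ext h)))
  have hmapZ : ∀ u : P, Z[u' u].map L.subtype = Z[(u : G)] := fun u => MonoidHom.map_zpowers _ _
  have hemb : ∀ u : P, u ≠ 1 → emb L (ε u) = subBlk p P e (u : G) := fun u hu => by
    have h1 := ple_embPair L (by rw [hmapZ]; exact hCle u hu) (subBlk_ple hP' (hu' u))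
    rw [show embPair L (P', e') = (P, e) from Prod.ext hmapP hee',
      show embPair L (Z[u' u], ε u) = (Z[(u : G)], emb L (ε u)) from
        Prod.ext (hmapZ u) rfl] at h1
    exact ple_unique hP h1 (subBlk_ple hP u.2)
  have hPE : ∀ (u : P) (s : L), PElt p (u' u) s → PElt p (u : G) (s : G) := fun u s h =>
    ⟨by obtain ⟨j, hj⟩ := h.pow; exact ⟨j, congrArg Subtype.val hj⟩,
      by rw [Subgroup.orderOf_coe]; exact h.reg, h.comm.map L.subtype⟩
  -- the characters outside the block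
  have hout : ∀ ξ : IrrCharacter L, ξ ∉ f → ∀ u s, PElt p (u' u) s → val ξ (u' u) s (ε u) = 0 := by
    intro ξ hξ u s h
    refine val_eq_zero_of_not_pair hM (isPBlock_blockOf ξ) (mem_blockOf_self ξ) h (hεblk u)
      fun hp => hξ ?_
    have h1 : IsPairOf p (idem M f) (Z[u' u], ε u) :=
      (isPairOf_iff_of_ple (isBlk_idem hM hfB) (subBlk_ple hP' (hu' u)) hP').2 hmax'.1
    have h2 := (existsUnique_isPairOf (h1.1)).unique ⟨isBlk_idem hM (isPBlock_blockOf ξ), hp⟩
      ⟨isBlk_idem hM hfB, h1⟩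
    rw [← idem_injective (isPBlock_blockOf ξ) hfB h2]
    exact mem_blockOf_self ξ
  have hval : ∀ (ζ : IrrCharacter P') (u : P) (s : L), PElt p (u' u) s →
      val (Φ ζ : IrrCharacter L) (u' u) s (ε u) =
        (ζ : P' → ℂ) ⟨u' u, hu' u⟩ * val χ₀ (u' u) s (ε u) := by
    intro ζ u s h
    haveI := Fintype.ofFinite C[Z[u' u]]
    obtain ⟨d, hd, hde⟩ := exists_idemIn_eq hM (hεblk u)
    rw [← hde, val_idemIn hM _ h hd, val_idemIn hM _ h hd,
      subPart_starFun hM (hΦ ζ) (mem_pSet.2 h.pow) hd, Pi.smul_apply, smul_eq_mul, hde,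
      weight_of_ple (stable_extend hinner (isClassFunction_irr ζ)) (subBlk_ple hP' (hu' u))]
    congr 1
    exact extend_apply_mem (ζ : P' → ℂ) ⟨u' u, hu' u⟩
  let m0 : IrrCharacter G → (P →* ℂˣ) → ℕ := fun χ l => N χ (Φ (Λ l))
  have hvalG : ∀ (χ : IrrCharacter G) (u : P), u ≠ 1 → ∀ s : L, PElt p (u' u) s →
      val χ (u : G) (s : G) (subBlk p P e (u : G)) = aval (m0 χ) u * val χ₀ (u' u) s (ε u) := by
    intro χ u hu s h
    rw [← hemb u hu, show (u : G) = ((u' u : L) : G) from rfl,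
      val_emb hM L χ h (hPE u s h) (hεblk u).idem ((hεblk u).fixBy.mono (sup_le_cz h)),
      ← sum_subset (subset_univ (univ.filter (· ∈ f))) (fun ξ _ hξ => by
        rw [hout ξ (fun hm => hξ (mem_filter.2 ⟨mem_univ _, hm⟩)) u s h, mul_zero]),
      sum_subtype (univ.filter (· ∈ f)) (p := (· ∈ f)) (by simp)
        (fun ξ : IrrCharacter L => classInner (fun l : L => (χ : G → ℂ) l) (ξ : L → ℂ) *
          val ξ (u' u) s (ε u)), aval, sum_mul, ← (Λ.trans Φ).sum_comp]
    refine sum_congr rfl fun l _ => ?_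
    rw [Equiv.trans_apply, hval _ u s h, hN, hΛ, ← mul_assoc]
    rfl
  -- the contributions
  have hcz : ∀ u : P, u ≠ 1 → (C[Z[u' u]]).map L.subtype = C[Z[(u : G)]] := fun u hu => by
    rw [map_centralizer_subtype L _ (by rw [hmapZ]; exact hCle u hu), hmapZ]
  have hone : ∀ u : P, contribR p χ₀ χ₀ (u' u) (ε u) = (Nat.card P : ℂ)⁻¹ := fun u => by
    have h1 := aFun_eq_one hM hfB hnil hmax' hχ₀ h0 (hu' u)
    have hI : P' ⊓ C[Z[u' u]] = P' := inf_eq_left.2 fun y hy => mem_cz.2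
      (Subtype.ext (hab _ hy _ u.2))
    rw [aFun, hI, Nat.card_congr φ.toEquiv] at h1
    exact eq_inv_of_mul_eq_one_right h1
  have hcontrib : ∀ χ ψ : IrrCharacter G, ∀ u : P, u ≠ 1 →
      contribR p χ ψ (u : G) (subBlk p P e (u : G)) =
        aval (m0 χ) u * conj (aval (m0 ψ) u) * (Nat.card P : ℂ)⁻¹ := by
    intro χ ψ u hu
    rw [← hone u, contribR, contribR, ← hcz u hu, Subgroup.card_map_of_injective L.subtype_injective,
      mul_left_comm]
    congr 1
    rw [mul_sum, hcz u hu]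
    symm
    refine sum_bij (fun s _ => (s : G)) ?_ ?_ ?_ ?_
    · intro s hs
      obtain ⟨-, h1, h2⟩ := mem_filter.1 hs
      refine mem_filter.2 ⟨mem_univ _, hcz u hu ▸ ⟨s, h1, rfl⟩, ?_⟩
      rwa [Subgroup.orderOf_coe]
    · exact fun _ _ _ _ h => Subtype.ext h
    · intro g hg
      obtain ⟨-, h1, h2⟩ := mem_filter.1 hg
      obtain ⟨s, hs, rfl⟩ := (hcz u hu).ge h1
      exact ⟨s, mem_filter.2 ⟨mem_univ _, hs, by rwa [Subgroup.coe_subtype, Subgroup.orderOf_coe] at h2⟩, rfl⟩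
    · intro s hs
      obtain ⟨-, h1, h2⟩ := mem_filter.1 hs
      have h : PElt p (u' u) s :=
        ⟨mem_pSet.1 (mem_pSet_of_mem hP' (hu' u)), h2, (mem_cz.1 h1).symm⟩
      rw [hvalG χ u hu s h, hvalG ψ u hu s h, map_mul]
      ring
  -- the twist
  have htN : t ∈ N[L] :=
    map_normalizer_centralizer (Inertial.le_normalizer_of_cyclic S.hcyc hZP S.t_mem)
  let σ : L ≃* L := L.normalizerMonoidHom ⟨t, htN⟩
  let τ : P →* P := (P.normalizerMonoidHom ⟨t, S.t_mem.1⟩ : MulAut P).toMonoidHom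
  have hτ : ∀ u : P, (τ u : G) = t * (u : G) * t⁻¹ := fun u => rfl
  have hσu : ∀ u : P, σ (u' u) = u' (τ u) := fun u => Subtype.ext rfl
  have hτ1 : ∀ u : P, u ≠ 1 → τ u ≠ 1 := fun u hu h =>
    hu ((MulEquiv.map_eq_one_iff (P.normalizerMonoidHom ⟨t, S.t_mem.1⟩ : MulAut P)).1 h)
  have hσε : ∀ u : P, u ≠ 1 → MonoidAlgebra.domCongr 𝕜 𝕜 σ (ε u) = ε (τ u) := fun u hu => by
    refine emb_injective L ?_
    show emb L (conjAut L t htN (ε u)) = _
    rw [emb_conjAut, hemb u hu, hemb (τ u) (hτ1 u hu), hτ,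
      S.subBlk_conj_stab S.t_mem u.2]
  have hσPE : ∀ (u : P) (s : L), PElt p (u' u) s → PElt p (σ (u' u)) (σ s) := fun u s h =>
    ⟨by obtain ⟨j, hj⟩ := h.pow; exact ⟨j, by rw [← map_pow, hj, map_one]⟩,
      by rw [MulEquiv.orderOf_eq]; exact h.reg, h.comm.map σ⟩
  have hσval : ∀ u : P, u ≠ 1 → ∀ s : L, PElt p (u' u) s →
      val χ₀ (u' (τ u)) (σ s) (ε (τ u)) = val (irrComp σ χ₀) (u' u) s (ε u) := fun u hu s h => by
    rw [← hσu, ← hσε u hu, val_mulEquiv hM σ χ₀ h (hσPE u s h) (hεblk u).idem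
      ((hεblk u).fixBy.mono (sup_le_cz h))]
  have hnz : ∀ u : P, ∃ s : L, PElt p (u' u) s ∧ val χ₀ (u' u) s (ε u) ≠ 0 := fun u => by
    by_contra hne
    have h1 := hone u
    rw [contribR, sum_eq_zero, mul_zero] at h1
    · exact inv_ne_zero (Nat.cast_ne_zero.2 Nat.card_pos.ne') h1.symm
    · intro s hs
      obtain ⟨-, h1, h2⟩ := mem_filter.1 hs
      have h : PElt p (u' u) s :=
        ⟨mem_pSet.1 (mem_pSet_of_mem hP' (hu' u)), h2, (mem_cz.1 h1).symm⟩
      rw [not_not.1 fun hh => hne ⟨s, h, hh⟩, zero_mul]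
  have hmem : irrComp σ χ₀ ∈ f := by
    by_contra hn
    set z' : P := ⟨z, hz⟩
    have hz' : z' ≠ 1 := fun h => hz1 (congrArg Subtype.val h)
    obtain ⟨s, hs, hne⟩ := hnz (τ z')
    have hs' : PElt p (u' z') (σ.symm s) := by
      refine ⟨mem_pSet.1 (mem_pSet_of_mem hP' (hu' z')), by rw [MulEquiv.orderOf_eq]; exact hs.reg, ?_⟩
      have h2 := hs.comm.map σ.symm
      rwa [← hσu, σ.symm_apply_apply] at h2
    have h3 := hσval z' hz' _ hs'
    rw [σ.apply_symm_apply, hout _ hn _ _ hs'] at h3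
    exact hne h3
  set μ : P →* ℂˣ := Λ.symm (Φ.symm ⟨_, hmem⟩)
  have hμ : ∀ (χ : IrrCharacter G) (u : P), u ≠ 1 →
      aval (m0 χ) (τ u) * (μ u : ℂ) = aval (m0 χ) u := by
    intro χ u hu
    obtain ⟨s, hs, hne⟩ := hnz u
    have h1 := hvalG χ u hu s hs
    have h2 : PElt p (u' (τ u)) (σ s) := hσu u ▸ hσPE u s hs
    have h3 := hvalG χ (τ u) (hτ1 u hu) (σ s) h2
    rw [hτ, ← S.subBlk_conj_stab S.t_mem u.2, show ((σ s : L) : G) = t * (s : G) * t⁻¹ from rfl,
      val_conj hM χ (hPE u s hs) t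
        (PLE.isPair (subBlk_ple hP u.2) hP).2.idem
        ((PLE.isPair (subBlk_ple hP u.2) hP).2.fixBy.mono (sup_le_cz (hPE u s hs))), h1,
      hσval u hu s hs] at h3
    have h4 : irrComp σ χ₀ = (Φ (Λ μ) : IrrCharacter L) := by simp [μ]
    rw [h4, hval _ u s hs, hΛ, ← mul_assoc] at h3
    exact (mul_right_cancel₀ hne h3).symm
  -- normalization
  obtain ⟨ν, hν⟩ : ∃ ν : P →* ℂˣ, ∀ u : P, u ≠ 1 → ∀ χ,
      aval (m0 χ) (τ u) * (ν (τ u) : ℂ) = aval (m0 χ) u * (ν u : ℂ) := by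
    by_cases hn1 : n = 1
    · refine ⟨1, fun u _ χ => ?_⟩
      have htC : t ∈ (C[P] : Subgroup G) := by simpa [hn1] using S.t_pow
      have : τ u = u := Subtype.ext (by
        rw [hτ, mul_inv_eq_iff_eq_mul]
        exact (Subgroup.mem_centralizer_iff.1 htC _ u.2).symm)
      rw [this]
    · have hinj : Function.Injective (fun w : P => τ w * w⁻¹) := by
        intro w w' h
        simp only at h
        by_contra hne
        have h1 : τ (w * w'⁻¹) = w * w'⁻¹ := by
          have hcomm : ∀ a b : P, a * b = b * a := fun a b => Subtype.ext (hab _ a.2 _ b.2)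
          rw [map_mul, map_inv, mul_inv_eq_iff_eq_mul.1 h, mul_assoc (τ w'),
            hcomm (τ w'), mul_inv_cancel_right, hcomm]
        have h3 := S.free (l := 1) (u := ((w * w'⁻¹ : P) : G)) (w * w'⁻¹).2
          (fun he => hne (mul_inv_eq_one.1 (Subtype.ext he)))
          (by rw [pow_one, ← hτ, h1])
        exact hn1 (Nat.eq_one_of_dvd_one h3)
      have hsurj := Finite.injective_iff_surjective.1 hinj
      have hΘ : Function.Injective (fun ν : P →* ℂˣ => ν.comp τ * ν⁻¹) := by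
        intro ν ν' h
        refine MonoidHom.ext fun w => ?_
        obtain ⟨y, rfl⟩ := hsurj w
        have h2 := DFunLike.congr_fun h y
        simp only [MonoidHom.mul_apply, MonoidHom.comp_apply, MonoidHom.inv_apply] at h2
        simp only [map_mul, map_inv]
        exact h2
      haveI : Finite (P →* ℂˣ) := finite_dual
      obtain ⟨ν, hν⟩ := Finite.injective_iff_surjective.1 hΘ μ
      refine ⟨ν, fun u hu χ => ?_⟩
      have h2 : ν (τ u) = μ u * ν u := by
        rw [← hν]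
        simp
      rw [h2, Units.val_mul, ← mul_assoc, hμ χ u hu]
  refine ⟨fun χ l => m0 χ (l * ν⁻¹), fun χ ψ u hu => ?_, fun χ u v hu hv => ?_⟩
  · rw [aval_twist, aval_twist, hcontrib χ ψ u hu, map_mul, conj_char, MonoidHom.inv_apply,
      Units.val_inv_eq_inv_val]
    have hν0 : (ν u : ℂ) ≠ 0 := (ν u).ne_zero
    field_simp
  · have : v = τ u := Subtype.ext hv
    rw [this, aval_twist, aval_twist, hν u hu χ]

end CycData

end CfsgLib.Cyclic
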