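import Cfsg.Agent.BlocksB.Star.Nilpotent
import Cfsg.Agent.Char.Linear
import Mathlib.Algebra.Polynomial.RingDivision
import Mathlib.Algebra.CharP.Algebra
import Mathlib.Algebra.CharP.Lemmas

/-!
# A uniserial central element in a nilpotent block with cyclic defect group
-/

set_option autoImplicit false
set_option linter.style.haveILetI false
set_option linter.unusedSectionVars false

namespace CfsgLib.Cyclic

open Cfsg Finset CfsgLib.Block CfsgLib.Block.Chr CfsgLib.BrauerPairs CfsgLib.BlockStar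
  CfsgLib.BlockB
open scoped ComplexConjugate
open scoped Classical

universe u

variable {G : Type u} [Group G] [Fintype G]

/-- The class function with prescribed central character values. -/
noncomputable def centFun (c : IrrCharacter G → ℂ) (g : G) : ℂ :=
  letI := irrFintype (G := G)
  (Nat.card G : ℂ)⁻¹ * ∑ χ : IrrCharacter G, (χ : G → ℂ) 1 * c χ * conj ((χ : G → ℂ) g)

theorem isClassFunction_centFun (c : IrrCharacter G → ℂ) : IsClassFunction G (centFun c) := by
  intro g t
  letI := irrFintype (G := G)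
  simp only [centFun]
  exact congrArg _ (sum_congr rfl fun χ _ => by rw [isClassFunction_irr χ g t])

theorem omega_centFun (c : IrrCharacter G → ℂ) (ψ : IrrCharacter G) :
    omega (ψ : G → ℂ) (centFun c) = c ψ := by
  letI := irrFintype (G := G)
  have hψ0 : (ψ : G → ℂ) 1 ≠ 0 := by
    rw [(irr_one ψ).1]; exact Nat.cast_ne_zero.2 (irr_one ψ).2.ne'
  rw [omega, div_eq_iff hψ0]
  calc ∑ g : G, centFun c g * (ψ : G → ℂ) g
      = ∑ χ : IrrCharacter G, ((χ : G → ℂ) 1 * c χ) * classInner (ψ : G → ℂ) (χ : G → ℂ) := by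
        simp only [centFun, CfsgLib.Char.classInner_def, mul_sum, sum_mul]
        rw [sum_comm]
        exact sum_congr rfl fun χ _ => sum_congr rfl fun g _ => by ring
    _ = c ψ * (ψ : G → ℂ) 1 := by
        simp only [classInner_irr, mul_ite, mul_one, mul_zero]
        rw [sum_ite_eq univ ψ, if_pos (mem_univ _), mul_comm]

theorem eq_centFun {a : G → ℂ} (ha : IsClassFunction G a) :
    a = centFun fun χ => omega (χ : G → ℂ) a := by
  letI := irrFintype (G := G)
  funext g
  exact eq_sum_omega ha g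

theorem conv_centFun (c c' : IrrCharacter G → ℂ) :
    conv (centFun c) (centFun c') = centFun fun χ => c χ * c' χ := by
  have hcl : IsClassFunction G (conv (centFun c) (centFun c')) := by
    intro g t
    simp only [conv]
    refine (Fintype.sum_equiv (MulAut.conj t).toEquiv _ _ fun x => ?_).symm
    show centFun c x * centFun c' (x⁻¹ * g) =
      centFun c (t * x * t⁻¹) * centFun c' ((t * x * t⁻¹)⁻¹ * (t * g * t⁻¹))
    rw [isClassFunction_centFun c x t, show (t * x * t⁻¹)⁻¹ * (t * g * t⁻¹) = t * (x⁻¹ * g) * t⁻¹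
      by group, isClassFunction_centFun c' _ t]
  rw [eq_centFun hcl]
  congr 1
  funext χ
  rw [omega_conv χ (isClassFunction_centFun c), omega_centFun, omega_centFun]

theorem blockCoeff_eq_centFun (B : Set (IrrCharacter G)) :
    blockCoeff B = centFun fun χ => if χ ∈ B then 1 else 0 := by
  letI := irrFintype (G := G)
  funext g
  rw [blockCoeff_eq_sum, centFun, sum_filter]
  exact congrArg _ (sum_congr rfl fun χ _ => by split_ifs <;> ring)

variable {M : Ideal AlgInt} [M.IsPrime] {p : ℕ} [Fact p.Prime] [CharP (Residue M) p]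

local notation "𝕜" => Residue M
local notation "Z[" x "]" => Subgroup.zpowers x

/-- **Structure of a nilpotent block with cyclic defect group**: the number of characters, the
common degree and a uniserial central element. -/
theorem exists_uniserial_central (hM : IsPModular p M) {B : Set (IrrCharacter G)}
    (hB : IsPBlock M B) (hnil : IsNil p (idem M B)) {P : Subgroup G} {e : MonoidAlgebra 𝕜 G}
    (hmax : IsMaxPair p (idem M B) (P, e)) (hcyc : IsCyclic P) (hP1 : P ≠ ⊥) :
    blockRank p B = 1 ∧ Nat.card B = Nat.card P ∧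
      (∃ χ₀ ∈ B, ∀ χ ∈ B, ∀ g : G, ¬ p ∣ orderOf g → (χ : G → ℂ) g = (χ₀ : G → ℂ) g) ∧
      ∃ x : MonoidAlgebra 𝕜 G, (∀ y, Commute x y) ∧ x * idem M B = x ∧
        x ^ Nat.card P = 0 ∧ x ^ (Nat.card P - 1) ≠ 0 := by
  have hp : p.Prime := Fact.out
  haveI : Fintype P := Fintype.ofFinite P
  letI := irrFintype (G := G)
  letI := irrFintype (G := P)
  have hb := isBlk_idem hM hB
  have hP : IsPair p (P, e) := hmax.1.1
  obtain ⟨χ₀, hχ₀, h0⟩ := exists_height_zero hM hB
  obtain ⟨Φ, hreg, hstar⟩ := exists_characters hM hB hnil hmax hχ₀ h0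
  letI := hcyc.commGroup
  have hlin : ∀ ζ : IrrCharacter P, ∃ l : P →* ℂˣ, ∀ v, (ζ : P → ℂ) v = (l v : ℂ) := fun ζ => by
    obtain ⟨l, hl⟩ := CfsgLib.Char.IsCharacter.exists_hom (isCharacter_irr ζ)
      (CfsgLib.Char.IsIrrCharacter.apply_one_eq_one ζ.2 fun a b => mul_comm a b)
    exact ⟨l, fun v => by rw [hl]⟩
  choose l hl using hlin
  have hdeg : ∀ ζ : IrrCharacter P, (charDegree (ζ : P → ℂ) : ℂ) = 1 := fun ζ => by
    rw [← (irr_one ζ).1, hl, map_one, Units.val_one]
  have hreg' : ∀ χ ∈ B, ∀ g : G, ¬ p ∣ orderOf g → (χ : G → ℂ) g = (χ₀ : G → ℂ) g := fun χ hχ g hg => by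
    obtain ⟨ζ, hζ⟩ := Φ.surjective ⟨χ, hχ⟩
    have := hreg ζ g hg
    rwa [hζ, hdeg, one_mul] at this
  have hcard : Nat.card B = Nat.card P := by
    rw [← Nat.card_congr Φ, ← Nat.card_congr (Equiv.subtypeUnivEquiv (α := IrrCharacter P)
      (p := fun ζ : IrrCharacter P => (ζ : P → ℂ) 1 = 1) fun ζ => by rw [hl, map_one, Units.val_one]),
      CfsgLib.Char.card_linear]
    have : commutator P = ⊥ := by
      rw [eq_bot_iff, commutator_def, Subgroup.commutator_le]
      intro a _ b _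
      rw [Subgroup.mem_bot, commutatorElement_eq_one_iff_mul_comm]
      exact mul_comm a b
    rw [this, Subgroup.index_bot]
  have hrank : blockRank p B = 1 := by
    have h1 : (fun χ : IrrCharacter G => pRegularPart p (χ : G → ℂ)) '' B =
        {pRegularPart p (χ₀ : G → ℂ)} := by
      refine Set.Subset.antisymm ?_ (Set.singleton_subset_iff.2 ⟨χ₀, hχ₀, rfl⟩)
      rintro _ ⟨χ, hχ, rfl⟩
      refine Set.mem_singleton_iff.2 (funext fun g => ?_)
      simp only [BlockB.pRegularPart_eq]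
      by_cases hg : p ∣ orderOf g
      · rw [regPart_of_dvd hg, regPart_of_dvd hg]
      · rw [regPart_of_not_dvd hg, regPart_of_not_dvd hg, hreg' χ hχ g hg]
    rw [blockRank, h1, finrank_span_singleton]
    intro h2
    have h3 := congrFun h2 1
    rw [BlockB.pRegularPart_eq, regPart_of_not_dvd (by rw [orderOf_one]; exact hp.not_dvd_one),
      (irr_one χ₀).1, Pi.zero_apply, Nat.cast_eq_zero] at h3
    exact (irr_one χ₀).2.ne' h3
  obtain ⟨u0, hu0⟩ := hcyc.exists_generator
  set m := Nat.card P with hm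
  have hu0m : u0 ^ m = 1 := pow_card_eq_one'
  let w : IrrCharacter G → ℂ := fun χ =>
    if h : χ ∈ B then ((Φ.symm ⟨χ, h⟩ : IrrCharacter P) : P → ℂ) u0 else 0
  set a := centFun w with ha
  -- integrality
  have hfac : ∀ χ : IrrCharacter G, χ ∈ B → (χ : G → ℂ) 1 = (χ₀ : G → ℂ) 1 := fun χ hχ =>
    hreg' χ hχ 1 (by rw [orderOf_one]; exact hp.not_dvd_one)
  obtain ⟨y, hy⟩ := exists_isDefectClass hB
  set r := (charDegree (χ₀ : G → ℂ)) / p ^ (charDegree (χ₀ : G → ℂ)).factorization p with hr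
  set A := (Nat.card G).factorization p
  have hmd : m * charDegree (χ₀ : G → ℂ) = p ^ A * r := by
    have hD := card_defectGroup hM hB (isDefectGroup_of_isDef hM hB (hmax.isDef hb))
    have hdy := (degree_eq_iff hM hy hχ₀).2 ((blockHeight_eq_zero_iff hM hB hy hχ₀).1 h0)
    rw [← blockDefect_eq hM hB hy] at hdy
    have hle : blockDefect p B ≤ A := blockDefect_le (p := p) B
    conv_lhs => rw [← Nat.ordProj_mul_ordCompl_eq_self (charDegree (χ₀ : G → ℂ)) p]
    rw [hm, hD, ← mul_assoc, ← pow_add, ← hr, hdy, Nat.add_sub_cancel' hle]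
  have hunit : (Nat.card G : ℂ)⁻¹ * ((m : ℂ) * (χ₀ : G → ℂ) 1) =
      ((p ^ A : ℕ) : ℂ) / (Nat.card G : ℂ) * (r : ℂ) := by
    rw [(irr_one χ₀).1, ← Nat.cast_mul, hmd, Nat.cast_mul]; ring
  have hconjP : ∀ (ζ : IrrCharacter P) (v : P), (ζ : P → ℂ) v = conj ((ζ : P → ℂ) v⁻¹) := fun ζ v => by
    rw [← CfsgLib.Char.IsIrrCharacter.apply_inv ζ.2 v⁻¹, inv_inv]
  have hPsum : ∀ v : P, ∑ ζ : IrrCharacter P, (ζ : P → ℂ) u0 * (ζ : P → ℂ) v =
      if u0 * v = 1 then (m : ℂ) else 0 := fun v => by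
    rw [sum_congr rfl fun ζ _ => congrArg _ (hconjP ζ v), column_orth]
    by_cases hv : u0 * v = 1
    · have hu : u0 = v⁻¹ := eq_inv_of_mul_eq_one_left hv
      rw [if_pos hv, if_pos (hu ▸ IsConj.refl _)]
      congr 1
      rw [show Subgroup.centralizer ({u0} : Set P) = ⊤ from eq_top_iff.2 fun w _ =>
        Subgroup.mem_centralizer_singleton_iff.2 (mul_comm _ _), Subgroup.card_top]
    · rw [if_neg hv, if_neg fun hc => hv ?_]
      rw [isConj_iff_eq.1 hc, inv_mul_cancel]
  have hstar' : ∀ g : G, MemLocalRing M ((Nat.card G : ℂ)⁻¹ *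
      ((χ₀ : G → ℂ) 1 * ∑ ζ : IrrCharacter P, (ζ : P → ℂ) u0 * ((Φ ζ : IrrCharacter G) : G → ℂ) g)) := by
    intro g
    obtain ⟨x, s, h, rfl⟩ := exists_pElt p g
    haveI := Fintype.ofFinite (Subgroup.centralizer ((Z[x] : Subgroup G) : Set G))
    simp only [hstar, starFun_eq _ χ₀ h rfl, wsum_one_eq hM _ χ₀ h, mul_sum]
    rw [sum_comm]
    refine memLocalRing_sum fun b hb' => ?_
    have hsub : MemLocalRing M (subPart p b x χ₀ ⟨s, h.mem⟩) := by
      rw [subPart_eq_conv (centralizer_zpowers_eq x)]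
      refine memLocalRing_sum fun c _ => memLocalRing_mul
        ((isIntClass_blockCoeff (mem_blockFinset.1 hb')).2 c) ?_
      unfold regPart
      split_ifs
      · exact memLocalRing_zero
      · exact memLocalRing_of_isIntegral (CfsgLib.Char.IsCharacter.isIntegral (isCharacter_irr χ₀) _)
    by_cases hg : ∃ g, PLE p (cjPair g (Z[x], idemIn M _ b)) (P, e)
    · have hv := conj_mem_of_ple hg.choose_spec
      have e1 : ∀ ζ : IrrCharacter P, weight p P e (extendByZero P (ζ : P → ℂ)) x (idemIn M _ b) =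
          (ζ : P → ℂ) ⟨_, hv⟩ := fun ζ => by
        rw [weight, dif_pos hg]
        exact extend_apply_mem _ ⟨_, hv⟩
      simp only [e1]
      have e2 : ∑ ζ : IrrCharacter P, (Nat.card G : ℂ)⁻¹ * ((χ₀ : G → ℂ) 1 *
          ((ζ : P → ℂ) u0 * ((ζ : P → ℂ) ⟨_, hv⟩ * subPart p b x χ₀ ⟨s, h.mem⟩))) =
          if u0 * ⟨_, hv⟩ = 1 then
            ((p ^ A : ℕ) : ℂ) / (Nat.card G : ℂ) * (r : ℂ) * subPart p b x χ₀ ⟨s, h.mem⟩ else 0 := by
        rw [← hunit]
        calc _ = (Nat.card G : ℂ)⁻¹ * (χ₀ : G → ℂ) 1 * subPart p b x χ₀ ⟨s, h.mem⟩ *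
              ∑ ζ : IrrCharacter P, (ζ : P → ℂ) u0 * (ζ : P → ℂ) ⟨_, hv⟩ := by
              rw [mul_sum]; exact sum_congr rfl fun ζ _ => by ring
          _ = _ := by rw [hPsum]; split_ifs <;> ring
      rw [e2]
      split_ifs
      · exact memLocalRing_mul (memLocalRing_mul (pow_factorization_unit hM Nat.card_pos.ne')
          (natCast_mem_localRing r)) hsub
      · exact memLocalRing_zero
    · refine memLocalRing_sum fun ζ _ => ?_
      rw [weight, dif_neg hg]
      simp [memLocalRing_zero]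
  have haint : IsIntClass M a := by
    refine ⟨isClassFunction_centFun w, fun g => ?_⟩
    convert hstar' g⁻¹ using 1
    rw [ha, centFun, mul_sum (s := (univ : Finset (IrrCharacter P)))]
    congr 1
    rw [← sum_subset (subset_univ (univ.filter (· ∈ B))) (fun χ _ hχ => by
      simp only [w, dif_neg (by simpa using hχ : χ ∉ B)]; ring),
      sum_subtype (univ.filter (· ∈ B)) (p := (· ∈ B)) (by simp)
        (fun χ : IrrCharacter G => (χ : G → ℂ) 1 * w χ * conj ((χ : G → ℂ) g))]
    refine (Fintype.sum_equiv Φ _ _ fun ζ => ?_).symm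
    simp only [w, dif_pos (Φ ζ).2, Subtype.coe_eta, Equiv.symm_apply_apply, hfac _ (Φ ζ).2,
      ← CfsgLib.Char.IsIrrCharacter.apply_inv (Φ ζ).1.2 g]
    ring
  -- powers
  set F := idem M B with hF
  set X := redFun M a
  have hwB : ∀ χ, w χ * (if χ ∈ B then 1 else 0) = w χ := fun χ => by
    by_cases hχ : χ ∈ B
    · rw [if_pos hχ, mul_one]
    · simp only [w, dif_neg hχ, zero_mul]
  have hXF : X * F = X := by
    rw [hF, idem, ← redFun_conv haint.2 (isIntClass_blockCoeff hB).2, ha, blockCoeff_eq_centFun,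
      conv_centFun]
    simp only [hwB]
    rfl
  have hpow : ∀ j : ℕ, IsIntClass M (centFun fun χ => if χ ∈ B then w χ ^ j else 0) ∧
      X ^ j * F = redFun M (centFun fun χ => if χ ∈ B then w χ ^ j else 0) := by
    intro j
    induction j with
    | zero =>
      simp only [pow_zero, one_mul, ← blockCoeff_eq_centFun]
      exact ⟨isIntClass_blockCoeff hB, rfl⟩
    | succ j ih =>
      have e1 : conv a (centFun fun χ => if χ ∈ B then w χ ^ j else 0) =
          centFun fun χ => if χ ∈ B then w χ ^ (j + 1) else 0 := by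
        rw [ha, conv_centFun]
        congr 1
        funext χ
        by_cases hχ : χ ∈ B
        · rw [if_pos hχ, if_pos hχ, pow_succ']
        · rw [if_neg hχ, if_neg hχ, mul_zero]
      refine ⟨e1 ▸ isIntClass_conv haint ih.1, ?_⟩
      rw [pow_succ', mul_assoc, ih.2, ← redFun_conv haint.2 ih.1.2, e1]
  have hwm : ∀ χ ∈ B, w χ ^ m = 1 := fun χ hχ => by
    simp only [w, dif_pos hχ]
    rw [hl, ← Units.val_pow_eq_pow_val, ← map_pow, hu0m, map_one, Units.val_one]
  have hFF : F * F = F := hb.idem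
  have hXm : X ^ m * F = F := by
    rw [(hpow m).2, hF, idem, blockCoeff_eq_centFun]
    congr 2
    funext χ
    split_ifs with hχ
    · exact hwm χ hχ
    · rfl
  have hFc : ∀ y : MonoidAlgebra 𝕜 G, Commute F y := fun y =>
    alg_commute le_rfl (suppIn_top y) hb.mem.2 |>.symm
  have hXc : ∀ y : MonoidAlgebra 𝕜 G, Commute X y := fun y =>
    alg_commute le_rfl (suppIn_top y) (redFun_mem haint.1).2 |>.symm
  have hm1 : 1 < m := by
    rw [hm]
    exact Finite.one_lt_card_iff_nontrivial.2 ((Subgroup.nontrivial_iff_ne_bot P).2 hP1)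
  have hFpow : ∀ {j : ℕ}, j ≠ 0 → F ^ j = F := fun hj => by
    obtain ⟨i, rfl⟩ := Nat.exists_eq_succ_of_ne_zero hj
    exact IsIdempotentElem.pow_succ_eq i hFF
  obtain ⟨A', hA'⟩ : ∃ A', m = p ^ A' := hP.1.exists_card_eq
  refine ⟨hrank, hcard, ⟨χ₀, hχ₀, hreg'⟩, X - F, fun y => (hXc y).sub_left (hFc y), ?_, ?_, ?_⟩
  · rw [sub_mul, hXF, hFF]
  · haveI : CharP (MonoidAlgebra 𝕜 G) p := charP_of_injective_algebraMap
      (algebraMap 𝕜 (MonoidAlgebra 𝕜 G)).injective p
    rw [hA', sub_pow_char_pow_of_commute (p := p) (h := hXc F), ← hA', hFpow (by omega),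
      ← hXm]
    conv_lhs => rw [← hXF, (hXc F).mul_pow, hFpow (by omega : m ≠ 0)]
    rw [hXm, hFF, sub_self]
  · have e1 : (X - F) ^ (m - 1) = (X - 1) ^ (m - 1) * F := by
      conv_rhs => rw [← hFpow (show m - 1 ≠ 0 by omega), ← ((hFc (X - 1)).symm).mul_pow, sub_mul,
        hXF, one_mul]
    have e2 : ((Polynomial.X : Polynomial 𝕜) - 1) ^ (m - 1) = ∑ j ∈ range m, Polynomial.X ^ j := by
      refine mul_right_cancel₀ (b := (Polynomial.X : Polynomial 𝕜) - 1) ?_ ?_
      · rw [← map_one Polynomial.C]; exact Polynomial.X_sub_C_ne_zero 1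
      · rw [← pow_succ, Nat.sub_add_cancel hm1.le, geom_sum_mul]
        rw [hA', sub_pow_char_pow, one_pow]
    have e3 : (X - 1) ^ (m - 1) = ∑ j ∈ range m, X ^ j := by
      simpa using congrArg (Polynomial.aeval X) e2
    rw [e1, e3, sum_mul]
    simp only [(hpow _).2]
    set S : G → ℂ := fun g => ∑ j ∈ range m, centFun (fun χ => if χ ∈ B then w χ ^ j else 0) g
    have hS : ∑ j ∈ range m, redFun M (centFun fun χ => if χ ∈ B then w χ ^ j else 0) = redFun M S :=
      coeff_ext fun g => by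
        rw [MonoidAlgebra.coeff_sum, Finsupp.finsetSum_apply, coeff_redFun,
          red_sum _ fun j _ => (hpow j).1.2 g]
        exact sum_congr rfl fun j _ => coeff_redFun _ _
    rw [hS]
    -- the trivial character of `P`
    obtain ⟨ζ1, hζ1⟩ : ∃ ζ : IrrCharacter P, ∀ v, (ζ : P → ℂ) v = 1 := by
      exact ⟨⟨fun _ => 1, by simpa using CfsgLib.Char.isIrrCharacter_ofHom (1 : P →* ℂˣ)⟩,
        fun v => rfl⟩
    have hw1 : ∀ χ (hχ : χ ∈ B), ∑ j ∈ range m, w χ ^ j = if Φ.symm ⟨χ, hχ⟩ = ζ1 then (m : ℂ) else 0 := by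
      intro χ hχ
      split_ifs with hz
      · simp [w, dif_pos hχ, hz, hζ1]
      · have hne : w χ ≠ 1 := by
          intro hone
          apply hz
          refine Subtype.ext (funext fun v => ?_)
          obtain ⟨i, hi⟩ := hu0 v
          simp only [w, dif_pos hχ, hl, Units.val_eq_one] at hone
          rw [hζ1, hl, ← hi]
          simp only [map_zpow, hone, one_zpow, Units.val_one]
        rw [geom_sum_eq hne, hwm χ hχ, sub_self, zero_div]
    set ξ1 : IrrCharacter G := (Φ ζ1 : IrrCharacter G)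
    have hξ1 : ξ1 ∈ B := (Φ ζ1).2
    have hSv : ∀ g, S g = ((p ^ A : ℕ) : ℂ) / (Nat.card G : ℂ) * (r : ℂ) * conj ((ξ1 : G → ℂ) g) := by
      intro g
      rw [← hunit]
      simp only [S, centFun]
      rw [← mul_sum, sum_comm, sum_eq_single ξ1]
      · rw [← sum_mul, ← mul_sum, sum_congr rfl fun j _ => if_pos hξ1, hw1 _ hξ1,
          if_pos (by simp [ξ1]), hfac _ hξ1]
        ring
      · intro χ _ hne
        rw [← sum_mul, ← mul_sum]
        by_cases hχ : χ ∈ B
        · rw [sum_congr rfl fun j _ => if_pos hχ, hw1 _ hχ, if_neg fun hz => hne ?_, mul_zero,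
            zero_mul]
          rw [show ξ1 = ((Φ (Φ.symm ⟨χ, hχ⟩) : B) : IrrCharacter G) by rw [hz]]
          simp
        · rw [sum_congr rfl fun j _ => if_neg hχ, sum_const_zero, mul_zero, zero_mul]
      · simp
    intro hzero
    have h2 : (redFun M S).coeff y⁻¹ = 0 := by rw [hzero]; rfl
    have hc1 : conj ((ξ1 : G → ℂ) y⁻¹) = (ξ1 : G → ℂ) y := by
      rw [← CfsgLib.Char.IsIrrCharacter.apply_inv ξ1.2, inv_inv]
    have hu1 : ¬ MemLocalIdeal M ((ξ1 : G → ℂ) y) := by
      rw [hreg' ξ1 hξ1 y (defectClass_regular hM hB hy)]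
      exact (blockHeight_eq_zero_iff hM hB hy hχ₀).1 h0
    have hmem1 := pow_factorization_unit (p := p) hM (n := Nat.card G) Nat.card_pos.ne'
    rw [coeff_redFun, hSv, hc1, red_eq_zero_iff (memLocalRing_mul (memLocalRing_mul hmem1
      (natCast_mem_localRing r)) (irr_mem ξ1 y))] at h2
    refine hu1 ?_
    set N := (Nat.card G) / p ^ A
    have hN : ¬ p ∣ N := Nat.not_dvd_ordCompl hp Nat.card_pos.ne'
    have hinv : (N : ℂ) * (((p ^ A : ℕ) : ℂ) / (Nat.card G : ℂ)) = 1 := by
      rw [← mul_div_assoc, div_eq_one_iff_eq (Nat.cast_ne_zero.2 Nat.card_pos.ne'), ← Nat.cast_mul,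
        mul_comm]
      exact congrArg Nat.cast (Nat.ordProj_mul_ordCompl_eq_self _ _)
    have h3 : MemLocalIdeal M ((r : ℂ) * (ξ1 : G → ℂ) y) := by
      have := memLocalIdeal_mul_left (natCast_mem_localRing (M := M) N) h2
      rwa [← mul_assoc, ← mul_assoc, hinv, one_mul] at this
    by_contra hne
    exact not_memLocalIdeal_mul (natCast_mem_localRing r)
      (fun hh => Nat.not_dvd_ordCompl hp (irr_one χ₀).2.ne' ((memLocalIdeal_natCast_iff hM).1 hh))
      hne h3

end CfsgLib.Cyclic
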