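import Mathlib.Algebra.BigOperators.Ring.Finset
import Mathlib.Algebra.Order.BigOperators.Group.Finset
import Mathlib.Data.Fintype.BigOperators
import Mathlib.Tactic.LinearCombination
import Mathlib.Tactic.Linarith
import Mathlib.Tactic.IntervalCases
import Mathlib.Tactic.Ring

/-!
# Integral vectors with the inner products of exceptional differences
-/

set_option autoImplicit false

namespace CfsgLib.Cyclic

open Finset
open scoped Classical

variable {X I : Type*} [Fintype X] [Fintype I]

/-- The unit vector. -/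
noncomputable def unitVec (a : X) : X → ℤ := fun x => if x = a then 1 else 0

theorem sum_unitVec_mul (a : X) (f : X → ℤ) : ∑ x, unitVec a x * f x = f a := by
  simp [unitVec]

theorem sum_unitVec (a b : X) : ∑ x, unitVec a x * unitVec b x = if a = b then 1 else 0 := by
  rw [sum_unitVec_mul, unitVec]

/-- An integral vector of norm two orthogonal to a positive vector is a difference. -/
theorem exists_sub_of_norm_two {v w : X → ℤ} (hw : ∀ x, 0 < w x) (hv : ∑ x, v x * v x = 2)
    (h0 : ∑ x, w x * v x = 0) : ∃ a b, a ≠ b ∧ ∀ x, v x = unitVec a x - unitVec b x := by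
  set s := univ.filter fun x => v x ≠ 0 with hs
  have hsum : ∑ x ∈ s, v x * v x = 2 := by
    rw [← hv]
    refine sum_subset (subset_univ _) fun x _ hx => ?_
    have : v x = 0 := by simpa [hs] using hx
    rw [this, zero_mul]
  have h1 : ∀ x ∈ s, 1 ≤ v x * v x := fun x hx => by
    have := mul_self_pos.2 (mem_filter.1 hx).2
    omega
  have hcard : (s.card : ℤ) ≤ 2 := by
    rw [← hsum]
    simpa using card_nsmul_le_sum s (fun x => v x * v x) 1 h1
  have hcard' : s.card = 0 ∨ s.card = 1 ∨ s.card = 2 := by omega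
  rcases hcard' with h | h | h
  · rw [card_eq_zero.1 h, sum_empty] at hsum
    norm_num at hsum
  · obtain ⟨a, ha⟩ := card_eq_one.1 h
    rw [ha, sum_singleton] at hsum
    have h2 : v a ≤ 1 := by nlinarith
    have h3 : -1 ≤ v a := by nlinarith
    interval_cases v a <;> norm_num at hsum
  · obtain ⟨a, b, hab, hsab⟩ := card_eq_two.1 h
    have ha := h1 a (by rw [hsab]; simp)
    have hb := h1 b (by rw [hsab]; simp)
    rw [hsab, sum_pair hab] at hsum
    have h2 : v a * v a = 1 := by omega
    have h3 : v b * v b = 1 := by omega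
    have h4 : w a * v a + w b * v b = 0 := by
      rw [← h0, ← sum_pair (f := fun x => w x * v x) hab, ← hsab, hs]
      exact sum_filter_of_ne fun x _ hx hv0 => hx (by rw [hv0, mul_zero])
    have hz : ∀ x, x ≠ a → x ≠ b → v x = 0 := fun x hxa hxb => by
      by_contra hne
      have : x ∈ s := mem_filter.2 ⟨mem_univ _, hne⟩
      rw [hsab, mem_insert, mem_singleton] at this
      exact this.elim hxa hxb
    rcases mul_self_eq_one_iff.1 h2 with e1 | e1 <;> rcases mul_self_eq_one_iff.1 h3 with e2 | e2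
    · rw [e1, e2] at h4; have := hw a; have := hw b; omega
    · refine ⟨a, b, hab, fun x => ?_⟩
      by_cases hxa : x = a
      · subst hxa; simp [unitVec, hab, e1]
      by_cases hxb : x = b
      · subst hxb; simp [unitVec, hxa, e2]
      simp [unitVec, hxa, hxb, hz x hxa hxb]
    · refine ⟨b, a, hab.symm, fun x => ?_⟩
      by_cases hxa : x = a
      · subst hxa; simp [unitVec, hab, e1]
      by_cases hxb : x = b
      · subst hxb; simp [unitVec, hxa, e2]
      simp [unitVec, hxa, hxb, hz x hxa hxb]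
    · rw [e1, e2] at h4; have := hw a; have := hw b; omega

/-- A vector with entries not zero off a set of given size. -/
theorem pm_of_norm_le {s : Finset X} {S : X → ℤ} (h1 : ∀ x ∈ s, S x ≠ 0)
    (h : ∑ x ∈ s, S x * S x ≤ (s.card : ℤ)) : ∀ x ∈ s, S x = 1 ∨ S x = -1 := by
  intro x hx
  have h2 : ∀ y ∈ s, 1 ≤ S y * S y := fun y hy => by
    have := mul_self_pos.2 (h1 y hy)
    omega
  have h3 : ∑ y ∈ s, (S y * S y - 1) ≤ 0 := by
    rw [sum_sub_distrib, sum_const, nsmul_eq_mul, mul_one]
    omega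
  have h4 := (sum_eq_zero_iff_of_nonneg fun y hy => by have := h2 y hy; omega).1
    (le_antisymm h3 (sum_nonneg fun y hy => by have := h2 y hy; omega)) x hx
  exact mul_self_eq_one_iff.1 (by omega)

/-- **The differences have a common vertex.** -/
theorem exists_common_vertex (D : I → X → ℤ) (w : X → ℤ) (hw : ∀ x, 0 < w x) {n : ℕ}
    (hr : 2 ≤ Fintype.card I) (hD : ∀ i j, ∑ x, D i x * D j x = (n : ℤ) + if i = j then 1 else 0)
    (hw0 : ∀ i, ∑ x, w x * D i x = 0) :
    ∃ (δ : ℤ) (ψ : I → X), (δ = 1 ∨ δ = -1) ∧ Function.Injective ψ ∧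
      ∃ S : X → ℤ, ∀ i x, D i x = S x + δ * unitVec (ψ i) x := by
  obtain ⟨i₀⟩ := Fintype.card_pos_iff.1 (show 0 < Fintype.card I by omega)
  -- differences
  have hdiff : ∀ i j, i ≠ j → ∃ a b, a ≠ b ∧ ∀ x, D i x - D j x = unitVec a x - unitVec b x := by
    intro i j hij
    refine exists_sub_of_norm_two hw ?_ ?_
    · simp only [sub_mul, mul_sub, sum_sub_distrib, hD, hij, Ne.symm hij, if_false, if_true]
      omega
    · simp only [mul_sub, sum_sub_distrib, hw0, sub_zero]
  choose p q hpq hv using fun j : {j // j ≠ i₀} => hdiff j.1 i₀ j.2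
  have hshare : ∀ j k : {j // j ≠ i₀}, j ≠ k →
      (p j = p k ∧ q j ≠ q k) ∨ (p j ≠ p k ∧ q j = q k) := by
    intro j k hjk
    have hjk' : j.1 ≠ k.1 := fun h => hjk (Subtype.ext h)
    have h1 : ∑ x, (D j.1 x - D i₀ x) * (D k.1 x - D i₀ x) = 1 := by
      simp only [sub_mul, mul_sub, sum_sub_distrib, hD, hjk', j.2, Ne.symm k.2, if_false, if_true]
      omega
    simp only [hv, sub_mul, mul_sub, sum_sub_distrib, sum_unitVec] at h1
    have := hpq j
    have := hpq k
    by_cases e1 : p j = p k <;> by_cases e2 : q j = q k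
    · have n1 : ¬ p j = q k := fun h => hpq j (h.trans e2.symm)
      have n2 : ¬ q j = p k := fun h => hpq j (e1.trans h.symm)
      rw [if_pos e1, if_pos e2, if_neg n1, if_neg n2] at h1
      omega
    · exact Or.inl ⟨e1, e2⟩
    · exact Or.inr ⟨e1, e2⟩
    · rw [if_neg e1, if_neg e2] at h1
      split_ifs at h1 <;> omega
  -- a common vertex
  obtain ⟨j₁, hj₁⟩ := Fintype.exists_ne_of_one_lt_card (by omega : 1 < Fintype.card I) i₀
  by_cases hq : ∀ j k : {j // j ≠ i₀}, q j = q k
  · refine ⟨1, fun i => if h : i = i₀ then q ⟨j₁, hj₁⟩ else p ⟨i, h⟩, Or.inl rfl, ?_,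
      fun x => D i₀ x - unitVec (q ⟨j₁, hj₁⟩) x, ?_⟩
    · intro a b hab
      simp only at hab
      by_cases ha : a = i₀ <;> by_cases hb : b = i₀
      · rw [ha, hb]
      · rw [dif_pos ha, dif_neg hb, hq ⟨j₁, hj₁⟩ ⟨b, hb⟩] at hab
        exact absurd hab.symm (hpq _)
      · rw [dif_neg ha, dif_pos hb, hq ⟨j₁, hj₁⟩ ⟨a, ha⟩] at hab
        exact absurd hab (hpq _)
      · rw [dif_neg ha, dif_neg hb] at hab
        by_contra hne'
        rcases hshare ⟨a, ha⟩ ⟨b, hb⟩ (fun h => hne' (congrArg Subtype.val h)) with ⟨-, h⟩ | ⟨h, -⟩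
        · exact h (hq _ _)
        · exact h hab
    · intro i x
      by_cases h : i = i₀
      · subst h; simp
      · have h1 := hv ⟨i, h⟩ x
        rw [hq ⟨i, h⟩ ⟨j₁, hj₁⟩] at h1
        simp only [dif_neg h]
        linear_combination h1
  · simp only [not_forall] at hq
    obtain ⟨j, k, hjk⟩ := hq
    have hjk' : j ≠ k := fun h => hjk (by rw [h])
    have hpjk : p j = p k := ((hshare j k hjk').resolve_right fun h => hjk h.2).1
    have hp : ∀ m : {j // j ≠ i₀}, p m = p j := by
      intro m
      by_cases hmj : m = j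
      · rw [hmj]
      by_cases hmk : m = k
      · rw [hmk, hpjk]
      rcases hshare m j hmj with h | h
      · exact h.1
      rcases hshare m k hmk with h' | h'
      · rw [h'.1, hpjk]
      exact absurd (h.2.symm.trans h'.2) hjk
    refine ⟨-1, fun i => if h : i = i₀ then p j else q ⟨i, h⟩, Or.inr rfl, ?_,
      fun x => D i₀ x + unitVec (p j) x, ?_⟩
    · intro a b hab
      simp only at hab
      by_cases ha : a = i₀ <;> by_cases hb : b = i₀
      · rw [ha, hb]
      · rw [dif_pos ha, dif_neg hb, ← hp ⟨b, hb⟩] at hab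
        exact absurd hab (hpq _)
      · rw [dif_neg ha, dif_pos hb, ← hp ⟨a, ha⟩] at hab
        exact absurd hab.symm (hpq _)
      · rw [dif_neg ha, dif_neg hb] at hab
        by_contra hne'
        rcases hshare ⟨a, ha⟩ ⟨b, hb⟩ (fun h => hne' (congrArg Subtype.val h)) with ⟨-, h⟩ | ⟨h, -⟩
        · exact h hab
        · exact h ((hp _).trans (hp _).symm)
    · intro i x
      by_cases h : i = i₀
      · subst h; simp
      · have h1 := hv ⟨i, h⟩ x
        rw [hp ⟨i, h⟩] at h1
        simp only [dif_neg h]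
        linear_combination h1

/-- **Coherence of exceptional differences.** -/
theorem coherence (D : I → X → ℤ) (w : X → ℤ) (hw : ∀ x, 0 < w x) {n l : ℕ} (hn : 0 < n)
    (hl : n ≤ l) (hX : Fintype.card X = l + Fintype.card I) (hI : 0 < Fintype.card I)
    (hD : ∀ i j, ∑ x, D i x * D j x = (n : ℤ) + if i = j then 1 else 0)
    (hw0 : ∀ i, ∑ x, w x * D i x = 0) (hne : ∀ x, ∃ i, D i x ≠ 0) (x₀ : X) :
    l = n ∧ ∃ (ψ : I → X) (δ : ℤ) (S : X → ℤ), Function.Injective ψ ∧
      (Fintype.card I = 1 → ∀ i, ψ i ≠ x₀) ∧ (δ = 1 ∨ δ = -1) ∧ (∀ i, S (ψ i) = 0) ∧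
      (∀ x, x ∉ Set.range ψ → S x = 1 ∨ S x = -1) ∧
      ∀ i x, D i x = S x + δ * unitVec (ψ i) x := by
  obtain ⟨i₀⟩ := Fintype.card_pos_iff.1 hI
  by_cases hI1 : Fintype.card I = 1
  · have hu : ∀ i, i = i₀ := fun i => Fintype.card_le_one_iff.1 hI1.le i i₀
    have h1 : ∀ x ∈ (univ : Finset X), D i₀ x ≠ 0 := fun x _ => by
      obtain ⟨i, hi⟩ := hne x
      rwa [hu i] at hi
    have h2 : ∑ x, D i₀ x * D i₀ x = (n : ℤ) + 1 := by rw [hD, if_pos rfl]
    have h3 : (univ : Finset X).card = l + 1 := by rw [card_univ, hX, hI1]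
    have h4 : ((univ : Finset X).card : ℤ) ≤ (n : ℤ) + 1 := by
      rw [← h2]
      simpa using card_nsmul_le_sum univ (fun x => D i₀ x * D i₀ x) 1 fun x hx => by
        have := mul_self_pos.2 (h1 x hx); omega
    have hln : l = n := by omega
    have h5 := pm_of_norm_le h1 (by rw [h2, h3, hln]; push_cast; rfl)
    obtain ⟨y, hy⟩ : ∃ y, y ≠ x₀ := by
      by_contra hh
      simp only [not_exists, not_not] at hh
      have : Fintype.card X ≤ 1 := Fintype.card_le_one_iff.2 fun a b => (hh a).trans (hh b).symm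
      omega
    refine ⟨hln, fun _ => y, D i₀ y, fun x => if x = y then 0 else D i₀ x, fun a b _ => (hu a).trans (hu b).symm,
      fun _ _ => hy, h5 y (mem_univ _), fun _ => if_pos rfl, fun x hx => ?_, fun i x => ?_⟩
    · have hxy : x ≠ y := fun h => hx ⟨i₀, h.symm⟩
      show (if x = y then 0 else D i₀ x) = 1 ∨ (if x = y then 0 else D i₀ x) = -1
      rw [if_neg hxy]
      exact h5 x (mem_univ _)
    · rw [hu i]
      by_cases hxy : x = y
      · subst hxy; simp [unitVec]
      · simp [unitVec, hxy]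
  have hr : 2 ≤ Fintype.card I := by omega
  obtain ⟨δ, ψ, hδ, hψ, S, hS⟩ := exists_common_vertex D w hw hr hD hw0
  -- the norms
  set N := ∑ x, S x * S x with hN
  have hδ2 : δ * δ = 1 := by rcases hδ with rfl | rfl <;> rfl
  have hpair : ∀ i j, N + δ * S (ψ i) + δ * S (ψ j) + (if i = j then 1 else 0) =
      (n : ℤ) + if i = j then 1 else 0 := by
    intro i j
    rw [← hD i j]
    have e : ∀ x, D i x * D j x = S x * S x + δ * (unitVec (ψ i) x * S x) +
        δ * (unitVec (ψ j) x * S x) + δ * δ * (unitVec (ψ i) x * unitVec (ψ j) x) := fun x => by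
      rw [hS i x, hS j x]; ring
    simp only [e, sum_add_distrib, ← mul_sum, sum_unitVec_mul, sum_unitVec, hψ.eq_iff, hδ2,
      one_mul]
    simp [unitVec, hψ.eq_iff, eq_comm, hN]
  set s := univ.filter fun x => x ∉ Set.range ψ with hs
  have hscard : s.card = l := by
    have : s = univ \ univ.image ψ := by ext x; simp [hs]
    rw [this, card_sdiff_of_subset (subset_univ _), card_univ, hX, card_image_of_injective _ hψ, card_univ]
    omega
  have hs0 : ∀ x ∈ s, S x ≠ 0 := fun x hx h0 => by
    obtain ⟨i, hi⟩ := hne x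
    rw [hS i x, h0, unitVec, if_neg fun h => (mem_filter.1 hx).2 ⟨i, h.symm⟩] at hi
    exact hi (by ring)
  have hsplit : N = ∑ x ∈ s, S x * S x + ∑ i, S (ψ i) * S (ψ i) := by
    rw [hN, ← sum_filter_add_sum_filter_not univ (fun x => x ∉ Set.range ψ), ← hs]
    congr 1
    rw [show (univ.filter fun x => ¬x ∉ Set.range ψ) = univ.image ψ by ext x; simp,
      sum_image fun a _ b _ h => hψ h]
  obtain ⟨k, hk⟩ : ∃ k : ℤ, ∀ i, δ * S (ψ i) = k := ⟨δ * S (ψ i₀), fun i => by
    have h1 := hpair i i
    have h2 := hpair i₀ i₀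
    simp only [if_true] at h1 h2
    omega⟩
  have hsq : ∀ i, S (ψ i) * S (ψ i) = k * k := fun i => by
    rw [← hk i]; linear_combination -(S (ψ i) * S (ψ i)) * hδ2
  have hnk : N + 2 * k = (n : ℤ) := by
    have h1 := hpair i₀ i₀
    simp only [if_true, hk] at h1
    omega
  rw [sum_congr rfl (fun i _ => hsq i), sum_const, card_univ, nsmul_eq_mul] at hsplit
  have hge : (l : ℤ) ≤ ∑ x ∈ s, S x * S x := by
    rw [← hscard]
    simpa using card_nsmul_le_sum s (fun x => S x * S x) 1 fun x hx => by
      have := mul_self_pos.2 (hs0 x hx); omega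
  have hr' : (2 : ℤ) ≤ (Fintype.card I : ℤ) := by exact_mod_cast hr
  have hl' : (n : ℤ) ≤ (l : ℤ) := by exact_mod_cast hl
  have hk0 : k = 0 ∨ k = -1 := by
    have h1 : (Fintype.card I : ℤ) * (k * k) + 2 * k ≤ 0 := by linarith
    have h2 : k * k + k ≤ 0 := by nlinarith
    have h3 : k ≤ 0 := by nlinarith
    have h4 : -1 ≤ k := by nlinarith
    omega
  rcases hk0 with rfl | rfl
  · have hln : l = n := by
      have : (l : ℤ) ≤ n := by linarith
      omega
    refine ⟨hln, ψ, δ, S, hψ, fun h => absurd h hI1, hδ,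
      fun i => (mul_eq_zero.1 (hk i)).resolve_left (by rcases hδ with rfl | rfl <;> norm_num),
      fun x hx => pm_of_norm_le hs0 (by rw [hscard, hln]; linarith) x
        (mem_filter.2 ⟨mem_univ _, hx⟩), hS⟩
  · have hI2 : Fintype.card I = 2 := by
      have : (Fintype.card I : ℤ) ≤ 2 := by linarith
      omega
    have hln : l = n := by
      have : (l : ℤ) ≤ n := by linarith
      omega
    have hsig : ∀ i, S (ψ i) = -δ := fun i => by
      have := hk i; rcases hδ with rfl | rfl <;> omega
    have hoth : ∀ i, ∃ j, j ≠ i ∧ ∀ m, m ≠ i → m = j := fun i => by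
      obtain ⟨j, hj⟩ := Fintype.exists_ne_of_one_lt_card (by omega : 1 < Fintype.card I) i
      refine ⟨j, hj, fun m hm => ?_⟩
      by_contra hmj
      have : ({i, j, m} : Finset I).card ≤ Fintype.card I := card_le_univ _
      rw [card_insert_of_notMem (by simp [hj.symm, hm.symm]),
        card_insert_of_notMem (by simp [Ne.symm hmj]), card_singleton] at this
      omega
    choose o ho ho' using hoth
    have hoi : Function.Injective o := fun a b h => by
      by_contra hab
      exact ho b ((ho' a b (Ne.symm hab)).trans h).symm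
    have hrange : ∀ x, x ∉ Set.range ψ → x ∉ Set.range (ψ ∘ o) :=
      fun x hx ⟨i, hi⟩ => hx ⟨o i, hi⟩
    refine ⟨hln, ψ ∘ o, -δ, fun x => if x ∈ Set.range ψ then 0 else S x, hψ.comp hoi,
      fun h => absurd h hI1, by rcases hδ with rfl | rfl <;> norm_num,
      fun i => if_pos ⟨o i, rfl⟩, fun x hx => ?_, fun i x => ?_⟩
    · have hx' : x ∉ Set.range ψ := fun ⟨i, hi⟩ => hx ⟨o i, by
        have : o (o i) = i := (ho' (o i) i (ho i).symm).symm
        show ψ (o (o i)) = x
        rw [this, hi]⟩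
      show (if x ∈ Set.range ψ then 0 else S x) = 1 ∨ (if x ∈ Set.range ψ then 0 else S x) = -1
      rw [if_neg hx']
      exact pm_of_norm_le hs0 (by rw [hscard, hln]; rw [hI2] at hsplit; push_cast at hsplit; linarith) x
        (mem_filter.2 ⟨mem_univ _, hx'⟩)
    · show D i x = (if x ∈ Set.range ψ then 0 else S x) + -δ * unitVec (ψ (o i)) x
      by_cases hx : x ∈ Set.range ψ
      · obtain ⟨m, rfl⟩ := hx
        rw [if_pos ⟨m, rfl⟩, hS i, hsig, unitVec, unitVec]
        by_cases hm : m = i
        · subst hm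
          rw [if_pos rfl, if_neg fun h => ho m (hψ h).symm]
          ring
        · have := ho' i m hm
          subst this
          rw [if_neg fun h => hm (hψ h), if_pos rfl]
          ring
      · rw [if_neg hx, hS i, unitVec, unitVec, if_neg fun h => hx ⟨i, h.symm⟩,
          if_neg fun h => hx ⟨o i, h.symm⟩]
        ring

end CfsgLib.Cyclic
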