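import Cfsg.Agent.BlocksB.Cyclic.Counting
import Cfsg.Agent.BlocksB.Star.Generalized
import Cfsg.Agent.Char.BrauerInduction

/-!
# The dimension of the simple module of a block with one regular character
-/

set_option autoImplicit false
set_option linter.style.haveILetI false
set_option linter.unusedSectionVars false

namespace CfsgLib.Cyclic

open Cfsg Finset CfsgLib.Block CfsgLib.Block.Chr CfsgLib.BrauerPairs CfsgLib.BlockStar
  CfsgLib.BlockB Module
open scoped ComplexConjugate
open scoped Classical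

universe u

variable {M : Ideal AlgInt} [M.IsPrime] {p : ℕ} [Fact p.Prime] [CharP (Residue M) p]
  {G : Type u} [Group G] [Fintype G]

local notation "𝕜" => Residue M

/-- The lift of a block idempotent with its characteristic zero coefficients. -/
noncomputable def liftIdem {B : Set (IrrCharacter G)} (hB : IsPBlock M B) : LA M G :=
  MonoidAlgebra.ofCoeff (Finsupp.equivFunOnFinite.symm fun g =>
    (⟨blockCoeff B g, (isIntClass_blockCoeff hB).2 g⟩ : localRing M))

@[simp] theorem coeff_liftIdem {B : Set (IrrCharacter G)} (hB : IsPBlock M B) (g : G) :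
    ((liftIdem hB).coeff g : ℂ) = blockCoeff B g := rfl

theorem liftIdem_idem {B : Set (IrrCharacter G)} (hB : IsPBlock M B) :
    liftIdem hB * liftIdem hB = liftIdem hB := by
  refine MonoidAlgebra.coeff_injective (Finsupp.ext fun g => Subtype.ext ?_)
  rw [coeff_mul']
  push_cast
  simp only [coeff_liftIdem]
  exact congrFun (conv_blockCoeff_self B) g

theorem redA_liftIdem {B : Set (IrrCharacter G)} (hB : IsPBlock M B) :
    redA (liftIdem hB) = idem M B := by
  refine coeff_ext fun g => ?_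
  rw [coeff_redA, idem, coeff_redFun, red_eq ((isIntClass_blockCoeff hB).2 g)]
  rfl

theorem commute_liftIdem {B : Set (IrrCharacter G)} (hB : IsPBlock M B) (g : G) :
    Commute (MonoidAlgebra.single g (1 : localRing M)) (liftIdem hB) :=
  (commute_single_iff g _).2 fun h => Subtype.ext (isClassFunction_blockCoeff B h g)

/-- The left ideal generated by an element. -/
noncomputable abbrev leftIdeal (i : MonoidAlgebra 𝕜 G) : Submodule (MonoidAlgebra 𝕜 G) (MonoidAlgebra 𝕜 G) :=
  Submodule.span (MonoidAlgebra 𝕜 G) {i}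

theorem mem_leftIdeal {i y : MonoidAlgebra 𝕜 G} (hi : i * i = i) :
    y ∈ leftIdeal i ↔ y * i = y := by
  rw [leftIdeal, Submodule.mem_span_singleton]
  refine ⟨?_, fun h => ⟨y, h⟩⟩
  rintro ⟨a, rfl⟩
  rw [smul_eq_mul, mul_assoc, hi]

theorem restrictScalars_leftIdeal (i : MonoidAlgebra 𝕜 G) :
    (leftIdeal i).restrictScalars 𝕜 = LinearMap.range (LinearMap.mulRight 𝕜 i) := by
  ext y
  rw [Submodule.restrictScalars_mem, leftIdeal, Submodule.mem_span_singleton, LinearMap.mem_range]
  rfl

theorem finrank_leftIdeal (i : MonoidAlgebra 𝕜 G) :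
    finrank 𝕜 (leftIdeal i) = finrank 𝕜 (LinearMap.range (LinearMap.mulRight 𝕜 i)) := by
  rw [← restrictScalars_leftIdeal]
  rfl

theorem range_act_leftIdeal (a i : MonoidAlgebra 𝕜 G) :
    finrank 𝕜 (LinearMap.range (act 𝕜 (leftIdeal i) a)) =
      finrank 𝕜 (LinearMap.range ((LinearMap.mulLeft 𝕜 a).comp (LinearMap.mulRight 𝕜 i))) := by
  have h : (LinearMap.range (act 𝕜 (leftIdeal i) a)).map
      ((leftIdeal i).subtype.restrictScalars 𝕜) =
      LinearMap.range ((LinearMap.mulLeft 𝕜 a).comp (LinearMap.mulRight 𝕜 i)) := by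
    ext y
    constructor
    · rintro ⟨_, ⟨z, rfl⟩, rfl⟩
      obtain ⟨b, hb⟩ := Submodule.mem_span_singleton.1 z.2
      refine ⟨b, ?_⟩
      show a * (b * i) = a * (z : MonoidAlgebra 𝕜 G)
      rw [← hb, smul_eq_mul]
    · rintro ⟨b, rfl⟩
      exact ⟨_, ⟨⟨b * i, Submodule.mem_span_singleton.2 ⟨b, rfl⟩⟩, rfl⟩, rfl⟩
  rw [← h]
  exact LinearEquiv.finrank_eq (Submodule.equivMapOfInjective _
    (show Function.Injective ((leftIdeal i).subtype.restrictScalars 𝕜) from Subtype.val_injective) _)

variable {B : Set (IrrCharacter G)}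

theorem finrank_block (hM : IsPModular p M) (hB : IsPBlock M B) [Fintype (IrrCharacter G)] :
    (finrank 𝕜 (leftIdeal (idem M B)) : ℂ) =
      ∑ χ ∈ univ.filter (· ∈ B), ((χ : G → ℂ) 1) ^ 2 := by
  rw [finrank_leftIdeal, ← redA_liftIdem hB, finrank_mulRight (liftIdem_idem hB), coeff_liftIdem,
    blockCoeff_eq_sum, ← mul_assoc, mul_inv_cancel₀ (Nat.cast_ne_zero.2 Nat.card_pos.ne'), one_mul]
  refine sum_congr rfl fun χ _ => ?_
  rw [(irr_one χ).1, Complex.conj_natCast, sq]

/-- The regular part of an element. -/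
noncomputable def regP (p : ℕ) [Fact p.Prime] (g : G) : G :=
  (exists_pElt p g).choose_spec.choose

theorem regP_mul {x s : G} (h : PElt p x s) : regP p (x * s) = s := by
  have := (exists_pElt p (x * s)).choose_spec.choose_spec
  exact regularPart_unique this.1 h this.2

theorem regP_conj (g t : G) : regP p (t * g * t⁻¹) = t * regP p g * t⁻¹ := by
  obtain ⟨x, s, h, rfl⟩ := exists_pElt p g
  rw [regP_mul h, ← regP_mul (h.conj t)]
  congr 1
  group

theorem regP_of_not_dvd {g : G} (hg : ¬ p ∣ orderOf g) : regP p g = g := by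
  obtain ⟨x, s, h, rfl⟩ := exists_pElt p g
  rw [regP_mul h]
  obtain ⟨n, hn⟩ := h.pow
  obtain ⟨i, -, hi⟩ := (Nat.dvd_prime_pow (Fact.out : p.Prime)).1 (orderOf_dvd_of_pow_eq_one hn)
  have hcop : Nat.Coprime (orderOf x) (orderOf s) := by
    rw [hi]; exact (((Fact.out : p.Prime).coprime_iff_not_dvd.2 h.reg).pow_left i)
  rw [h.comm.orderOf_mul_eq_mul_orderOf_of_coprime hcop, hi] at hg
  have : i = 0 := by
    by_contra h0
    exact hg (dvd_mul_of_dvd_left (dvd_pow_self p h0) _)
  rw [this, pow_zero] at hi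
  rw [orderOf_eq_one_iff.1 hi, one_mul]

/-- **The regular character is at most the dimension of the simple module.** -/
theorem le_finrank_simple (hM : IsPModular p M) (hB : IsPBlock M B) {χ₀ : IrrCharacter G}
    (hχ₀ : χ₀ ∈ B)
    (hreg : ∀ χ ∈ B, ∀ g : G, ¬ p ∣ orderOf g → (χ : G → ℂ) g = (χ₀ : G → ℂ) g)
    (W : Type u) [AddCommGroup W] [Module 𝕜 W] [Module (MonoidAlgebra 𝕜 G) W]
    [IsScalarTower 𝕜 (MonoidAlgebra 𝕜 G) W] [FiniteDimensional 𝕜 W]
    [IsSimpleModule (MonoidAlgebra 𝕜 G) W]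
    (hall : ∀ (U : Type u) [AddCommGroup U] [Module 𝕜 U] [Module (MonoidAlgebra 𝕜 G) U]
      [IsScalarTower 𝕜 (MonoidAlgebra 𝕜 G) U] [FiniteDimensional 𝕜 U]
      [IsSimpleModule (MonoidAlgebra 𝕜 G) U],
      (∀ x : U, idem M B • x = x) → Nonempty (U ≃ₗ[MonoidAlgebra 𝕜 G] W)) :
    charDegree (χ₀ : G → ℂ) ≤ finrank 𝕜 W := by
  have hp : p.Prime := Fact.out
  letI := irrFintype (G := G)
  set d := charDegree (χ₀ : G → ℂ)
  set w := finrank 𝕜 W
  have hd0 : (d : ℂ) ≠ 0 := Nat.cast_ne_zero.2 (irr_one χ₀).2.ne'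
  have h1 : ∀ χ ∈ B, (χ : G → ℂ) 1 = (d : ℂ) := fun χ hχ => by
    rw [hreg χ hχ 1 (by rw [orderOf_one]; exact hp.not_dvd_one), (irr_one χ₀).1]
  have hdim : (finrank 𝕜 (leftIdeal (idem M B)) : ℂ) = (Nat.card B : ℂ) * (d : ℂ) ^ 2 := by
    rw [finrank_block hM hB, sum_congr rfl fun χ hχ => by rw [h1 χ (mem_filter.1 hχ).2],
      sum_const, nsmul_eq_mul, Nat.card_eq_fintype_card, Fintype.card_subtype]
  haveI : Nonempty B := ⟨⟨χ₀, hχ₀⟩⟩
  have hk0 : (Nat.card B : ℂ) ≠ 0 := Nat.cast_ne_zero.2 Nat.card_pos.ne'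
  have hfE : idem M B * idem M B = idem M B := (isBlk_idem hM hB).idem
  set φ : G → ℂ := fun g => (w : ℂ) / d * (χ₀ : G → ℂ) (regP p g)
  have hφcl : IsClassFunction G φ := fun g t => by
    simp only [φ, regP_conj]
    rw [isClassFunction_irr χ₀ _ t]
  -- multiplicities of linear characters of subgroups of order prime to `p`
  have hmult : ∀ (S : Subgroup G) [Fintype S], (∀ s ∈ S, ¬ p ∣ orderOf s) → ∀ lam : S →* ℂˣ,
      ∃ N : ℕ, (w : ℂ) / d * ∑ s : S, (χ₀ : G → ℂ) s * conj (lam s : ℂ) =
        (Nat.card S : ℂ) * N := by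
    intro S _ hS lam
    have hSp : ¬ p ∣ Nat.card S := fun hd => by
      obtain ⟨s, hs⟩ := exists_prime_orderOf_dvd_card' p hd
      exact hS s s.2 (by rw [Subgroup.orderOf_coe, hs])
    have hlam : ∀ s : S, MemLocalRing M (lam s : ℂ) := fun s => memLocalRing_of_isIntegral
      (CfsgLib.Char.IsCharacter.isIntegral (CfsgLib.Char.IsIrrCharacter.isCharacter
        (CfsgLib.Char.isIrrCharacter_ofHom lam)) s)
    set c : G → ℂ := fun g => if hg : g ∈ S then (Nat.card S : ℂ)⁻¹ * (lam ⟨g, hg⟩⁻¹ : ℂˣ) else 0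
      with hcdef
    have hc : ∀ g, MemLocalRing M (c g) := fun g => by
      simp only [hcdef]
      split_ifs with hg
      · exact memLocalRing_mul (memLocalRing_natCast_inv hM hSp) (hlam _)
      · exact memLocalRing_zero
    let ē : LA M G := MonoidAlgebra.ofCoeff (Finsupp.equivFunOnFinite.symm fun g =>
      (⟨c g, hc g⟩ : localRing M))
    have hce : ∀ g, ((ē.coeff g : localRing M) : ℂ) = c g := fun g => rfl
    have hcS : ∀ s : S, c (s : G) = (Nat.card S : ℂ)⁻¹ * (lam s : ℂ)⁻¹ := fun s => by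
      simp only [hcdef, dif_pos s.2, Subtype.coe_eta, map_inv, Units.val_inv_eq_inv_val]
    have hsumS : ∀ F : G → ℂ, ∑ g : G, c g * F g = ∑ s : S, c (s : G) * F s := fun F => by
      refine (Fintype.sum_of_injective _ Subtype.val_injective _ _ (fun g hg => ?_) fun s => rfl).symm
      simp only [hcdef]
      rw [dif_neg fun hm => hg ⟨⟨g, hm⟩, rfl⟩, zero_mul]
    have hee : ē * ē = ē := by
      refine MonoidAlgebra.coeff_injective (Finsupp.ext fun g => Subtype.ext ?_)
      rw [coeff_mul']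
      push_cast
      simp only [hce]
      rw [hsumS fun x => c (x⁻¹ * g)]
      by_cases hg : g ∈ S
      · obtain ⟨g, rfl⟩ : ∃ h : S, (h : G) = g := ⟨⟨g, hg⟩, rfl⟩
        have : ∀ s : S, c (s : G) * c ((s : G)⁻¹ * g) = (Nat.card S : ℂ)⁻¹ * c g := fun s => by
          rw [show (s : G)⁻¹ * (g : G) = ((s⁻¹ * g : S) : G) from rfl, hcS, hcS, hcS, map_mul,
            map_inv, Units.val_mul, Units.val_inv_eq_inv_val, mul_inv, inv_inv]
          field_simp
        rw [sum_congr rfl fun s _ => this s, sum_const, card_univ, nsmul_eq_mul,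
          ← Nat.card_eq_fintype_card, mul_inv_cancel_left₀ (Nat.cast_ne_zero.2 Nat.card_pos.ne')]
      · rw [show c g = 0 from dif_neg hg]
        refine sum_eq_zero fun s _ => ?_
        rw [show c ((s : G)⁻¹ * g) = 0 from dif_neg fun hm => hg (by simpa using S.mul_mem s.2 hm),
          mul_zero]
    set a := ē * liftIdem hB
    have hcom : Commute ē (liftIdem hB) := by
      rw [← MonoidAlgebra.sum_coeff_single ē]
      refine Commute.sum_left _ _ _ fun g _ => ?_
      rw [show (MonoidAlgebra.single g (ē.coeff g) : LA M G) =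
        ē.coeff g • MonoidAlgebra.single g (1 : localRing M) by rw [MonoidAlgebra.smul_single', mul_one]]
      exact (commute_liftIdem hB g).smul_left _
    have haa : a * a = a := by
      show ē * liftIdem hB * (ē * liftIdem hB) = _
      rw [mul_assoc, ← mul_assoc (liftIdem hB), ← hcom.eq, mul_assoc ē (liftIdem hB),
        liftIdem_idem hB, ← mul_assoc, hee]
    have hval : (Nat.card G : ℂ) * ((a.coeff 1 : localRing M) : ℂ) =
        (Nat.card S : ℂ)⁻¹ * ((Nat.card B : ℂ) * d * ∑ s : S, (χ₀ : G → ℂ) s * conj (lam s : ℂ)) := by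
      rw [show a.coeff 1 = _ from coeff_mul' _ _ _]
      push_cast
      simp only [hce, coeff_liftIdem, mul_one]
      rw [hsumS fun x => blockCoeff B x⁻¹, mul_sum, mul_sum, mul_sum]
      refine sum_congr rfl fun s _ => ?_
      rw [hcS, blockCoeff_eq_sum]
      have hs : ¬ p ∣ orderOf (s : G) := hS s s.2
      have e1 : ∀ χ ∈ univ.filter (· ∈ B), (χ : G → ℂ) 1 * conj ((χ : G → ℂ) (s : G)⁻¹) =
          (d : ℂ) * (χ₀ : G → ℂ) s := fun χ hχ => by
        rw [← CfsgLib.Char.IsIrrCharacter.apply_inv χ.2, inv_inv, h1 χ (mem_filter.1 hχ).2,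
          hreg χ (mem_filter.1 hχ).2 _ hs]
      rw [sum_congr rfl e1, sum_const, nsmul_eq_mul, Nat.card_eq_fintype_card (α := B),
        Fintype.card_subtype]
      have hu : conj (lam s : ℂ) = (lam s : ℂ)⁻¹ := by
        rw [← CfsgLib.Char.IsIrrCharacter.apply_inv (CfsgLib.Char.isIrrCharacter_ofHom lam) s,
          map_inv, Units.val_inv_eq_inv_val]
      rw [hu]
      field_simp [(Nat.cast_ne_zero (R := ℂ)).2 (Nat.card_pos (α := G)).ne']
    refine ⟨finrank 𝕜 (LinearMap.range (act 𝕜 W (redA ē))), ?_⟩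
    have hX := finrank_act_mul (k := 𝕜) (f := idem M B) (a := redA ē)
      (by rw [← map_mul, hee]) (W := W) hall _ (leftIdeal (idem M B)) rfl fun x => Subtype.ext (by
        show idem M B * (x : MonoidAlgebra 𝕜 G) = x
        rw [← alg_commute le_rfl (suppIn_top (x : MonoidAlgebra 𝕜 G)) (isBlk_idem hM hB).mem.2]
        exact (mem_leftIdeal hfE).1 x.2)
    have hr : (LinearMap.mulLeft 𝕜 (redA ē)).comp (LinearMap.mulRight 𝕜 (idem M B)) =
        LinearMap.mulLeft 𝕜 (redA a) := by
      refine LinearMap.ext fun y => ?_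
      show redA ē * (y * idem M B) = redA a * y
      rw [map_mul, redA_liftIdem, mul_assoc, alg_commute le_rfl (suppIn_top y)
          (isBlk_idem hM hB).mem.2]
    rw [range_act_leftIdeal, hr] at hX
    have hX' := congrArg (fun n : ℕ => (n : ℂ)) hX
    simp only [Nat.cast_mul] at hX'
    rw [finrank_mulLeft haa, hval, hdim] at hX'
    field_simp at hX' ⊢
    linear_combination hX'
  -- `φ` is a generalized character
  have hgen : ∀ χ : IrrCharacter G, ∃ z : ℤ, classInner φ (χ : G → ℂ) = z := by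
    intro χ
    have key : ∀ f ∈ CfsgLib.Char.linSpan (CfsgLib.Char.IsElem (G := G)),
        ∃ z : ℤ, classInner φ f = z := by
      intro f hf
      induction hf using Submodule.span_induction with
      | mem f hf =>
        obtain ⟨E, lam, ⟨q, hq, hE⟩, rfl⟩ := hf
        haveI := Fintype.ofFinite E
        rw [CfsgLib.Char.classInner_indFun_right hφcl, CfsgLib.Char.classInner_def]
        obtain ⟨Q, S, hQE, hSE, hQ, hS, hcomm, hsplit⟩ := exists_split (p := p) E hq hE
        haveI := Fintype.ofFinite Q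
        haveI := Fintype.ofFinite S
        obtain ⟨N, hN⟩ := hmult S hS (lam.comp (Subgroup.inclusion hSE))
        have hpe : ∀ (u : Q) (s : S), PElt p (u : G) (s : G) := fun u s => by
          obtain ⟨n, hn⟩ := hQ u
          exact ⟨⟨n, by rw [← SubgroupClass.coe_pow, hn]; rfl⟩, hS s s.2, hcomm u u.2 s s.2⟩
        let ι : Q × S → E := fun v => ⟨v.1 * v.2, E.mul_mem (hQE v.1.2) (hSE v.2.2)⟩
        have hι : Function.Bijective ι := by
          refine ⟨fun a b hab => ?_, fun e => ?_⟩
          · have h' : (a.1 : G) * a.2 = b.1 * b.2 := congrArg Subtype.val hab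
            have hs := regularPart_unique (hpe a.1 a.2) (hpe b.1 b.2) h'
            rw [hs] at h'
            exact Prod.ext (Subtype.ext (mul_right_cancel h')) (Subtype.ext hs)
          · obtain ⟨u, hu, s, hs, he⟩ := hsplit e e.2
            exact ⟨(⟨u, hu⟩, ⟨s, hs⟩), Subtype.ext he⟩
        rw [← (Equiv.ofBijective ι hι).sum_comp, Fintype.sum_prod_type]
        have hcard : Nat.card E = Nat.card Q * Nat.card S := by
          rw [← Nat.card_prod, Nat.card_congr (Equiv.ofBijective ι hι)]
        set μ : Q →* ℂˣ := lam.comp (Subgroup.inclusion hQE)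
        have hterm : ∀ u : Q, ∑ s : S, φ ((ι (u, s) : E) : G) * conj (lam (ι (u, s)) : ℂ) =
            conj (μ u : ℂ) * ((Nat.card S : ℂ) * N) := fun u => by
          rw [← hN, mul_sum, mul_sum]
          refine sum_congr rfl fun s _ => ?_
          simp only [φ, ι, regP_mul (hpe u s), μ]
          rw [show (⟨(u : G) * (s : G), _⟩ : E) = Subgroup.inclusion hQE u * Subgroup.inclusion hSE s
            from rfl, map_mul, Units.val_mul, map_mul]
          simp only [MonoidHom.comp_apply]
          ring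
        simp only [Equiv.ofBijective_apply]
        rw [sum_congr rfl fun u _ => hterm u, ← sum_mul, hcard, Nat.cast_mul]
        have hQ0 : (Nat.card Q : ℂ) ≠ 0 := Nat.cast_ne_zero.2 Nat.card_pos.ne'
        have hS0 : (Nat.card S : ℂ) ≠ 0 := Nat.cast_ne_zero.2 Nat.card_pos.ne'
        by_cases hμ : μ = 1
        · refine ⟨N, ?_⟩
          simp only [hμ, MonoidHom.one_apply, Units.val_one, map_one, sum_const, card_univ,
            nsmul_eq_mul, mul_one, ← Nat.card_eq_fintype_card]
          push_cast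
          field_simp
        · refine ⟨0, ?_⟩
          have : ∑ u : Q, conj (μ u : ℂ) = 0 := by
            rw [← map_sum]
            have h0 : (Units.coeHom ℂ).comp μ ≠ 1 := fun hc => hμ (MonoidHom.ext fun v =>
              Units.ext (DFunLike.congr_fun hc v))
            exact (congrArg conj (sum_hom_units_eq_zero ((Units.coeHom ℂ).comp μ) h0)).trans
              (map_zero _)
          rw [this]; simp
      | zero => exact ⟨0, by simp [CfsgLib.Char.classInner_def]⟩
      | add f g _ _ h1 h2 =>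
        obtain ⟨a, ha⟩ := h1; obtain ⟨b, hb⟩ := h2
        refine ⟨a + b, ?_⟩
        rw [CfsgLib.Char.classInner_def] at ha hb ⊢
        push_cast
        rw [← ha, ← hb, ← mul_add, ← sum_add_distrib]
        simp [mul_add]
      | smul n f _ h =>
        obtain ⟨a, ha⟩ := h
        refine ⟨n * a, ?_⟩
        rw [CfsgLib.Char.classInner_def] at ha ⊢
        push_cast
        rw [← ha]
        simp only [mul_sum]
        refine sum_congr rfl fun g _ => ?_
        simp only [Pi.smul_apply, zsmul_eq_mul, map_mul, map_intCast]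
        ring
    exact key _ (CfsgLib.Char.brauer_induction (CfsgLib.Char.IsIrrCharacter.isCharacter χ.2))
  choose z hz using hgen
  have hone : blockPart B φ 1 = (w : ℂ) := by
    have h1' : ¬ p ∣ orderOf (1 : G) := by rw [orderOf_one]; exact hp.not_dvd_one
    rw [blockPart_congr_regular hM hB (θ' := fun g => (w : ℂ) / d * (χ₀ : G → ℂ) g)
      (fun c hc => by simp only [φ, regP_of_not_dvd hc]) h1',
      show (fun g => (w : ℂ) / d * (χ₀ : G → ℂ) g) =
        fun g => ∑ _i ∈ ({()} : Finset Unit), (w : ℂ) / d * (χ₀ : G → ℂ) g by simp,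
      blockPart_sum_mul, sum_singleton, blockPart_irr, if_pos hχ₀, (irr_one χ₀).1]
    exact div_mul_cancel₀ _ hd0
  rw [blockPart_eq_sum_inner, sum_congr rfl fun χ hχ => by rw [hz χ, h1 χ (mem_filter.1 hχ).2],
    ← sum_mul] at hone
  have hdvd : (d : ℤ) ∣ (w : ℤ) := ⟨∑ χ ∈ univ.filter (· ∈ B), z χ, by
    have : ((w : ℤ) : ℂ) = (((d : ℤ) * ∑ χ ∈ univ.filter (· ∈ B), z χ : ℤ) : ℂ) := by
      push_cast; rw [← hone]; ring
    exact_mod_cast this⟩
  haveI := IsSimpleModule.nontrivial (MonoidAlgebra 𝕜 G) W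
  exact Nat.le_of_dvd Module.finrank_pos (Int.natCast_dvd_natCast.1 hdvd)

end CfsgLib.Cyclic
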