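import Cfsg.Agent.BlocksB.Cyclic.Central
import Cfsg.Agent.BlocksB.Cyclic.Degree

/-!
# An equivariant corner of a nilpotent block with cyclic defect group
-/

set_option autoImplicit false
set_option linter.style.haveILetI false
set_option linter.unusedSectionVars false

namespace CfsgLib.Cyclic

open Cfsg Finset CfsgLib.Block CfsgLib.Block.Chr CfsgLib.BrauerPairs CfsgLib.BlockStar
  CfsgLib.BlockB Module
open scoped Classical

universe u v

section Generic

variable {k : Type v} [Field k] {A : Type*} [Ring A] [Algebra k A]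

/-- A corner of small rank is generated by a nilpotent central element. -/
theorem exists_poly_of_finrank [FiniteDimensional k A] {i x : A} {m : ℕ} (hi : i * i = i)
    (hx : ∀ y, Commute x y) (hxm : x ^ m = 0) (htop : x ^ (m - 1) * i ≠ 0)
    (hdim : finrank k (LinearMap.range ((LinearMap.mulLeft k i).comp (LinearMap.mulRight k i))) ≤ m)
    (y : A) : ∃ P : Polynomial k, i * y * i = Polynomial.aeval x P * i := by
  let L : (Fin m → k) →ₗ[k] A := Fintype.linearCombination k fun j : Fin m => x ^ (j : ℕ) * i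
  have hbig : ∀ j, m ≤ j → x ^ j = 0 := fun j hj => by
    rw [← Nat.sub_add_cancel hj, pow_add, hxm, mul_zero]
  have hinj : Function.Injective L := by
    rw [← LinearMap.ker_eq_bot, Submodule.eq_bot_iff]
    intro c hc
    by_contra hne
    obtain ⟨j0, hj0⟩ : ∃ j : Fin m, c j ≠ 0 := Function.ne_iff.1 hne
    obtain ⟨j1, hj1, hmin⟩ := Finset.exists_min_image
      (Finset.univ.filter fun j : Fin m => c j ≠ 0) id ⟨j0, by simp [hj0]⟩
    simp only [Finset.mem_filter, Finset.mem_univ, true_and] at hj1 hmin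
    have h1 : x ^ (m - 1 - (j1 : ℕ)) * L c = 0 := by rw [LinearMap.mem_ker.1 hc, mul_zero]
    simp only [L, Fintype.linearCombination_apply, mul_sum, mul_smul_comm, ← mul_assoc,
      ← pow_add] at h1
    rw [Finset.sum_eq_single j1] at h1
    · rw [show m - 1 - (j1 : ℕ) + j1 = m - 1 by omega, smul_eq_zero] at h1
      exact htop (h1.resolve_left hj1)
    · intro j _ hne'
      rcases eq_or_ne (c j) 0 with h0 | h0
      · rw [h0, zero_smul]
      · have : (j1 : ℕ) ≤ j := hmin j h0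
        have : (j : ℕ) ≠ j1 := fun e => hne' (Fin.ext e)
        rw [hbig _ (by omega), zero_mul, smul_zero]
    · simp
  have hle : LinearMap.range L ≤
      LinearMap.range ((LinearMap.mulLeft k i).comp (LinearMap.mulRight k i)) := by
    rintro _ ⟨c, rfl⟩
    rw [Fintype.linearCombination_apply]
    refine Submodule.sum_mem _ fun j _ => Submodule.smul_mem _ _ ⟨x ^ (j : ℕ), ?_⟩
    show i * (x ^ (j : ℕ) * i) = x ^ (j : ℕ) * i
    rw [← mul_assoc, ← ((hx i).pow_left _).eq, mul_assoc, hi]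
  have heq := Submodule.eq_of_le_of_finrank_le hle
    (by rw [LinearMap.finrank_range_of_inj hinj, Module.finrank_fin_fun]; exact hdim)
  obtain ⟨c, hc⟩ : i * y * i ∈ LinearMap.range L := by
    rw [heq]; exact ⟨y, (mul_assoc i y i).symm⟩
  refine ⟨∑ j : Fin m, Polynomial.C (c j) * Polynomial.X ^ (j : ℕ), ?_⟩
  rw [← hc, Fintype.linearCombination_apply, map_sum, sum_mul]
  refine sum_congr rfl fun j _ => ?_
  simp [Algebra.smul_def, mul_assoc]

/-- A semi-invariant generator congruent to a given one. -/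
theorem exists_semiinvariant (σ : A ≃ₐ[k] A) {o : ℕ} (ho : (o : k) ≠ 0) (hσ : σ ^ o = 1) {f x₀ : A}
    (hfx : x₀ * f = x₀) (hx₀ : ∀ y, Commute x₀ y) {m : ℕ} (hm : 1 < m) (hxm : x₀ ^ m = 0)
    (htop : x₀ ^ (m - 1) ≠ 0) {P : Polynomial k} (hP : σ x₀ = Polynomial.aeval x₀ P * f)
    (hfc : ∀ y, Commute f y) (hff : f * f = f) :
    ∃ (x : A) (ζ : k), ζ ^ o = 1 ∧ (∀ y, Commute x y) ∧ x * f = x ∧ σ x = ζ • x ∧ x ^ m = 0 ∧
      x ^ (m - 1) = x₀ ^ (m - 1) := by
  have hP0 : Polynomial.aeval x₀ P =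
      Polynomial.aeval x₀ (Polynomial.C (P.coeff 0)) + x₀ * Polynomial.aeval x₀ P.divX := by
    conv_lhs => rw [← Polynomial.X_mul_divX_add P]
    rw [map_add, map_mul, Polynomial.aeval_X, add_comm]
  have hbig : ∀ j, m ≤ j → x₀ ^ j = 0 := fun j hj => by
    rw [← Nat.sub_add_cancel hj, pow_add, hxm, mul_zero]
  have hRc : ∀ (Q : Polynomial k) (y : A), Commute (Polynomial.aeval x₀ Q) y := fun Q y => by
    induction Q using Polynomial.induction_on' with
    | add a b ha hb => rw [map_add]; exact ha.add_left hb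
    | monomial n r =>
      rw [Polynomial.aeval_monomial]
      exact (show Commute (algebraMap k A r) y from Algebra.commutes r y).mul_left ((hx₀ y).pow_left n)
  have hσc : ∀ r : A, (∀ y, Commute r y) → ∀ y, Commute (σ r) y := fun r hr y => by
    have := (hr (σ.symm y)).map σ
    rwa [AlgEquiv.apply_symm_apply] at this
  have hc0 : P.coeff 0 = 0 := by
    have h1 : (σ x₀) * x₀ ^ (m - 1) = P.coeff 0 • x₀ ^ (m - 1) := by
      rw [hP, hP0, mul_assoc, ← (hfc _).symm.eq]
      rw [show x₀ ^ (m - 1) * f = x₀ ^ (m - 1) by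
        rw [show m - 1 = m - 2 + 1 by omega, pow_succ, mul_assoc, hfx], add_mul, Polynomial.aeval_C,
        ← Algebra.smul_def, mul_assoc, ((hRc _ _)).eq, ← mul_assoc, ← pow_succ', hbig (m - 1 + 1) (by omega),
        zero_mul, add_zero]
    have hnil : (P.coeff 0) ^ m • x₀ ^ (m - 1) = 0 := by
      have h2 : ∀ j, (σ x₀) ^ j * x₀ ^ (m - 1) = (P.coeff 0) ^ j • x₀ ^ (m - 1) := fun j => by
        induction j with
        | zero => simp
        | succ j ih => rw [pow_succ, mul_assoc, h1, mul_smul_comm, ih, smul_smul, ← pow_succ']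
      rw [← h2, ← map_pow, hxm, map_zero, zero_mul]
    exact eq_zero_of_pow_eq_zero ((smul_eq_zero.1 hnil).resolve_right htop)
  set c := P.coeff 1
  have hform : ∃ r : A, (∀ y, Commute r y) ∧ σ x₀ = c • x₀ + x₀ ^ 2 * r := by
    refine ⟨Polynomial.aeval x₀ P.divX.divX * f, fun y => (hRc _ y).mul_left (hfc y), ?_⟩
    rw [hP, hP0, hc0, map_zero, map_zero, zero_add]
    conv_lhs => rw [← Polynomial.X_mul_divX_add P.divX, Polynomial.coeff_divX, zero_add]
    rw [map_add, map_mul, Polynomial.aeval_X, Polynomial.aeval_C, mul_add, add_mul,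
      Algebra.smul_def, ← Algebra.commutes, mul_assoc (algebraMap k A c) x₀ f, hfx, add_comm, sq]
    simp only [mul_assoc]
  obtain ⟨r, hr, hr'⟩ := hform
  have hpowj : ∀ j : ℕ, ∃ rj : A, (∀ y, Commute rj y) ∧ (σ ^ j) x₀ = c ^ j • x₀ + x₀ ^ 2 * rj := by
    intro j
    induction j with
    | zero => exact ⟨0, fun y => Commute.zero_left y, by simp⟩
    | succ j ih =>
      obtain ⟨rj, hrj, hj⟩ := ih
      refine ⟨c ^ j • r + (c • 1 + x₀ * r) ^ 2 * σ rj, fun y => ((hr y).smul_left _).add_left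
        (((((Commute.one_left y).smul_left c).add_left ((hx₀ y).mul_left (hr y))).pow_left 2).mul_left
          (hσc rj hrj y)), ?_⟩
      rw [pow_succ' σ, AlgEquiv.mul_apply, hj, map_add, map_smul, map_mul, map_pow, hr',
        show c • x₀ + x₀ ^ 2 * r = x₀ * (c • 1 + x₀ * r) by
          rw [mul_add, mul_smul_comm, mul_one, sq, mul_assoc],
        (show Commute x₀ (c • 1 + x₀ * r) from hx₀ _).mul_pow]
      rw [mul_add (x₀ ^ 2), ← mul_assoc (x₀ ^ 2), mul_smul_comm (c ^ j) (x₀ ^ 2), mul_add x₀,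
        mul_smul_comm c, mul_one, smul_add, smul_smul, ← pow_succ, add_assoc, sq x₀,
        mul_assoc x₀ x₀ r]
  obtain ⟨ro, -, hro'⟩ := hpowj o
  rw [hσ, AlgEquiv.one_apply] at hro'
  have hco : c ^ o = 1 := by
    have h1 : x₀ ^ (m - 1) = c ^ o • x₀ ^ (m - 1) := by
      calc x₀ ^ (m - 1) = x₀ ^ (m - 2) * x₀ := by rw [← pow_succ]; congr 1; omega
        _ = x₀ ^ (m - 2) * (c ^ o • x₀ + x₀ ^ 2 * ro) := by rw [← hro']
        _ = _ := by
          rw [mul_add, mul_smul_comm, ← pow_succ, ← mul_assoc, ← pow_add,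
            hbig (m - 2 + 2) (by omega), zero_mul, add_zero, show m - 2 + 1 = m - 1 by omega]
    exact (smul_left_injective k htop ((one_smul k _).trans h1)).symm
  have ho0 : o ≠ 0 := fun e => ho (by simp [e])
  have hc : c ≠ 0 := fun e => by rw [e, zero_pow ho0] at hco; exact zero_ne_one hco
  choose rj hrj hrj' using hpowj
  set x := (o : k)⁻¹ • ∑ j ∈ range o, (c⁻¹) ^ j • (σ ^ j) x₀
  set r' := (o : k)⁻¹ • ∑ j ∈ range o, (c⁻¹) ^ j • rj j
  have hx : x = x₀ * (1 + x₀ * r') := by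
    simp only [x, r', hrj', smul_add, smul_smul, sum_add_distrib, ← mul_pow, inv_mul_cancel₀ hc,
      one_pow, one_smul, sum_const, card_range, ← Nat.cast_smul_eq_nsmul k, inv_mul_cancel₀ ho,
      mul_add, mul_one, mul_smul_comm, mul_sum, smul_sum, sq, mul_assoc, mul_inv_cancel₀ ho]
  have hxc : ∀ y, Commute x y := fun y => by
    rw [hx]
    exact (hx₀ y).mul_left ((Commute.one_left y).add_left ((hx₀ y).mul_left
      ((Commute.sum_left _ _ _ fun j _ => (hrj j y).smul_left _).smul_left _)))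
  refine ⟨x, c, hco, hxc, ?_, ?_, ?_, ?_⟩
  · rw [hx, mul_assoc, (hfc _).symm.eq, ← mul_assoc, hfx]
  · simp only [x, map_smul, map_sum, ← AlgEquiv.mul_apply, ← pow_succ']
    rw [smul_comm c, smul_sum (r := c)]
    congr 1
    let g : ℕ → A := fun j => (c⁻¹) ^ j • (σ ^ j) x₀
    have h2 : ∀ j, (c⁻¹) ^ j • (σ ^ (j + 1)) x₀ = c • g (j + 1) := fun j => by
      simp only [g, smul_smul]
      congr 1
      rw [pow_succ', ← mul_assoc, mul_inv_cancel₀ hc, one_mul]
    rw [sum_congr rfl fun j _ => h2 j, ← smul_sum, ← smul_sum]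
    congr 1
    have hg : g o = g 0 := by
      simp only [g, inv_pow, hco, inv_one, one_smul, hσ, pow_zero]
    have h3 : ∑ j ∈ range o, g (j + 1) + g 0 = ∑ j ∈ range o, g j + g o := by
      rw [← Finset.sum_range_succ', Finset.sum_range_succ]
    rw [hg] at h3
    exact add_right_cancel h3
  · rw [hx, (show Commute x₀ (1 + x₀ * r') from hx₀ _).mul_pow, hxm, zero_mul]
  · rw [hx, (show Commute x₀ (1 + x₀ * r') from hx₀ _).mul_pow]
    have : ∀ n : ℕ, x₀ ^ (m - 1) * (1 + x₀ * r') ^ n = x₀ ^ (m - 1) := fun n => by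
      induction n with
      | zero => simp
      | succ n ih =>
        rw [pow_succ, ← mul_assoc, ih, mul_add, mul_one, ← mul_assoc, ← pow_succ,
          hbig (m - 1 + 1) (by omega), zero_mul, add_zero]
    exact this _

end Generic

variable {M : Ideal AlgInt} [M.IsPrime] {p : ℕ} [Fact p.Prime] [CharP (Residue M) p]
  {G : Type u} [Group G] [Fintype G]

local notation "𝕜" => Residue M

/-- A module twisted by an automorphism of the group algebra. -/
def Twist (_σ : MonoidAlgebra (Residue M) G ≃ₐ[Residue M] MonoidAlgebra (Residue M) G) (W : Type u) :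
    Type u := W

theorem exists_smul_of_ne_zero {R W : Type*} [Ring R] [AddCommGroup W] [Module R W]
    [IsSimpleModule R W] {v : W} (hv : v ≠ 0) (w : W) : ∃ a : R, a • v = w :=
  IsSimpleModule.toSpanSingleton_surjective R hv w

namespace Twist

variable (σ : MonoidAlgebra (Residue M) G ≃ₐ[Residue M] MonoidAlgebra (Residue M) G) (W : Type u)
  [AddCommGroup W] [Module (Residue M) W]
  [Module (MonoidAlgebra (Residue M) G) W] [IsScalarTower (Residue M) (MonoidAlgebra (Residue M) G) W]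

instance : AddCommGroup (Twist σ W) := inferInstanceAs (AddCommGroup W)

noncomputable instance : Module 𝕜 (Twist σ W) := inferInstanceAs (Module 𝕜 W)

noncomputable instance : Module (MonoidAlgebra 𝕜 G) (Twist σ W) :=
  Module.compHom W σ.toAlgHom.toRingHom

theorem smul_def (a : MonoidAlgebra 𝕜 G) (v : W) :
    (a • (show Twist σ W from v) : Twist σ W) = (show W from σ a • v) := rfl

instance : IsScalarTower 𝕜 (MonoidAlgebra 𝕜 G) (Twist σ W) :=
  ⟨fun c a v => by
    show σ (c • a) • (show W from v) = c • (σ a • (show W from v))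
    rw [map_smul, smul_assoc]⟩

instance [FiniteDimensional (Residue M) W] : FiniteDimensional 𝕜 (Twist σ W) :=
  inferInstanceAs (FiniteDimensional 𝕜 W)

instance [IsSimpleModule (MonoidAlgebra (Residue M) G) W] :
    IsSimpleModule (MonoidAlgebra (Residue M) G) (Twist σ W) := by
  haveI := IsSimpleModule.nontrivial (MonoidAlgebra (Residue M) G) W
  refine isSimpleModule_iff_toSpanSingleton_surjective.2 ⟨inferInstanceAs (Nontrivial W),
    fun v hv w => ?_⟩
  obtain ⟨a, ha⟩ := exists_smul_of_ne_zero (R := MonoidAlgebra (Residue M) G)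
    (v := (show W from v)) (show (show W from v) ≠ (0 : W) from hv) (show W from w)
  refine ⟨σ.symm a, ?_⟩
  show σ (σ.symm a) • (show W from v) = (show W from w)
  rw [AlgEquiv.apply_symm_apply]
  exact ha

end Twist

variable {B : Set (IrrCharacter G)}

/-- The simple modules of a block of rank one are isomorphic. -/
theorem iso_of_blockRank_one (hM : IsPModular p M) (hB : IsPBlock M B) (hr : blockRank p B = 1)
    (U W : Type u) [AddCommGroup U] [Module 𝕜 U] [Module (MonoidAlgebra 𝕜 G) U]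
    [IsScalarTower 𝕜 (MonoidAlgebra 𝕜 G) U] [FiniteDimensional 𝕜 U]
    [IsSimpleModule (MonoidAlgebra 𝕜 G) U] [AddCommGroup W] [Module 𝕜 W]
    [Module (MonoidAlgebra 𝕜 G) W] [IsScalarTower 𝕜 (MonoidAlgebra 𝕜 G) W] [FiniteDimensional 𝕜 W]
    [IsSimpleModule (MonoidAlgebra 𝕜 G) W] (hU : ∀ x : U, idem M B • x = x)
    (hW : ∀ x : W, idem M B • x = x) : Nonempty (U ≃ₗ[MonoidAlgebra 𝕜 G] W) := by
  by_contra hne
  rw [not_nonempty_iff] at hne
  let S : Bool → Submodule (MonoidAlgebra 𝕜 G) (U × W) := fun b =>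
    if b then LinearMap.range (LinearMap.inl (MonoidAlgebra 𝕜 G) U W)
    else LinearMap.range (LinearMap.inr (MonoidAlgebra 𝕜 G) U W)
  let eU : U ≃ₗ[MonoidAlgebra 𝕜 G] S true :=
    LinearEquiv.ofInjective (LinearMap.inl _ U W) LinearMap.inl_injective
  let eW : W ≃ₗ[MonoidAlgebra 𝕜 G] S false :=
    LinearEquiv.ofInjective (LinearMap.inr _ U W) LinearMap.inr_injective
  haveI : ∀ b, FiniteDimensional 𝕜 (S b) := fun b =>
    inferInstanceAs (FiniteDimensional 𝕜 ((S b).restrictScalars 𝕜))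
  haveI : ∀ b, IsSimpleModule (MonoidAlgebra 𝕜 G) (S b) := fun b => by
    cases b
    · exact IsSimpleModule.congr eW.symm
    · exact IsSimpleModule.congr eU.symm
  have h := card_simple_le_blockRank hM hB (fun b : Bool => S b) (fun a b hab => ?_) fun b x => ?_
  · rw [hr, Fintype.card_bool] at h
    omega
  · cases a <;> cases b
    · exact absurd rfl hab
    · exact ⟨fun e => hne.false (eU.trans (e.symm.trans eW.symm))⟩
    · exact ⟨fun e => hne.false (eU.trans (e.trans eW.symm))⟩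
    · exact absurd rfl hab
  · refine Subtype.ext ?_
    show idem M B • (x : U × W) = x
    exact Prod.ext (hU _) (hW _)

/-- An automorphism of finite order fixes a primitive idempotent of the corner. -/
theorem exists_fixed_rankOne (σ : MonoidAlgebra 𝕜 G ≃ₐ[𝕜] MonoidAlgebra 𝕜 G) {o : ℕ}
    (ho : (o : 𝕜) ≠ 0) (hσ : σ ^ o = 1) {f : MonoidAlgebra 𝕜 G} (hf : f * f = f) (hσf : σ f = f)
    (hfc : ∀ y, Commute f y) (W : Type u) [AddCommGroup W] [Module 𝕜 W]
    [Module (MonoidAlgebra 𝕜 G) W] [IsScalarTower 𝕜 (MonoidAlgebra 𝕜 G) W] [FiniteDimensional 𝕜 W]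
    [IsSimpleModule (MonoidAlgebra 𝕜 G) W] (hW : ∀ x : W, f • x = x)
    (hall : ∀ (U : Type u) [AddCommGroup U] [Module 𝕜 U] [Module (MonoidAlgebra 𝕜 G) U]
      [IsScalarTower 𝕜 (MonoidAlgebra 𝕜 G) U] [FiniteDimensional 𝕜 U]
      [IsSimpleModule (MonoidAlgebra 𝕜 G) U],
      (∀ x : U, f • x = x) → Nonempty (U ≃ₗ[MonoidAlgebra 𝕜 G] W)) :
    ∃ i : MonoidAlgebra 𝕜 G, i * i = i ∧ f * i = i ∧ σ i = i ∧
      finrank 𝕜 (LinearMap.range (act 𝕜 W i)) = 1 := by
  haveI := IsSimpleModule.nontrivial (MonoidAlgebra 𝕜 G) W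
  obtain ⟨φ0⟩ := hall (Twist σ W) fun x => by
    show σ f • (show W from x) = x
    rw [hσf, hW]
  -- a semilinear automorphism of `W`
  let T0 : W ≃ₗ[𝕜] W := (φ0.restrictScalars 𝕜).symm
  have hT0 : ∀ (a : MonoidAlgebra 𝕜 G) (v : W), T0 (a • v) = σ a • T0 v := fun a v => by
    apply (φ0.restrictScalars 𝕜).injective
    show (φ0.restrictScalars 𝕜) ((φ0.restrictScalars 𝕜).symm (a • v)) = _
    rw [LinearEquiv.apply_symm_apply]
    show a • v = φ0 (a • ((φ0.restrictScalars 𝕜).symm v))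
    rw [map_smul]
    congr 1
    exact ((φ0.restrictScalars 𝕜).apply_symm_apply v).symm
  have hpow0 : ∀ (j : ℕ) (a : MonoidAlgebra 𝕜 G) (v : W),
      ((T0 : End 𝕜 W) ^ j) (a • v) = (σ ^ j) a • ((T0 : End 𝕜 W) ^ j) v := fun j => by
    induction j with
    | zero => simp
    | succ j ih =>
      intro a v
      rw [pow_succ', Module.End.mul_apply, ih, pow_succ' σ, AlgEquiv.mul_apply]
      exact hT0 _ _
  obtain ⟨c, hc⟩ := exists_scalar (k := 𝕜) (h := (T0 : End 𝕜 W) ^ o) fun a x => by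
    rw [hpow0, hσ, AlgEquiv.one_apply]
  have hc0 : c ≠ 0 := by
    intro h0
    obtain ⟨v, hv⟩ := exists_ne (0 : W)
    have hinj : ∀ j : ℕ, Function.Injective ((T0 : End 𝕜 W) ^ j) := fun j => by
      rw [Module.End.coe_pow]; exact T0.injective.iterate j
    apply hv
    refine hinj o ?_
    rw [hc, h0, zero_smul, map_zero]
  have ho0 : o ≠ 0 := fun e => ho (by simp [e])
  obtain ⟨r, hr⟩ := IsAlgClosed.exists_pow_nat_eq c⁻¹ (Nat.pos_of_ne_zero ho0)
  set T : End 𝕜 W := r • (T0 : End 𝕜 W) with hTdef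
  have hTo : T ^ o = 1 := LinearMap.ext fun v => by
    rw [hTdef, smul_pow, hr, LinearMap.smul_apply, hc, smul_smul, inv_mul_cancel₀ hc0, one_smul]
    rfl
  have hT : ∀ (a : MonoidAlgebra 𝕜 G) (v : W), T (a • v) = σ a • T v := fun a v => by
    simp only [hTdef, LinearMap.smul_apply, LinearEquiv.coe_coe, hT0]
    rw [smul_comm]
  have hTpow : ∀ (j : ℕ) (a : MonoidAlgebra 𝕜 G) (v : W),
      (T ^ j) (a • v) = (σ ^ j) a • (T ^ j) v := fun j => by
    induction j with
    | zero => simp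
    | succ j ih =>
      intro a v
      rw [pow_succ', Module.End.mul_apply, ih, pow_succ' σ, AlgEquiv.mul_apply]
      exact hT _ _
  obtain ⟨y, α, hy, hαo, hy0⟩ := exists_eigen_pair ho hTo (LinearMap.id : W →ₗ[𝕜] W) (by
    intro h
    obtain ⟨v, hv⟩ := exists_ne (0 : W)
    exact hv (LinearMap.congr_fun h v))
  have hα0 : α ≠ 0 := fun e => by rw [e, zero_pow ho0] at hαo; exact zero_ne_one hαo
  have hyj : ∀ j : ℕ, (T ^ j) y = α ^ j • y := fun j => by
    induction j with
    | zero => simp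
    | succ j ih => rw [pow_succ', Module.End.mul_apply, ih, map_smul, hy, smul_smul, pow_succ]
  obtain ⟨φ1, hφ1⟩ : ∃ φ1 : Dual 𝕜 W, φ1 y = 1 := by
    obtain ⟨φ1, h⟩ : ∃ φ1 : Dual 𝕜 W, φ1 y ≠ 0 := by
      by_contra hh
      push_neg at hh
      exact hy0 ((Module.forall_dual_apply_eq_zero_iff 𝕜 y).1 hh)
    exact ⟨(φ1 y)⁻¹ • φ1, by simp [h]⟩
  let g : ℕ → Dual 𝕜 W := fun j => (α⁻¹) ^ j • φ1.comp (T ^ j)
  set φ : Dual 𝕜 W := (o : 𝕜)⁻¹ • ∑ j ∈ range o, g j with hφdef
  have hg : g o = g 0 := by simp [g, inv_pow, hαo, hTo]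
  have hφT : ∀ v, φ (T v) = α * φ v := fun v => by
    have h1 : ∀ j, g j (T v) = α * g (j + 1) v := fun j => by
      simp only [g, LinearMap.smul_apply, LinearMap.comp_apply, smul_eq_mul]
      rw [pow_succ T, Module.End.mul_apply, ← mul_assoc, pow_succ α⁻¹, mul_comm (α⁻¹ ^ j) α⁻¹,
        ← mul_assoc, mul_inv_cancel₀ hα0, one_mul]
    simp only [hφdef, LinearMap.smul_apply, LinearMap.sum_apply, smul_eq_mul,
      sum_congr rfl fun j _ => h1 j, ← mul_sum]
    rw [mul_left_comm]
    congr 2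
    have h2 : ∑ j ∈ range o, g (j + 1) v + g 0 v = ∑ j ∈ range o, g j v + g o v := by
      rw [← Finset.sum_range_succ' (fun j => g j v), Finset.sum_range_succ (fun j => g j v)]
    rw [hg] at h2
    exact add_right_cancel h2
  have hφy : φ y = 1 := by
    simp only [hφdef, g, LinearMap.smul_apply, LinearMap.sum_apply, LinearMap.comp_apply, hyj,
      map_smul, hφ1, smul_eq_mul, mul_one, ← mul_pow, inv_mul_cancel₀ hα0, one_pow, sum_const,
      card_range, nsmul_eq_mul, inv_mul_cancel₀ ho]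
  set π : End 𝕜 W := φ.smulRight y
  have hππ : π * π = π := LinearMap.ext fun v => by
    simp [π, hφy]
  have hTπ : ∀ (j : ℕ) (v : W), (T ^ j) (π v) = π ((T ^ j) v) := fun j => by
    induction j with
    | zero => simp
    | succ j ih =>
      intro v
      rw [pow_succ', Module.End.mul_apply, Module.End.mul_apply, ih]
      simp only [π, LinearMap.smulRight_apply, map_smul, hy, hφT, smul_smul]
      rw [mul_comm]
  obtain ⟨a, ha⟩ := exists_smul_eq (S := W) (k := 𝕜) (G := G) π
  set a' := (o : 𝕜)⁻¹ • ∑ j ∈ range o, (σ ^ j) (f * a) with ha'def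
  have hσa' : σ a' = a' := by
    simp only [ha'def, map_smul, map_sum, ← AlgEquiv.mul_apply, ← pow_succ']
    congr 1
    have h2 : ∑ j ∈ range o, (σ ^ (j + 1)) (f * a) + (σ ^ 0) (f * a) =
        ∑ j ∈ range o, (σ ^ j) (f * a) + (σ ^ o) (f * a) := by
      rw [← Finset.sum_range_succ' (fun j => (σ ^ j) (f * a)),
        Finset.sum_range_succ (fun j => (σ ^ j) (f * a))]
    rw [hσ, pow_zero] at h2
    exact add_right_cancel h2
  have hσfj : ∀ j : ℕ, (σ ^ j) f = f := fun j => by
    induction j with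
    | zero => simp
    | succ j ih => rw [pow_succ', AlgEquiv.mul_apply, ih, hσf]
  have hfa' : f * a' = a' := by
    simp only [ha'def, mul_smul_comm, mul_sum, map_mul, hσfj, ← mul_assoc, hf]
  have hact : ∀ v : W, a' • v = π v := fun v => by
    have h1 : ∀ j : ℕ, (σ ^ j) (f * a) • v = π v := fun j => by
      obtain ⟨w, rfl⟩ : ∃ w, (T ^ j) w = v := by
        have hsurj : Function.Surjective T := fun v => ⟨(T ^ (o - 1)) v, by
          rw [← Module.End.mul_apply, ← pow_succ', Nat.sub_add_cancel (Nat.pos_of_ne_zero ho0), hTo]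
          rfl⟩
        exact (Module.End.coe_pow T j ▸ hsurj.iterate j) v
      rw [← hTpow, mul_smul, hW, ha, hTπ]
    simp only [ha'def, smul_assoc, sum_smul, h1, sum_const, card_range, ← Nat.cast_smul_eq_nsmul 𝕜,
      smul_smul, inv_mul_cancel₀ ho, one_smul]
  -- lifting the idempotent
  have hfX : ∀ x : leftIdeal f, f • x = x := fun x => Subtype.ext (by
    show f * (x : MonoidAlgebra 𝕜 G) = x
    rw [(hfc _).eq]
    exact (mem_leftIdeal hf).1 x.2)
  have hN := pow_smul_eq_zero (k := 𝕜) (f := f) (a := a' * (1 - a')) (fun U _ _ _ _ _ _ hU x => by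
    obtain ⟨e⟩ := hall U hU
    apply e.injective
    rw [map_smul, map_zero, mul_smul, sub_smul, one_smul, smul_sub, hact, hact]
    rw [show π (π (e x)) = (π * π) (e x) from rfl, hππ, sub_self]) _ (leftIdeal f) rfl hfX
  set N := finrank 𝕜 (leftIdeal f)
  have hzero : a' ^ (N + 1) * (1 - a') ^ (N + 1) = 0 := by
    have h1 := congrArg (fun z : leftIdeal f => (z : MonoidAlgebra 𝕜 G))
      (hN ⟨f, Submodule.mem_span_singleton_self f⟩)
    have h1' : (a' * (1 - a')) ^ N * f = 0 := h1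
    have hcc : Commute a' (1 - a') := (Commute.one_right a').sub_right (Commute.refl a')
    have h2 : f * (a' * (1 - a')) = a' * (1 - a') := by rw [← mul_assoc, hfa']
    rw [← hcc.mul_pow, pow_succ]
    conv_lhs => enter [2]; rw [← h2]
    rw [← mul_assoc, h1', zero_mul]
  obtain ⟨P, hPP, hP0, hPπ⟩ := exists_idem_poly (k := 𝕜) (Nat.succ_pos N) hzero
  refine ⟨Polynomial.aeval a' P, hPP, ?_, ?_, ?_⟩
  · rw [← Polynomial.X_mul_divX_add P, Polynomial.coeff_zero_eq_eval_zero, hP0, map_zero, add_zero,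
      map_mul, Polynomial.aeval_X, ← mul_assoc, hfa']
  · show σ.toAlgHom (Polynomial.aeval a' P) = _
    rw [← Polynomial.aeval_algHom_apply]
    exact congrArg (fun z => Polynomial.aeval z P) hσa'
  · have h1 : act 𝕜 W (Polynomial.aeval a' P) = π := by
      rw [← Polynomial.aeval_algHom_apply, show act 𝕜 W a' = π from LinearMap.ext hact]
      exact hPπ π hππ
    have h2 : LinearMap.range π = Submodule.span 𝕜 {y} := by
      ext v
      rw [LinearMap.mem_range, Submodule.mem_span_singleton]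
      exact ⟨fun ⟨u, hu⟩ => ⟨φ u, hu⟩, fun ⟨c, hc⟩ => ⟨v, by simp [π, ← hc, hφy]⟩⟩
    rw [h1, h2]
    exact finrank_span_singleton hy0

/-- **The equivariant corner of a nilpotent block with cyclic defect group.** -/
theorem exists_corner (hM : IsPModular p M) (hB : IsPBlock M B) (hnil : IsNil p (idem M B))
    {D : Subgroup G} {e : MonoidAlgebra 𝕜 G} (hmax : IsMaxPair p (idem M B) (D, e))
    (hcyc : IsCyclic D) (hD : D ≠ ⊥) (σ : MonoidAlgebra 𝕜 G ≃ₐ[𝕜] MonoidAlgebra 𝕜 G) {o : ℕ}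
    (ho : (o : 𝕜) ≠ 0) (hσ : σ ^ o = 1) (hσf : σ (idem M B) = idem M B) :
    ∃ (i x : MonoidAlgebra 𝕜 G) (ζ : 𝕜), i * i = i ∧ idem M B * i = i ∧ σ i = i ∧
      (∀ y, Commute x y) ∧ x * idem M B = x ∧ σ x = ζ • x ∧ ζ ≠ 0 ∧ x ^ Nat.card D = 0 ∧
      x ^ (Nat.card D - 1) * i ≠ 0 ∧
      (∃ (n : ℕ) (a b : Fin n → MonoidAlgebra 𝕜 G), ∑ j, a j * i * b j = idem M B) ∧
      ∀ y, ∃ P : Polynomial 𝕜, i * y * i = Polynomial.aeval x P * i := by
  letI := irrFintype (G := G)
  obtain ⟨hrank, hcard, ⟨χ₀, hχ₀, hreg⟩, x₀, hx₀, hx₀f, hx₀m, hx₀top⟩ :=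
    exists_uniserial_central hM hB hnil hmax hcyc hD
  set f := idem M B
  set m := Nat.card D
  set d := charDegree (χ₀ : G → ℂ)
  have hff : f * f = f := (isBlk_idem hM hB).idem
  have hfc : ∀ y, Commute f y := fun y =>
    (alg_commute le_rfl (suppIn_top y) (isBlk_idem hM hB).mem.2).symm
  have hm : 1 < m := Finite.one_lt_card_iff_nontrivial.2 ((Subgroup.nontrivial_iff_ne_bot D).2 hD)
  have hfX : ∀ x : leftIdeal f, f • x = x := fun x => Subtype.ext (by
    show f * (x : MonoidAlgebra 𝕜 G) = x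
    rw [(hfc _).eq]
    exact (mem_leftIdeal hff).1 x.2)
  have hf0 : f ≠ 0 := fun h => hx₀top (by
    rw [show m - 1 = m - 2 + 1 by omega, pow_succ, ← hx₀f, h, mul_zero, mul_zero])
  haveI : Nontrivial (leftIdeal f) := ⟨⟨⟨f, Submodule.mem_span_singleton_self f⟩, 0,
    fun h => hf0 (congrArg Subtype.val h)⟩⟩
  obtain ⟨W, hWs⟩ := exists_simple_submodule (k := 𝕜) (G := G) (S := leftIdeal f)
  haveI : FiniteDimensional 𝕜 W := inferInstanceAs (FiniteDimensional 𝕜 (W.restrictScalars 𝕜))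
  have hW : ∀ x : W, f • x = x := fun x => Subtype.ext (hfX (x : leftIdeal f))
  have hall : ∀ (U : Type u) [AddCommGroup U] [Module 𝕜 U] [Module (MonoidAlgebra 𝕜 G) U]
      [IsScalarTower 𝕜 (MonoidAlgebra 𝕜 G) U] [FiniteDimensional 𝕜 U]
      [IsSimpleModule (MonoidAlgebra 𝕜 G) U],
      (∀ x : U, f • x = x) → Nonempty (U ≃ₗ[MonoidAlgebra 𝕜 G] W) :=
    fun U _ _ _ _ _ _ hU => iso_of_blockRank_one hM hB hrank U W hU hW
  obtain ⟨i, hii, hfi, hσi, hiW⟩ := exists_fixed_rankOne σ ho hσ hff hσf hfc W hW hall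
  have hif : i * f = i := by rw [← (hfc i).eq, hfi]
  -- the idempotent generates the block
  obtain ⟨n, a, b, hgen⟩ : ∃ (n : ℕ) (a b : Fin n → MonoidAlgebra 𝕜 G),
      ∑ j, a j * i * b j = f := by
    set J : Submodule (MonoidAlgebra 𝕜 G) (MonoidAlgebra 𝕜 G) :=
      Submodule.span _ (Set.range fun b => i * b)
    have hfJ : f ∈ J := by
      by_contra hn
      set J' := J.comap (leftIdeal f).subtype
      haveI : Nontrivial (leftIdeal f ⧸ J') := Submodule.Quotient.nontrivial_iff.2 fun ht => hn (by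
        have h1 : (⟨f, Submodule.mem_span_singleton_self f⟩ : leftIdeal f) ∈ J' := by
          rw [ht]; trivial
        exact h1)
      obtain ⟨U, hU⟩ := exists_simple_submodule (k := 𝕜) (G := G) (S := leftIdeal f ⧸ J')
      haveI : FiniteDimensional 𝕜 U := inferInstanceAs (FiniteDimensional 𝕜 (U.restrictScalars 𝕜))
      have hkill : ∀ z : leftIdeal f ⧸ J', i • z = 0 := fun z => by
        obtain ⟨y, rfl⟩ := J'.mkQ_surjective z
        rw [← map_smul, Submodule.mkQ_apply, Submodule.Quotient.mk_eq_zero]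
        exact Submodule.subset_span ⟨(y : MonoidAlgebra 𝕜 G), rfl⟩
      have hUf : ∀ z : U, f • z = z := fun z => Subtype.ext (by
        obtain ⟨y, hy⟩ := J'.mkQ_surjective (z : leftIdeal f ⧸ J')
        show f • (z : leftIdeal f ⧸ J') = z
        rw [← hy, ← map_smul, hfX])
      obtain ⟨φ⟩ := hall U hUf
      have : act 𝕜 W i = 0 := LinearMap.ext fun v => by
        obtain ⟨u, rfl⟩ := φ.surjective v
        rw [act_apply, ← map_smul, show i • u = 0 from Subtype.ext (hkill u), map_zero,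
          LinearMap.zero_apply]
      rw [this, LinearMap.range_zero, finrank_bot] at hiW
      exact zero_ne_one hiW
    obtain ⟨n, a, g, hag⟩ := (Submodule.mem_span_set' ).1 hfJ
    choose b hb using fun j => (g j).2
    exact ⟨n, a, b, by simp only [smul_eq_mul, ← hb, ← mul_assoc] at hag; exact hag⟩
  have hgen0 : ∀ z : MonoidAlgebra 𝕜 G, (∀ y, Commute z y) → z * i = 0 → z * f = 0 := fun z hz h => by
    rw [← hgen, mul_sum]
    refine sum_eq_zero fun j _ => ?_
    rw [← mul_assoc, ← mul_assoc, (hz (a j)).eq, mul_assoc (a j), h, mul_zero, zero_mul]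
  -- dimensions
  set w := finrank 𝕜 W with hwdef
  have hdw : d ≤ w := le_finrank_simple hM hB hχ₀ hreg W hall
  have hdim : finrank 𝕜 (leftIdeal f) = m * d ^ 2 := by
    have h1 : ∀ χ ∈ univ.filter (· ∈ B), ((χ : G → ℂ) 1) ^ 2 = ((d : ℕ) : ℂ) ^ 2 := fun χ hχ => by
      rw [hreg χ (mem_filter.1 hχ).2 1 (by rw [orderOf_one]; exact (Fact.out : p.Prime).not_dvd_one),
        (irr_one χ₀).1]
    have h2 := finrank_block hM hB
    rw [sum_congr rfl h1, sum_const, nsmul_eq_mul] at h2
    have h3 : (univ.filter (· ∈ B)).card = m := by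
      rw [← hcard, Nat.card_eq_fintype_card, Fintype.card_subtype]
    rw [h3] at h2
    exact_mod_cast h2
  obtain ⟨ai, hai, hai', -⟩ := exists_lift (M := M) (⊥ : Subgroup G) hii (fixBy_of_coeff
    fun t ht g => by rw [Subgroup.mem_bot.1 ht]; simp)
  have hlr : finrank 𝕜 (LinearMap.range (LinearMap.mulLeft 𝕜 i)) = finrank 𝕜 (leftIdeal i) := by
    rw [finrank_leftIdeal, ← hai']
    exact_mod_cast (finrank_mulLeft hai).trans (finrank_mulRight hai).symm
  have hiL := finrank_act_mul (k := 𝕜) (f := f) hii (W := W) hall _ (leftIdeal f) rfl hfX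
  have hiR := finrank_act_mul (k := 𝕜) (f := f) hii (W := W) hall _ (leftIdeal i) rfl
    fun x => Subtype.ext (by
      show f * (x : MonoidAlgebra 𝕜 G) = x
      rw [(hfc _).eq, ← (mem_leftIdeal hii).1 x.2, mul_assoc, hif])
  rw [hiW, mul_one, range_act_leftIdeal] at hiL hiR
  rw [show (LinearMap.mulLeft 𝕜 i).comp (LinearMap.mulRight 𝕜 f) = LinearMap.mulLeft 𝕜 i from
    LinearMap.ext fun y => by
      show i * (y * f) = i * y
      rw [← (hfc y).eq, ← mul_assoc, hif], hlr, hdim, ← hwdef] at hiL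
  rw [← hwdef] at hiR
  have hle : finrank 𝕜 (LinearMap.range ((LinearMap.mulLeft 𝕜 i).comp (LinearMap.mulRight 𝕜 i))) ≤
      m := by
    haveI := IsSimpleModule.nontrivial (MonoidAlgebra 𝕜 G) W
    have hw0 : 0 < w := Module.finrank_pos (R := 𝕜) (M := W)
    refine Nat.le_of_mul_le_mul_right ?_ (Nat.mul_pos hw0 hw0)
    rw [← mul_assoc, hiR, hiL, sq]
    exact Nat.mul_le_mul_left m (Nat.mul_le_mul hdw hdw)
  have htop0 : ∀ z : MonoidAlgebra 𝕜 G, (∀ y, Commute z y) → z * f = z →
      z ^ (m - 1) ≠ 0 → z ^ (m - 1) * i ≠ 0 := fun z hz hzf hne h => hne (by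
    rw [← hgen0 _ (fun y => (hz y).pow_left _) h, show m - 1 = m - 2 + 1 by omega, pow_succ,
      mul_assoc, hzf])
  obtain ⟨P, hP⟩ := exists_poly_of_finrank hii hx₀ hx₀m (htop0 x₀ hx₀ hx₀f hx₀top) hle (σ x₀)
  have hσc : ∀ y, Commute (σ x₀) y := fun y => by
    have := (hx₀ (σ.symm y)).map σ
    rwa [AlgEquiv.apply_symm_apply] at this
  have hPc : ∀ y, Commute (Polynomial.aeval x₀ P) y := fun y => by
    clear hP
    induction P using Polynomial.induction_on' with
    | add a b ha hb => rw [map_add]; exact ha.add_left hb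
    | monomial n r =>
      rw [Polynomial.aeval_monomial]
      exact (show Commute (algebraMap 𝕜 _ r) y from Algebra.commutes r y).mul_left
        ((hx₀ y).pow_left n)
  have hσx₀ : σ x₀ = Polynomial.aeval x₀ P * f := by
    have h1 : (σ x₀ - Polynomial.aeval x₀ P) * f = 0 :=
      hgen0 _ (fun y => (hσc y).sub_left (hPc y)) (by
        rw [sub_mul, ← hP, mul_assoc, (hσc i).eq, ← mul_assoc, hii, ← (hσc i).eq, sub_self])
    rw [sub_mul, sub_eq_zero] at h1
    rw [← h1, ← hσf, ← map_mul, hx₀f]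
  obtain ⟨x, ζ, hζ, hxc, hxf, hσx, hxm, hxtop⟩ :=
    exists_semiinvariant σ ho hσ hx₀f hx₀ hm hx₀m hx₀top hσx₀ hfc hff
  have htop : x ^ (m - 1) * i ≠ 0 := htop0 x hxc hxf (by rw [hxtop]; exact hx₀top)
  refine ⟨i, x, ζ, hii, hfi, hσi, hxc, hxf, hσx, fun e => ?_, hxm, htop, ⟨n, a, b, hgen⟩,
    exists_poly_of_finrank hii hxc hxm htop hle⟩
  rw [e, zero_pow (fun h => ho (by simp [h]))] at hζ
  exact zero_ne_one hζ

/-- The kernel of the uniserial element on the block. -/
theorem corner_ker {f i x y : MonoidAlgebra 𝕜 G} {m : ℕ} (hii : i * i = i)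
    (hxc : ∀ y, Commute x y) (hm : 0 < m) (hxm : x ^ m = 0) (htop : x ^ (m - 1) * i ≠ 0)
    (hgen : ∃ (n : ℕ) (a b : Fin n → MonoidAlgebra 𝕜 G), ∑ j, a j * i * b j = f)
    (hcorner : ∀ y, ∃ P : Polynomial 𝕜, i * y * i = Polynomial.aeval x P * i)
    (hxy : x * y = 0) (hf : f * y * f = y) : ∃ z, y = x ^ (m - 1) * z := by
  obtain ⟨n, a, b, hgen⟩ := hgen
  suffices h : ∀ j l, ∃ c : 𝕜, i * (b j * y * a l) * i = x ^ (m - 1) * (c • i) by
    choose c hc using h
    refine ⟨∑ j, ∑ l, a j * (c j l • i) * b l, ?_⟩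
    conv_lhs => rw [← hf, ← hgen]
    simp only [sum_mul, mul_sum]
    rw [sum_comm]
    refine sum_congr rfl fun j _ => sum_congr rfl fun l _ => ?_
    rw [show a j * i * b j * y * (a l * i * b l) = a j * (i * (b j * y * a l) * i) * b l by
      simp only [mul_assoc], hc, ← mul_assoc (a j), ← ((hxc (a j)).pow_left _).eq]
    simp only [mul_assoc]
  intro j l
  obtain ⟨P, hP⟩ := hcorner (b j * y * a l)
  have h0 : x * (i * (b j * y * a l) * i) = 0 := by
    rw [show x * (i * (b j * y * a l) * i) = i * (b j * (x * y) * a l) * i by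
      simp only [← mul_assoc, (hxc i).eq]
      simp only [mul_assoc i x, (hxc (b j)).eq]
      simp only [mul_assoc], hxy]
    simp
  rw [hP, ← mul_assoc] at h0
  have hzero : ∀ (Q : Polynomial 𝕜), x * Polynomial.aeval x Q * i = 0 → ∀ d < m - 1, Q.coeff d = 0 := by
    intro Q hQ d
    induction d using Nat.strong_induction_on with
    | _ d ih =>
    intro hd
    have h1 : x ^ (m - 2 - d) * (x * Polynomial.aeval x Q * i) = 0 := by rw [hQ, mul_zero]
    rw [Polynomial.aeval_eq_sum_range, mul_sum, sum_mul, mul_sum] at h1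
    rw [sum_eq_single d] at h1
    · rw [mul_smul_comm, smul_mul_assoc, mul_smul_comm, ← pow_succ', ← mul_assoc, ← pow_add,
        show m - 2 - d + (d + 1) = m - 1 by omega, smul_eq_zero] at h1
      exact h1.resolve_right htop
    · intro e _ hne
      rcases lt_or_gt_of_ne hne with h | h
      · rw [ih e h (by omega)]; simp
      · rw [mul_smul_comm, smul_mul_assoc, mul_smul_comm, ← pow_succ', ← mul_assoc, ← pow_add,
          show m - 2 - d + (e + 1) = m + (e - d - 1) by omega, pow_add, hxm]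
        simp
    · intro hd'
      rw [Polynomial.coeff_eq_zero_of_natDegree_lt (by simpa using hd')]
      simp
  refine ⟨P.coeff (m - 1), ?_⟩
  rw [hP, Polynomial.aeval_eq_sum_range, sum_mul, sum_eq_single (m - 1)]
  · rw [smul_mul_assoc, mul_smul_comm]
  · intro e _ hne
    rcases lt_or_gt_of_ne hne with h | h
    · rw [hzero P h0 e h]; simp
    · rw [show e = m + (e - m) by omega, pow_add, hxm]; simp
  · intro hd'
    rw [Polynomial.coeff_eq_zero_of_natDegree_lt (by simp at hd'; omega)]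
    simp

end CfsgLib.Cyclic
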