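import Cfsg.Agent.BlocksB.Cyclic.Isometry
import Cfsg.Agent.BrauerPairs.SubgroupPairs

/-!
# The data of a block and of its correspondent in a subgroup containing the normalizer
-/

set_option autoImplicit false
set_option linter.style.haveILetI false
set_option linter.unusedSectionVars false

namespace CfsgLib.Cyclic

open Cfsg Finset CfsgLib.Block CfsgLib.Block.Chr CfsgLib.BrauerPairs CfsgLib.BlockStar
  CfsgLib.BlockB CfsgLib.SL2C
open scoped Classical

universe u

variable {M : Ideal AlgInt} [M.IsPrime] {p : ℕ} [Fact p.Prime] [CharP (Residue M) p]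
  {G : Type u} [Group G] [Fintype G]

local notation "C[" Q "]" => Subgroup.centralizer (SetLike.coe Q)
local notation "N[" Q "]" => Subgroup.normalizer (SetLike.coe Q)

theorem mem_centralizer_subgroupOf {P H : Subgroup G} (hPH : P ≤ H) (h : H) :
    h ∈ (C[P.subgroupOf H] : Subgroup H) ↔ (h : G) ∈ (C[P] : Subgroup G) := by
  rw [Subgroup.mem_centralizer_iff, Subgroup.mem_centralizer_iff]
  exact ⟨fun hh y hy => congrArg Subtype.val (hh ⟨y, hPH hy⟩ (Subgroup.mem_subgroupOf.2 hy)),
    fun hh y hy => Subtype.ext (hh y (Subgroup.mem_subgroupOf.1 hy))⟩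

theorem mem_normalizer_subgroupOf' {P H : Subgroup G} (hPH : P ≤ H) (h : H) :
    h ∈ (N[P.subgroupOf H] : Subgroup H) ↔ (h : G) ∈ (N[P] : Subgroup G) := by
  rw [Subgroup.mem_normalizer_iff, Subgroup.mem_normalizer_iff]
  constructor
  · intro hh y
    constructor
    · intro hy
      exact Subgroup.mem_subgroupOf.1 ((hh ⟨y, hPH hy⟩).1 (Subgroup.mem_subgroupOf.2 hy))
    · intro hy
      have hy' : y ∈ H := by
        have := H.mul_mem (H.mul_mem (H.inv_mem h.2) (hPH hy)) h.2
        simpa [mul_assoc] using this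
      exact Subgroup.mem_subgroupOf.1 ((hh ⟨y, hy'⟩).2 (Subgroup.mem_subgroupOf.2 hy))
  · intro hh y
    rw [Subgroup.mem_subgroupOf, Subgroup.mem_subgroupOf]
    exact hh (y : G)

/-- **A block and its correspondent have data of the same inertial index.** -/
theorem exists_cycData_correspondent (hM : IsPModular p M) {B : Set (IrrCharacter G)}
    {P H : Subgroup G} [Fintype H] (hPD : IsDefectGroup p M B P) (hcyc : IsCyclic P) (hP1 : P ≠ ⊥)
    (hPH : P ≤ H) (hNH : (N[P] : Subgroup G) ≤ H) {c : Set (IrrCharacter H)}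
    (hcD : IsDefectGroup p M c (P.subgroupOf H)) (hc : IsInducedBlock M H c B) :
    ∃ (b : Set (IrrCharacter C[P])) (b' : Set (IrrCharacter C[P.subgroupOf H])) (n : ℕ) (t : G)
      (t' : H), CycData (M := M) p B P b t n ∧
        CycData (M := M) p c (P.subgroupOf H) b' t' n := by
  obtain ⟨hcB, hB, hcong⟩ := hc
  have hC : (C[P] : Subgroup G) ≤ H := (Subgroup.centralizer_le_normalizer _).trans hNH
  have hcyc' : IsCyclic (P.subgroupOf H) :=
    (Subgroup.subgroupOfEquivOfLe hPH).isCyclic.2 hcyc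
  have hP1' : P.subgroupOf H ≠ ⊥ := fun h => hP1 (Subgroup.card_eq_one.1 (by
    rw [← Nat.card_congr (Subgroup.subgroupOfEquivOfLe hPH).toEquiv, h, Subgroup.card_bot]))
  -- a block of the centralizer inside the subgroup
  obtain ⟨e₀, hmax⟩ := exists_isMaxPair (isBlk_idem hM hcB)
    (isDef_of_isDefectGroup hM hcB hcD)
  haveI := Fintype.ofFinite C[P.subgroupOf H]
  obtain ⟨b', hb', rfl⟩ := exists_idemIn_eq hM
    (show IsBlk (Residue M) C[P.subgroupOf H] e₀ from hmax.1.1.2)
  have hab' : ∀ x ∈ P.subgroupOf H, ∀ y ∈ P.subgroupOf H, x * y = y * x :=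
    commute_of_cyclic hcyc'
  have hind' : IsInducedBlock M C[P.subgroupOf H] b' c :=
    isInducedBlock_of_isBrauerPairOf hM
      (fun x hx => Subgroup.mem_centralizer_iff.2 fun y hy => hab' y hy x hx)
      ((isBrauerPairOf_iff hM).2 ⟨⟨hmax.1.1.1, hb'⟩, hcB, hmax.1⟩)
  -- the block of the centralizer in the whole group
  haveI := Fintype.ofFinite C[P]
  let σ : C[P.subgroupOf H] ≃* C[P] :=
    { toFun := fun x => ⟨((x : H) : G), (mem_centralizer_subgroupOf hPH _).1 x.2⟩
      invFun := fun x => ⟨⟨(x : G), hC x.2⟩, (mem_centralizer_subgroupOf hPH _).2 x.2⟩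
      left_inv := fun x => rfl
      right_inv := fun x => rfl
      map_mul' := fun x y => rfl }
  set b : Set (IrrCharacter C[P]) := mapSet σ b'
  have hb : IsPBlock M b := isPBlock_mapSet σ hb'
  have hPC : P ≤ C[P] := fun x hx => Subgroup.mem_centralizer_iff.2 fun y hy =>
    commute_of_cyclic hcyc y hy x hx
  have hP : IsPGroup p P := by
    obtain ⟨k, hk⟩ := IsPGroup.iff_card.mp hmax.1.1.1
    exact IsPGroup.of_card ((Nat.card_congr (Subgroup.subgroupOfEquivOfLe hPH).toEquiv).symm.trans hk)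
  have hpair : IsBrauerPairOf p M B P b := by
    obtain ⟨χ, hχ⟩ := exists_mem_block hB
    obtain ⟨ψ, hψ⟩ := exists_mem_block hcB
    refine ⟨⟨hP, hb⟩, hB, ?_⟩
    rintro ξ ⟨ξ', hξ', rfl⟩
    have hA := isIntClass_blockCoeff (M := M) hB
    have h1 := induced_cong _ (hind'.2.2 ξ' hξ' ψ hψ) (isIntClass_resFun (H := H) hA)
    have h2 := induced_cong _ (hcong ψ hψ χ hχ) hA
    rw [omega_blockCoeff, if_pos hχ] at h2
    have h3 := memLocalIdeal_sub_trans h1 h2
    have heq : brauerOmega P (blockCoeff B) (mapChar σ ξ' : C[P] → ℂ) =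
        omega (ξ' : C[P.subgroupOf H] → ℂ)
          (resFun C[P.subgroupOf H] (resFun H (blockCoeff B))) := by
      rw [brauerOmega, omega, finsum_eq_sum_of_fintype, sum_div, ← σ.toEquiv.sum_comp]
      exact sum_congr rfl fun x _ => rfl
    rwa [heq]
  have hind : IsInducedBlock M C[P] b B := isInducedBlock_of_isBrauerPairOf hM hPC hpair
  obtain ⟨t, n, S⟩ := exists_cycData hM hB hPD hcyc hP1 hind
  obtain ⟨t', n', S'⟩ := exists_cycData hM hcB hcD hcyc' hP1' hind'
  have hemb : idemIn M C[P] b = emb H (idemIn M C[P.subgroupOf H] b') := by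
    refine coeff_ext fun g => ?_
    by_cases hg : g ∈ (C[P] : Subgroup G)
    · obtain ⟨x, rfl⟩ : ∃ x : C[P], (x : G) = g := ⟨⟨g, hg⟩, rfl⟩
      rw [coeff_emb_of_eq H _ (show (((σ.symm x : C[P.subgroupOf H]) : H) : G) = (x : G) from rfl),
        coeff_idemIn,
        coeff_idemIn, subgroupBlockCoeff_coe, subgroupBlockCoeff_coe,
        ← blockCoeff_map σ b', MulEquiv.apply_symm_apply]
    · rw [coeff_idemIn, subgroupBlockCoeff_not_mem b hg, red_zero]
      by_cases hgH : g ∈ H
      · rw [coeff_emb_of_eq H _ (h := ⟨g, hgH⟩) rfl, coeff_idemIn,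
          subgroupBlockCoeff_not_mem b' fun h => hg ((mem_centralizer_subgroupOf hPH _).1 h),
          red_zero]
      · rw [coeff_emb_not_mem H _ hgH]
  have hstab : stab P (idemIn M C[P] b) =
      (stab (P.subgroupOf H) (idemIn M C[P.subgroupOf H] b')).map H.subtype := by
    ext g
    constructor
    · intro hg
      refine ⟨⟨g, hNH hg.1⟩, ⟨(mem_normalizer_subgroupOf' hPH _).2 hg.1, emb_injective H ?_⟩, rfl⟩
      rw [← cj_emb, ← hemb]
      exact hg.2
    · rintro ⟨x, hx, rfl⟩
      refine ⟨(mem_normalizer_subgroupOf' hPH _).1 hx.1, ?_⟩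
      rw [hemb]
      exact (cj_emb H x _).trans (congrArg (emb H) hx.2)
  have hn : n = n' := by
    rw [S.n_eq, S'.n_eq, hstab,
      ← Subgroup.relIndex_map_map_of_injective (C[P.subgroupOf H] : Subgroup H)
        (stab (P.subgroupOf H) (idemIn M C[P.subgroupOf H] b')) H.subtype_injective]
    congr 1
    ext g
    exact ⟨fun hg => ⟨⟨g, hC hg⟩, (mem_centralizer_subgroupOf hPH _).2 hg, rfl⟩,
      fun ⟨x, hx, he⟩ => he ▸ (mem_centralizer_subgroupOf hPH x).1 hx⟩
  subst hn
  exact ⟨b, b', n, t, t', S, S'⟩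

end CfsgLib.Cyclic
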