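import Cfsg.Agent.BrauerPairs.GroupAlg
import Mathlib.RingTheory.SimpleModule.Basic
import Mathlib.Algebra.Algebra.Bilinear
import Mathlib.RingTheory.Artinian.Module
import Mathlib.LinearAlgebra.Eigenspace.Triangularizable
import Mathlib.LinearAlgebra.Trace
import Mathlib.LinearAlgebra.Dual.Lemmas
import Mathlib.RingTheory.Nilpotent.Lemmas
import Mathlib.Algebra.CharP.Algebra
import Mathlib.Algebra.CharP.Lemmas

/-!
# Simple modules of group algebras over algebraically closed fields
-/

set_option autoImplicit false
set_option linter.style.haveILetI false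
set_option linter.unusedSectionVars false

namespace CfsgLib.Cyclic

open Module MonoidAlgebra CfsgLib.BrauerPairs

universe u v

variable {k : Type v} [Field k] {G : Type u} [Group G]

variable {S : Type*} [AddCommGroup S] [Module k S] [Module (MonoidAlgebra k G) S] [IsScalarTower k (MonoidAlgebra k G) S]

/-- The action of an element of the group algebra. -/
noncomputable def act (k : Type v) [Field k] {G : Type u} [Group G] (S : Type*) [AddCommGroup S]
    [Module k S] [Module (MonoidAlgebra k G) S] [IsScalarTower k (MonoidAlgebra k G) S] :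
    MonoidAlgebra k G →ₐ[k] End k S := Algebra.lsmul k k S

@[simp] theorem act_apply (a : (MonoidAlgebra k G)) (x : S) : act k S a x = a • x := rfl

section simple

variable [IsAlgClosed k] [FiniteDimensional k S] [IsSimpleModule (MonoidAlgebra k G) S]

theorem exists_scalar {h : End k S} (hh : ∀ (a : (MonoidAlgebra k G)) (x : S), h (a • x) = a • h x) :
    ∃ c : k, ∀ x, h x = c • x := by
  haveI := IsSimpleModule.nontrivial (MonoidAlgebra k G) S
  obtain ⟨c, hc⟩ := Module.End.exists_eigenvalue h
  obtain ⟨x0, hx0⟩ := hc.exists_hasEigenvector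
  let h' : S →ₗ[(MonoidAlgebra k G)] S :=
    { toFun := fun x => h x - c • x
      map_add' := fun x y => by rw [map_add, smul_add]; abel
      map_smul' := fun a x => by
        show h (a • x) - c • a • x = a • (h x - c • x)
        rw [hh, smul_sub, smul_comm] }
  rcases LinearMap.injective_or_eq_zero h' with hi | h0
  · refine absurd (hi (show h' x0 = h' 0 from ?_)) hx0.2
    rw [map_zero]
    show h x0 - c • x0 = 0
    rw [hx0.apply_eq_smul, sub_self]
  · exact ⟨c, fun x => sub_eq_zero.1 (LinearMap.congr_fun h0 x)⟩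

/-- Burnside: every linear map is the action of an element. -/
theorem exists_smul_eq (f : End k S) : ∃ a : (MonoidAlgebra k G), ∀ x, a • x = f x := by
  classical
  let F : End (End (MonoidAlgebra k G) S) S :=
    { toFun := f
      map_add' := map_add f
      map_smul' := fun g x => by
        obtain ⟨c, hc⟩ := exists_scalar (k := k) (h := g.restrictScalars k) fun a y => g.map_smul a y
        have hc' : ∀ y, g y = c • y := hc
        show f (g x) = g (f x)
        rw [hc', hc', map_smul] }
  let b := Module.finBasis k S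
  obtain ⟨a, ha⟩ := jacobson_density F (Finset.univ.image b)
  refine ⟨a, fun x => ?_⟩
  refine LinearMap.congr_fun (b.ext (f₁ := act k S a) fun i => ?_) x
  exact (ha _ (Finset.mem_image_of_mem b (Finset.mem_univ i))).symm

variable {S' : Type*} [AddCommGroup S'] [Module k S'] [Module (MonoidAlgebra k G) S'] [IsScalarTower k (MonoidAlgebra k G) S']
  [IsSimpleModule (MonoidAlgebra k G) S']

/-- Simple modules with nested annihilators are isomorphic. -/
theorem exists_iso_of_annihilator_le
    (h : ∀ a : (MonoidAlgebra k G), (∀ x : S, a • x = 0) → ∀ y : S', a • y = 0) : Nonempty (S ≃ₗ[(MonoidAlgebra k G)] S') := by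
  classical
  haveI := IsSimpleModule.nontrivial (MonoidAlgebra k G) S
  haveI := IsSimpleModule.nontrivial (MonoidAlgebra k G) S'
  obtain ⟨v, hv⟩ := exists_ne (0 : S)
  obtain ⟨ψ, hψ⟩ : ∃ ψ : Dual k S, ψ v = 1 := by
    obtain ⟨ψ, hψ⟩ : ∃ ψ : Dual k S, ψ v ≠ 0 := by
      by_contra hh
      push_neg at hh
      exact hv ((Module.forall_dual_apply_eq_zero_iff k v).1 hh)
    exact ⟨(ψ v)⁻¹ • ψ, by simp [hψ]⟩
  choose a ha using fun w : S => exists_smul_eq (S := S) (k := k) (G := G) (ψ.smulRight w)
  have hlin : ∀ (y : S') (g : (MonoidAlgebra k G)) (w : S), a (g • w) • y = g • a w • y := fun y g w => by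
    have := h (a (g • w) - g * a w) (fun x => by
      rw [sub_smul, mul_smul, ha, ha, LinearMap.smulRight_apply, LinearMap.smulRight_apply,
        smul_comm, sub_self]) y
    rwa [sub_smul, mul_smul, sub_eq_zero] at this
  obtain ⟨y, hy⟩ : ∃ y : S', a v • y ≠ 0 := by
    by_contra hall
    push_neg at hall
    obtain ⟨y0, hy0⟩ := exists_ne (0 : S')
    let b := Module.finBasis k S
    choose c hc using fun i => exists_smul_eq (S := S) (k := k) (G := G) (ψ.smulRight (b i))
    choose d hd using fun i => exists_smul_eq (S := S) (k := k) (G := G) ((b.coord i).smulRight v)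
    have h1 := h (1 - ∑ i, c i * (a v * d i)) (fun x => by
      rw [sub_smul, one_smul, Finset.sum_smul, sub_eq_zero]
      refine (b.sum_repr x).symm.trans (Finset.sum_congr rfl fun i _ => ?_)
      rw [mul_smul, mul_smul, hd, ha, hc]
      simp [hψ]) y0
    rw [sub_smul, one_smul, Finset.sum_smul, sub_eq_zero] at h1
    refine hy0 (h1.trans (Finset.sum_eq_zero fun i _ => ?_))
    rw [mul_smul, mul_smul, hall, smul_zero]
  let Ψ : S →ₗ[(MonoidAlgebra k G)] S' :=
    { toFun := fun w => a w • y
      map_add' := fun w w' => by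
        have := h (a (w + w') - (a w + a w')) (fun x => by
          rw [sub_smul, add_smul, ha, ha, ha]
          simp) y
        rwa [sub_smul, add_smul, sub_eq_zero] at this
      map_smul' := fun g w => hlin y g w }
  refine ⟨LinearEquiv.ofBijective Ψ (LinearMap.bijective_of_ne_zero fun h0 => hy ?_)⟩
  exact LinearMap.congr_fun h0 v

end simple

/-- Pairwise non-isomorphic simple modules are separated by the group algebra. -/
theorem exists_separating [IsAlgClosed k] {ι : Type*} [Fintype ι] (T : ι → Type*)
    [∀ j, AddCommGroup (T j)] [∀ j, Module k (T j)] [∀ j, Module (MonoidAlgebra k G) (T j)]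
    [∀ j, IsScalarTower k (MonoidAlgebra k G) (T j)] [∀ j, FiniteDimensional k (T j)] [∀ j, IsSimpleModule (MonoidAlgebra k G) (T j)]
    (hne : ∀ i j, i ≠ j → IsEmpty (T i ≃ₗ[(MonoidAlgebra k G)] T j)) (j : ι) :
    ∃ a : (MonoidAlgebra k G), (∀ x : T j, a • x = x) ∧ ∀ l, l ≠ j → ∀ x : T l, a • x = 0 := by
  classical
  have key : ∀ l, l ≠ j → ∃ a : (MonoidAlgebra k G), (∀ x : T j, a • x = x) ∧ ∀ x : T l, a • x = 0 := by
    intro l hl
    obtain ⟨a0, ha0, y0, hy0⟩ :
        ∃ a : (MonoidAlgebra k G), (∀ x : T l, a • x = 0) ∧ ∃ y : T j, a • y ≠ 0 := by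
      by_contra hh
      push_neg at hh
      exact (hne l j hl).elim (exists_iso_of_annihilator_le (k := k) hh).some
    let b := Module.finBasis k (T j)
    obtain ⟨ψ, hψ⟩ : ∃ ψ : Dual k (T j), ψ (a0 • y0) ≠ 0 := by
      by_contra hh
      push_neg at hh
      exact hy0 ((Module.forall_dual_apply_eq_zero_iff k (a0 • y0)).1 hh)
    choose c hc using fun i => exists_smul_eq (S := T j) (k := k) (G := G)
      (((ψ (a0 • y0))⁻¹ • ψ).smulRight (b i))
    choose d hd using fun i => exists_smul_eq (S := T j) (k := k) (G := G)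
      ((b.coord i).smulRight y0)
    refine ⟨∑ i, c i * (a0 * d i), fun x => ?_, fun x => ?_⟩
    · rw [Finset.sum_smul]
      refine (Finset.sum_congr rfl fun i _ => ?_).trans (b.sum_repr x)
      rw [mul_smul, mul_smul, hd, hc]
      rw [LinearMap.smulRight_apply, LinearMap.smulRight_apply, smul_comm a0 (b.coord i x)]
      simp [hψ]
    · rw [Finset.sum_smul]
      exact Finset.sum_eq_zero fun i _ => by rw [mul_smul, mul_smul, ha0, smul_zero]
  have : ∀ s : Finset ι, j ∉ s →
      ∃ a : (MonoidAlgebra k G), (∀ x : T j, a • x = x) ∧ ∀ l ∈ s, ∀ x : T l, a • x = 0 := by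
    intro s
    induction s using Finset.induction_on with
    | empty => exact fun _ => ⟨1, fun x => one_smul _ x, by simp⟩
    | insert l s hls ih =>
      intro hjs
      obtain ⟨a, ha, ha'⟩ := ih fun h => hjs (Finset.mem_insert_of_mem h)
      obtain ⟨a', h1, h2⟩ := key l fun h => hjs (h ▸ Finset.mem_insert_self l s)
      refine ⟨a * a', fun x => by rw [mul_smul, h1, ha], fun i hi x => ?_⟩
      rw [mul_smul]
      rcases Finset.mem_insert.1 hi with rfl | hi
      · rw [h2, smul_zero]
      · exact ha' i hi _
  obtain ⟨a, ha, ha'⟩ := this (Finset.univ.erase j) (Finset.notMem_erase j _)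
  exact ⟨a, ha, fun l hl => ha' l (Finset.mem_erase.2 ⟨hl, Finset.mem_univ l⟩)⟩

/-- Traces depend only on the `p'`-part. -/
theorem trace_pPart {p : ℕ} [Fact p.Prime] [CharP k p] [FiniteDimensional k S] {x s : G}
    (hc : Commute x s) {n : ℕ} (hx : x ^ p ^ n = 1) :
    LinearMap.trace k S (act k S (single (x * s) (1 : k))) =
      LinearMap.trace k S (act k S (single s (1 : k))) := by
  set U := act k S (single x (1 : k))
  set T := act k S (single s (1 : k))
  have h1 : act k S (single (x * s) (1 : k)) = U * T := by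
    rw [← map_mul, single_mul_single, one_mul]
  have hU : U ^ p ^ n = 1 := by
    rw [← map_pow, single_pow, one_pow, hx, ← one_def, map_one]
  have hUT : Commute U T := by
    have hst : Commute (single x (1 : k)) (single s (1 : k)) := by
      rw [Commute, SemiconjBy, single_mul_single, single_mul_single, hc.eq]
    exact hst.map (act k S)
  rcases subsingleton_or_nontrivial S with hS | hS
  · rw [h1, Subsingleton.elim (U * T) T]
  haveI : CharP (End k S) p := charP_of_injective_algebraMap (algebraMap k (End k S)).injective p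
  have hnil : IsNilpotent ((U - 1) * T) := by
    refine Commute.isNilpotent_mul_right (hUT.sub_left (Commute.one_left T)) ⟨p ^ n, ?_⟩
    rw [sub_pow_char_pow_of_commute (p := p) (h := Commute.one_right U), hU, one_pow, sub_self]
  have h2 : LinearMap.trace k S ((U - 1) * T) = 0 :=
    isNilpotent_iff_eq_zero.1 (LinearMap.isNilpotent_trace_of_isNilpotent hnil)
  rw [sub_mul, one_mul, map_sub, sub_eq_zero] at h2
  rw [h1, h2]

section composition

variable [FiniteDimensional k S]

/-- A non-zero finite-dimensional module has a simple submodule. -/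
theorem exists_simple_submodule [Nontrivial S] :
    ∃ U : Submodule (MonoidAlgebra k G) S, IsSimpleModule (MonoidAlgebra k G) U := by
  haveI : IsArtinian (MonoidAlgebra k G) S := isArtinian_of_tower k inferInstance
  haveI : IsAtomic (Submodule (MonoidAlgebra k G) S) := isAtomic_of_orderBot_wellFounded_lt wellFounded_lt
  obtain h | ⟨U, hU, -⟩ := eq_bot_or_exists_atom_le (⊤ : Submodule (MonoidAlgebra k G) S)
  · exact absurd h top_ne_bot
  · exact ⟨U, isSimpleModule_iff_isAtom.2 hU⟩

theorem finrank_eq_add (U : Submodule (MonoidAlgebra k G) S) :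
    finrank k U + finrank k (S ⧸ U) = finrank k S := by
  rw [add_comm]
  exact Submodule.finrank_quotient_add_finrank (U.restrictScalars k)

theorem finrank_act_add (U : Submodule (MonoidAlgebra k G) S) {a : (MonoidAlgebra k G)} (ha : a * a = a) :
    finrank k (LinearMap.range (act k U a)) + finrank k (LinearMap.range (act k (S ⧸ U) a)) =
      finrank k (LinearMap.range (act k S a)) := by
  set q : LinearMap.range (act k S a) →ₗ[k] S ⧸ U :=
    (U.mkQ.restrictScalars k).domRestrict (LinearMap.range (act k S a))
  have h1 : LinearMap.range q = LinearMap.range (act k (S ⧸ U) a) := by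
    ext z
    constructor
    · rintro ⟨⟨_, x, rfl⟩, rfl⟩
      exact ⟨U.mkQ x, (U.mkQ.map_smul a x).symm⟩
    · rintro ⟨z', rfl⟩
      obtain ⟨x, rfl⟩ := U.mkQ_surjective z'
      exact ⟨⟨_, x, rfl⟩, U.mkQ.map_smul a x⟩
  let e : LinearMap.range (act k U a) ≃ₗ[k] LinearMap.ker q :=
    { toFun := fun z => ⟨⟨((z.1 : U) : S), by
          obtain ⟨x, hx⟩ := z.2; exact ⟨(x : S), congrArg Subtype.val hx⟩⟩,
        LinearMap.mem_ker.2 ((Submodule.Quotient.mk_eq_zero U).2 z.1.2)⟩
      map_add' := fun _ _ => rfl
      map_smul' := fun _ _ => rfl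
      invFun := fun z => ⟨⟨((z.1 : LinearMap.range (act k S a)) : S),
          (Submodule.Quotient.mk_eq_zero U).1 (LinearMap.mem_ker.1 z.2)⟩, by
          obtain ⟨x, hx⟩ := z.1.2
          refine ⟨⟨((z.1 : LinearMap.range (act k S a)) : S),
            (Submodule.Quotient.mk_eq_zero U).1 (LinearMap.mem_ker.1 z.2)⟩, Subtype.ext ?_⟩
          show a • ((z.1 : LinearMap.range (act k S a)) : S) = _
          rw [← hx]
          show a • a • x = a • x
          rw [← mul_smul, ha]⟩
      left_inv := fun _ => rfl
      right_inv := fun _ => rfl }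
  rw [e.finrank_eq, ← h1, add_comm, LinearMap.finrank_range_add_finrank_ker]

end composition

/-- If all simple modules below `f` are isomorphic to `W`, the rank of an idempotent on any module
below `f` is proportional to the dimension. -/
theorem finrank_act_mul {f a : (MonoidAlgebra k G)} (ha : a * a = a) {W : Type u} [AddCommGroup W] [Module k W]
    [Module (MonoidAlgebra k G) W] [IsScalarTower k (MonoidAlgebra k G) W]
    (hall : ∀ (U : Type (max u v)) [AddCommGroup U] [Module k U] [Module (MonoidAlgebra k G) U] [IsScalarTower k (MonoidAlgebra k G) U]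
      [FiniteDimensional k U] [IsSimpleModule (MonoidAlgebra k G) U], (∀ x : U, f • x = x) → Nonempty (U ≃ₗ[(MonoidAlgebra k G)] W)) :
    ∀ (d : ℕ) (X : Type (max u v)) [AddCommGroup X] [Module k X] [Module (MonoidAlgebra k G) X]
      [IsScalarTower k (MonoidAlgebra k G) X] [FiniteDimensional k X], finrank k X = d → (∀ x : X, f • x = x) →
      finrank k (LinearMap.range (act k X a)) * finrank k W =
        d * finrank k (LinearMap.range (act k W a)) := by
  intro d
  induction d using Nat.strong_induction_on with
  | _ d ih =>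
  intro X _ _ _ _ _ hd hf
  rcases subsingleton_or_nontrivial X with hX | hX
  · rw [← hd, Module.finrank_zero_of_subsingleton (R := k) (M := X),
      Module.finrank_zero_of_subsingleton (R := k) (M := LinearMap.range (act k X a))]
    simp
  obtain ⟨U, hU⟩ := exists_simple_submodule (k := k) (G := G) (S := X)
  haveI : FiniteDimensional k U := inferInstanceAs (FiniteDimensional k (U.restrictScalars k))
  obtain ⟨φ⟩ := hall U fun x => Subtype.ext (hf (x : X))
  have hφ := (φ.restrictScalars k).finrank_eq
  have hφa : finrank k (LinearMap.range (act k U a)) = finrank k (LinearMap.range (act k W a)) := by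
    have h2 : (LinearMap.range (act k U a)).map (φ.restrictScalars k).toLinearMap =
        LinearMap.range (act k W a) := by
      ext z
      constructor
      · rintro ⟨_, ⟨x, rfl⟩, rfl⟩
        exact ⟨φ x, (φ.map_smul a x).symm⟩
      · rintro ⟨x, rfl⟩
        exact ⟨_, ⟨φ.symm x, rfl⟩, (φ.map_smul a _).trans (by rw [φ.apply_symm_apply]; rfl)⟩
    rw [← h2]
    exact LinearEquiv.finrank_eq (Submodule.equivMapOfInjective _ (φ.restrictScalars k).injective _)
  have hpos : 0 < finrank k U := by
    haveI := IsSimpleModule.nontrivial (MonoidAlgebra k G) U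
    exact Module.finrank_pos
  have hsum := finrank_eq_add (k := k) U
  have hq := ih _ (by omega) (X ⧸ U) rfl fun z => by
    obtain ⟨x, rfl⟩ := U.mkQ_surjective z
    rw [← map_smul, hf]
  rw [← finrank_act_add U ha, add_mul, hφa, hq, ← hd, ← hsum, add_mul, hφ,
    mul_comm (finrank k W)]

/-- An element killing all simple modules below `f` is nilpotent on every module below `f`. -/
theorem pow_smul_eq_zero {f a : (MonoidAlgebra k G)}
    (hall : ∀ (U : Type (max u v)) [AddCommGroup U] [Module k U] [Module (MonoidAlgebra k G) U] [IsScalarTower k (MonoidAlgebra k G) U]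
      [FiniteDimensional k U] [IsSimpleModule (MonoidAlgebra k G) U], (∀ x : U, f • x = x) → ∀ x : U, a • x = 0) :
    ∀ (d : ℕ) (X : Type (max u v)) [AddCommGroup X] [Module k X] [Module (MonoidAlgebra k G) X]
      [IsScalarTower k (MonoidAlgebra k G) X] [FiniteDimensional k X], finrank k X = d → (∀ x : X, f • x = x) →
      ∀ x : X, a ^ d • x = 0 := by
  intro d
  induction d using Nat.strong_induction_on with
  | _ d ih =>
  intro X _ _ _ _ _ hd hf x
  rcases subsingleton_or_nontrivial X with hX | hX
  · exact Subsingleton.elim _ _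
  obtain ⟨U, hU⟩ := exists_simple_submodule (k := k) (G := G) (S := X)
  haveI : FiniteDimensional k U := inferInstanceAs (FiniteDimensional k (U.restrictScalars k))
  have hpos : 0 < finrank k U := by
    haveI := IsSimpleModule.nontrivial (MonoidAlgebra k G) U
    exact Module.finrank_pos
  have hsum := finrank_eq_add (k := k) U
  have hq := ih _ (by omega) (X ⧸ U) rfl (fun z => by
    obtain ⟨x, rfl⟩ := U.mkQ_surjective z
    rw [← map_smul, hf]) (U.mkQ x)
  rw [← map_smul, Submodule.mkQ_apply, Submodule.Quotient.mk_eq_zero] at hq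
  have h1 : a • (a ^ finrank k (X ⧸ U) • x) = 0 :=
    congrArg Subtype.val (hall U (fun z => Subtype.ext (hf (z : X))) ⟨_, hq⟩)
  obtain ⟨c, hc⟩ := Nat.exists_eq_add_of_le (show finrank k (X ⧸ U) + 1 ≤ d by omega)
  rw [hc, add_comm, pow_add, mul_smul, pow_succ', mul_smul, h1, smul_zero]

/-- An element which is idempotent up to nilpotents gives an idempotent in its algebra. -/
theorem exists_idem_poly {A : Type*} [Ring A] [Algebra k A] {a : A} {N : ℕ} (hN : 0 < N)
    (h : a ^ N * (1 - a) ^ N = 0) :
    ∃ P : Polynomial k, Polynomial.aeval a P * Polynomial.aeval a P = Polynomial.aeval a P ∧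
      P.eval 0 = 0 ∧ ∀ {B : Type*} [Ring B] [Algebra k B] (π : B), π * π = π →
        Polynomial.aeval π P = π := by
  refine ⟨1 - (1 - Polynomial.X ^ N) ^ N, ?_, ?_, ?_⟩
  · set X : Polynomial k := Polynomial.X
    obtain ⟨q, hq⟩ := sub_dvd_pow_sub_pow (1 : Polynomial k) (1 - X ^ N) N
    obtain ⟨r, hr⟩ := sub_dvd_pow_sub_pow (1 : Polynomial k) X N
    rw [one_pow, sub_sub_cancel] at hq
    rw [one_pow] at hr
    have hPP : (1 - (1 - X ^ N) ^ N) * (1 - X ^ N) ^ N = X ^ N * (1 - X) ^ N * (q * r ^ N) := by
      rw [hq, hr, mul_pow]; ring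
    have h0 : Polynomial.aeval a ((1 - (1 - X ^ N) ^ N) * (1 - X ^ N) ^ N) = 0 := by
      rw [hPP, map_mul, map_mul, map_pow, map_pow, map_sub, map_one, Polynomial.aeval_X, h,
        zero_mul]
    rw [← map_mul, ← sub_eq_zero, ← map_sub, show (1 - (1 - X ^ N) ^ N) * (1 - (1 - X ^ N) ^ N) -
      (1 - (1 - X ^ N) ^ N) = -((1 - (1 - X ^ N) ^ N) * (1 - X ^ N) ^ N) by ring, map_neg, h0,
      neg_zero]
  · simp [zero_pow hN.ne']
  · intro B _ _ π hπ
    have h1 : π ^ N = π := by
      obtain ⟨j, rfl⟩ := Nat.exists_eq_succ_of_ne_zero hN.ne'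
      exact IsIdempotentElem.pow_succ_eq j hπ
    have h2 : (1 - π) ^ N = 1 - π := by
      obtain ⟨j, rfl⟩ := Nat.exists_eq_succ_of_ne_zero hN.ne'
      exact IsIdempotentElem.pow_succ_eq j (IsIdempotentElem.one_sub hπ)
    rw [map_sub, map_one, map_pow, map_sub, map_one, map_pow, Polynomial.aeval_X, h1, h2,
      sub_sub_cancel]

end CfsgLib.Cyclic
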