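import Cfsg.Agent.BlocksB.Cyclic.LinAlg
import Cfsg.Agent.BlocksB.Cyclic.Modules
import Cfsg.Agent.BlocksB.Star.Bridge
import Cfsg.Prelude.Def_BlockRank

/-!
# Simple modules of a block and its rank; ranks of idempotents in the group algebra
-/

set_option autoImplicit false
set_option linter.style.haveILetI false
set_option linter.unusedSectionVars false

namespace CfsgLib.Cyclic

open Cfsg Finset CfsgLib.Block CfsgLib.Block.Chr CfsgLib.BrauerPairs CfsgLib.BlockStar
  CfsgLib.BlockB Module
open scoped Classical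

universe u

variable {M : Ideal AlgInt} [M.IsPrime] {p : ℕ} [Fact p.Prime] [CharP (Residue M) p]
  {G : Type u} [Group G] [Fintype G]

local notation "𝕜" => Residue M

theorem regularPart_unique {x s x' s' : G} (h : PElt p x s) (h' : PElt p x' s')
    (he : x * s = x' * s') : s = s' := by
  obtain ⟨n, hn⟩ := h.pow
  obtain ⟨n', hn'⟩ := h'.pow
  obtain ⟨i, -, hi⟩ := (Nat.dvd_prime_pow (Fact.out : p.Prime)).1 (orderOf_dvd_of_pow_eq_one hn')
  have hx := pPart_unique (Fact.out : p.Prime) (g := x' * s')
    ⟨s', rfl, h'.comm, ⟨i, hi⟩, h'.reg⟩ he h.comm hn h.reg (pow_orderOf_eq_one s)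
  subst hx
  exact mul_left_cancel he

/-- The indicator of a `p`-regular class, extended through the `p'`-parts. -/
noncomputable def classInd (p : ℕ) (K : ConjClasses G) (g : G) : ℂ :=
  if ∃ x s : G, PElt p x s ∧ x * s = g ∧ ConjClasses.mk s = K then 1 else 0

theorem isClassFunction_classInd (K : ConjClasses G) : IsClassFunction G (classInd p K) := by
  intro g t
  refine if_congr ⟨?_, ?_⟩ rfl rfl
  · rintro ⟨x, s, h, hg, hK⟩
    refine ⟨t⁻¹ * x * t⁻¹⁻¹, t⁻¹ * s * t⁻¹⁻¹, h.conj t⁻¹, ?_, ?_⟩
    · rw [show t⁻¹ * x * t⁻¹⁻¹ * (t⁻¹ * s * t⁻¹⁻¹) = t⁻¹ * (x * s) * t by group, hg]; group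
    · rw [← hK]; exact ConjClasses.mk_eq_mk_iff_isConj.2 (isConj_iff.2 ⟨t, by group⟩)
  · rintro ⟨x, s, h, hg, hK⟩
    refine ⟨t * x * t⁻¹, t * s * t⁻¹, h.conj t, ?_, ?_⟩
    · rw [show t * x * t⁻¹ * (t * s * t⁻¹) = t * (x * s) * t⁻¹ by group, hg]
    · rw [← hK]; exact ConjClasses.mk_eq_mk_iff_isConj.2 (isConj_iff.2 ⟨t⁻¹, by group⟩)

theorem memLocalRing_classInd (K : ConjClasses G) (g : G) : MemLocalRing M (classInd p K g) := by
  unfold classInd
  split_ifs
  · exact memLocalRing_one
  · exact memLocalRing_zero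

theorem classInd_mul {x s : G} (h : PElt p x s) (K : ConjClasses G) :
    classInd p K (x * s) = if ConjClasses.mk s = K then 1 else 0 := by
  refine if_congr ⟨?_, fun hK => ⟨x, s, h, rfl, hK⟩⟩ rfl rfl
  rintro ⟨x', s', h', he, hK⟩
  rwa [regularPart_unique h h' he.symm]

theorem red_ite (q : Prop) [Decidable q] :
    red M (if q then (1 : ℂ) else 0) = if q then (1 : 𝕜) else 0 := by
  split_ifs
  · exact red_one
  · exact red_zero

theorem sum_single_smul (a : MonoidAlgebra 𝕜 G) :
    a = ∑ h : G, a.coeff h • MonoidAlgebra.single h (1 : 𝕜) := by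
  refine coeff_ext fun g => ?_
  rw [MonoidAlgebra.coeff_sum, Finsupp.finsetSum_apply, sum_eq_single g]
  · simp
  · intro h _ hne; simp [hne]
  · simp

variable {B : Set (IrrCharacter G)}

/-- **Non-isomorphic simple modules of a block are at most as many as its rank.** -/
theorem card_simple_le_blockRank (hM : IsPModular p M) (hB : IsPBlock M B) {ι : Type*} [Fintype ι]
    (T : ι → Type*) [∀ j, AddCommGroup (T j)] [∀ j, Module 𝕜 (T j)]
    [∀ j, Module (MonoidAlgebra 𝕜 G) (T j)] [∀ j, IsScalarTower 𝕜 (MonoidAlgebra 𝕜 G) (T j)]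
    [∀ j, FiniteDimensional 𝕜 (T j)] [∀ j, IsSimpleModule (MonoidAlgebra 𝕜 G) (T j)]
    (hne : ∀ i j, i ≠ j → IsEmpty (T i ≃ₗ[MonoidAlgebra 𝕜 G] T j))
    (hid : ∀ j (x : T j), idem M B • x = x) :
    Fintype.card ι ≤ blockRank p B := by
  let τ : ι → MonoidAlgebra 𝕜 G →ₗ[𝕜] 𝕜 := fun j =>
    (LinearMap.trace 𝕜 (T j)).comp (act 𝕜 (T j)).toLinearMap
  have hpp : ∀ j {x s : G}, PElt p x s → τ j (MonoidAlgebra.single (x * s) 1) =
      τ j (MonoidAlgebra.single s 1) := fun j x s h => by
    obtain ⟨n, hn⟩ := h.pow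
    exact trace_pPart h.comm hn
  have hconj : ∀ j (g t : G), τ j (MonoidAlgebra.single (t * g * t⁻¹) 1) =
      τ j (MonoidAlgebra.single g 1) := fun j g t => by
    show LinearMap.trace 𝕜 (T j) _ = LinearMap.trace 𝕜 (T j) _
    rw [show MonoidAlgebra.single (t * g * t⁻¹) (1 : 𝕜) = MonoidAlgebra.single t 1 *
      MonoidAlgebra.single (g * t⁻¹) 1 by rw [MonoidAlgebra.single_mul_single, one_mul, mul_assoc]]
    rw [AlgHom.toLinearMap_apply, AlgHom.toLinearMap_apply, map_mul, LinearMap.trace_mul_comm,
      ← map_mul, MonoidAlgebra.single_mul_single, one_mul, inv_mul_cancel_right]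
  let GR := {g : G // ¬ p ∣ orderOf g}
  let w : ι → GR → 𝕜 := fun j g => τ j (MonoidAlgebra.single g.1 1)
  have hw : LinearIndependent 𝕜 w := by
    rw [Fintype.linearIndependent_iff]
    intro c hc
    have h0 : ∑ j, c j • τ j = 0 := by
      refine LinearMap.ext fun a => ?_
      rw [sum_single_smul a, map_sum, LinearMap.zero_apply]
      refine sum_eq_zero fun g _ => ?_
      obtain ⟨x, s, h, rfl⟩ := exists_pElt p g
      have h1 := congrFun hc ⟨s, h.reg⟩
      simp only [w, Finset.sum_apply, Pi.smul_apply, Pi.zero_apply] at h1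
      simp only [map_smul, LinearMap.sum_apply, LinearMap.smul_apply]
      rw [Finset.sum_congr rfl fun j _ => by rw [hpp j h], h1, smul_zero]
    intro j
    haveI := IsSimpleModule.nontrivial (MonoidAlgebra 𝕜 G) (T j)
    obtain ⟨v, hv⟩ := exists_ne (0 : T j)
    obtain ⟨ψ, hψ⟩ : ∃ ψ : Dual 𝕜 (T j), ψ v ≠ 0 := by
      by_contra hh
      push_neg at hh
      exact hv ((Module.forall_dual_apply_eq_zero_iff 𝕜 v).1 hh)
    obtain ⟨e, he⟩ := exists_smul_eq (S := T j) (k := 𝕜) (G := G) (ψ.smulRight v)
    obtain ⟨a, ha, ha'⟩ := exists_separating T hne j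
    have h1 := LinearMap.congr_fun h0 (a * e)
    simp only [LinearMap.sum_apply, LinearMap.smul_apply, LinearMap.zero_apply] at h1
    rw [sum_eq_single j] at h1
    · have h2 : τ j (a * e) = ψ v := by
        show LinearMap.trace 𝕜 (T j) (act 𝕜 (T j) (a * e)) = _
        rw [show act 𝕜 (T j) (a * e) = ψ.smulRight v from LinearMap.ext fun x => by
          rw [act_apply, mul_smul, ha, he], LinearMap.trace_smulRight]
      rw [h2, smul_eq_mul, mul_eq_zero] at h1
      exact h1.resolve_right hψ
    · intro l _ hl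
      have h2 : τ l (a * e) = 0 := by
        show LinearMap.trace 𝕜 (T l) (act 𝕜 (T l) (a * e)) = _
        rw [show act 𝕜 (T l) (a * e) = 0 from LinearMap.ext fun x => by
          rw [act_apply, mul_smul, ha' l hl, LinearMap.zero_apply], map_zero]
      rw [h2, smul_zero]
    · simp
  have hmem : ∀ (K : ConjClasses G) (g : GR),
      ∑ h : G, blockCoeff B h * classInd p K (h * g.1) ∈ localRing M := fun K g =>
    Subring.sum_mem _ fun h _ => Subring.mul_mem _ ((isIntClass_blockCoeff hB).2 h)
      (memLocalRing_classInd K _)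
  let v : ConjClasses G → GR → localRing M := fun K g => ⟨_, hmem K g⟩
  have hspan : Submodule.span 𝕜 (Set.range w) ≤
      Submodule.span 𝕜 (Set.range fun K x => res M (v K x)) := by
    rw [Submodule.span_le]
    rintro _ ⟨j, rfl⟩
    have hw' : w j = ∑ K : ConjClasses G,
        τ j (MonoidAlgebra.single K.out 1) • fun x => res M (v K x) := by
      funext g
      have h1 : τ j (MonoidAlgebra.single g.1 1) =
          τ j (idem M B * MonoidAlgebra.single g.1 1) := by
        show LinearMap.trace 𝕜 (T j) _ = LinearMap.trace 𝕜 (T j) _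
        congr 1
        refine LinearMap.ext fun x => ?_
        show _ = (idem M B * MonoidAlgebra.single g.1 1) • x
        rw [mul_smul, hid]
        rfl
      have h2 : idem M B * MonoidAlgebra.single g.1 (1 : 𝕜) =
          ∑ h : G, (idem M B).coeff h • MonoidAlgebra.single (h * g.1) (1 : 𝕜) := by
        conv_lhs => rw [sum_single_smul (idem M B), sum_mul]
        exact sum_congr rfl fun h _ => by
          rw [smul_mul_assoc, MonoidAlgebra.single_mul_single, one_mul]
      show τ j (MonoidAlgebra.single g.1 1) = _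
      rw [h1, h2, map_sum, Finset.sum_apply]
      simp only [Pi.smul_apply, smul_eq_mul, map_smul, v]
      have hv : ∀ K : ConjClasses G, res M ⟨_, hmem K g⟩ =
          ∑ h : G, red M (blockCoeff B h) * red M (classInd p K (h * g.1)) := fun K => by
        rw [← red_eq (hmem K g), red_sum _ fun h _ => memLocalRing_mul ((isIntClass_blockCoeff hB).2 h)
          (memLocalRing_classInd K _)]
        exact sum_congr rfl fun h _ => red_mul ((isIntClass_blockCoeff hB).2 h)
          (memLocalRing_classInd K _)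
      simp only [hv, mul_sum]
      rw [sum_comm]
      refine sum_congr rfl fun h _ => ?_
      obtain ⟨x, s, hxs, hg⟩ := exists_pElt p (h * g.1)
      rw [← hg, sum_eq_single (ConjClasses.mk s)]
      · rw [classInd_mul hxs, if_pos rfl, red_one, mul_one, hpp j hxs, idem, coeff_redFun]
        obtain ⟨t, ht⟩ := isConj_iff.1 (ConjClasses.mk_eq_mk_iff_isConj.1
          (show ConjClasses.mk (ConjClasses.mk s).out = ConjClasses.mk s from Quotient.out_eq _))
        rw [← hconj j (ConjClasses.mk s).out t, ht, mul_comm]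
      · intro K _ hK
        rw [classInd_mul hxs, if_neg (Ne.symm hK), red_zero, mul_zero, mul_zero]
      · simp
    rw [hw']
    exact Submodule.sum_mem _ fun K _ => Submodule.smul_mem _ _ (Submodule.subset_span ⟨K, rfl⟩)
  letI := irrFintype (G := G)
  let r : (G → ℂ) →ₗ[ℂ] (GR → ℂ) := LinearMap.funLeft ℂ ℂ Subtype.val
  have hV : Submodule.span ℂ (Set.range fun K x => (v K x : ℂ)) ≤ (Submodule.span ℂ
      ((fun χ : IrrCharacter G => pRegularPart p (χ : G → ℂ)) '' B)).map r := by
    rw [Submodule.span_le]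
    rintro _ ⟨K, rfl⟩
    refine ⟨∑ χ ∈ univ.filter (· ∈ B),
      classInner (classInd p K) (χ : G → ℂ) • pRegularPart p (χ : G → ℂ), ?_, ?_⟩
    · exact Submodule.sum_mem _ fun χ hχ => Submodule.smul_mem _ _
        (Submodule.subset_span ⟨χ, (mem_filter.1 hχ).2, rfl⟩)
    · funext g
      simp only [r, LinearMap.funLeft_apply, Finset.sum_apply, Pi.smul_apply, smul_eq_mul]
      simp only [BlockB.pRegularPart_eq, regPart_of_not_dvd g.2]
      rw [← blockPart_eq_sum_inner, blockPart_eq_conv B (isClassFunction_classInd K)]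
  calc Fintype.card ι = finrank 𝕜 (Submodule.span 𝕜 (Set.range w)) :=
        (finrank_span_eq_card hw).symm
    _ ≤ finrank 𝕜 (Submodule.span 𝕜 (Set.range fun K x => res M (v K x))) :=
        Submodule.finrank_mono hspan
    _ ≤ finrank ℂ (Submodule.span ℂ (Set.range fun K x => (v K x : ℂ))) := finrank_red_le v
    _ ≤ _ := (Submodule.finrank_mono hV).trans (Submodule.finrank_map_le _ _)

/-- Multiplication operators in coordinates. -/
noncomputable def coordEquiv (M : Ideal AlgInt) [M.IsPrime] (G : Type u) [Group G] [Fintype G] :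
    MonoidAlgebra (Residue M) G ≃ₗ[Residue M] (G → Residue M) :=
  (MonoidAlgebra.coeffLinearEquiv (Residue M)).trans
    (Finsupp.linearEquivFunOnFinite (Residue M) (Residue M) G)

theorem coordEquiv_apply (a : MonoidAlgebra 𝕜 G) (g : G) : coordEquiv M G a g = a.coeff g := rfl

/-- The rank of left multiplication by the reduction of an idempotent. -/
theorem finrank_mulLeft {a : LA M G} (ha : a * a = a) :
    (finrank 𝕜 (LinearMap.range (LinearMap.mulLeft 𝕜 (redA a))) : ℂ) =
      (Nat.card G : ℂ) * (a.coeff 1 : ℂ) := by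
  let Q : Matrix G G (localRing M) := Matrix.of fun g h => a.coeff (g * h⁻¹)
  have hQ : Q * Q = Q := by
    ext g h
    rw [Matrix.mul_apply]
    simp only [Q, Matrix.of_apply]
    refine congrArg Subtype.val (Eq.trans ?_ (congrArg (fun z => z.coeff (g * h⁻¹)) ha))
    rw [coeff_mul']
    exact Fintype.sum_equiv ((Equiv.inv G).trans (Equiv.mulLeft g)) _ _ fun z => by
      simp [mul_assoc]
  have h := rank_res_eq hQ
  simp only [Q, Matrix.of_apply, mul_inv_cancel, sum_const, nsmul_eq_mul, card_univ,
    ← Nat.card_eq_fintype_card] at h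
  rw [← h]
  congr 1
  have hconj : (coordEquiv M G).toLinearMap.comp (LinearMap.mulLeft 𝕜 (redA a)) =
      (Q.map (res M)).mulVecLin.comp (coordEquiv M G).toLinearMap := by
    refine LinearMap.ext fun y => funext fun g => ?_
    simp only [LinearMap.comp_apply, LinearEquiv.coe_coe, LinearMap.mulLeft_apply, coordEquiv_apply,
      Matrix.mulVecLin_apply, Matrix.mulVec, dotProduct, Matrix.map_apply, Q, Matrix.of_apply,
      BrauerPairs.coeff_mul, coeff_redA]
    exact Fintype.sum_equiv ((Equiv.inv G).trans (Equiv.mulRight g)) _ _ fun z => by simp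
  rw [← LinearMap.range_comp_of_range_eq_top (Q.map (res M)).mulVecLin (coordEquiv M G).range,
    ← hconj, LinearMap.range_comp, LinearEquiv.finrank_map_eq]

/-- The rank of right multiplication by the reduction of an idempotent. -/
theorem finrank_mulRight {a : LA M G} (ha : a * a = a) :
    (finrank 𝕜 (LinearMap.range (LinearMap.mulRight 𝕜 (redA a))) : ℂ) =
      (Nat.card G : ℂ) * (a.coeff 1 : ℂ) := by
  let Q : Matrix G G (localRing M) := Matrix.of fun g h => a.coeff (h⁻¹ * g)
  have hQ : Q * Q = Q := by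
    ext g h
    rw [Matrix.mul_apply]
    simp only [Q, Matrix.of_apply]
    refine congrArg Subtype.val (Eq.trans ?_ (congrArg (fun z => z.coeff (h⁻¹ * g)) ha))
    rw [coeff_mul']
    exact Fintype.sum_equiv (Equiv.mulLeft h⁻¹) _ _ fun z => by
      simp [mul_assoc, mul_comm]
  have h := rank_res_eq hQ
  simp only [Q, Matrix.of_apply, inv_mul_cancel, sum_const, nsmul_eq_mul, card_univ,
    ← Nat.card_eq_fintype_card] at h
  rw [← h]
  congr 1
  have hconj : (coordEquiv M G).toLinearMap.comp (LinearMap.mulRight 𝕜 (redA a)) =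
      (Q.map (res M)).mulVecLin.comp (coordEquiv M G).toLinearMap := by
    refine LinearMap.ext fun y => funext fun g => ?_
    simp only [LinearMap.comp_apply, LinearEquiv.coe_coe, LinearMap.mulRight_apply, coordEquiv_apply,
      Matrix.mulVecLin_apply, Matrix.mulVec, dotProduct, Matrix.map_apply, Q, Matrix.of_apply,
      BrauerPairs.coeff_mul, coeff_redA]
    exact sum_congr rfl fun z _ => mul_comm _ _
  rw [← LinearMap.range_comp_of_range_eq_top (Q.map (res M)).mulVecLin (coordEquiv M G).range,
    ← hconj, LinearMap.range_comp, LinearEquiv.finrank_map_eq]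

end CfsgLib.Cyclic
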