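import Cfsg.Agent.BlocksB.Cyclic.PrimeOrder
import Cfsg.Agent.Blocks.Congr

/-!
# Blocks of defect one
-/

set_option autoImplicit false
set_option linter.style.haveILetI false
set_option linter.unusedSectionVars false

namespace CfsgLib.Cyclic

open Cfsg Finset CfsgLib.Block CfsgLib.Block.Chr CfsgLib.BrauerPairs CfsgLib.BlockStar
  CfsgLib.BlockB CfsgLib.SL2C
open scoped ComplexConjugate
open scoped Classical

universe u

variable {M : Ideal AlgInt} [M.IsPrime] {p : ℕ} [Fact p.Prime] [CharP (Residue M) p]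
  {G : Type u} [Group G] [Fintype G]

local notation "Z[" x "]" => Subgroup.zpowers x
local notation "C[" Q "]" => Subgroup.centralizer (SetLike.coe Q)
local notation "N[" Q "]" => Subgroup.normalizer (SetLike.coe Q)

theorem centralizer_zpowers_of_central {u : G} (hu : ∀ y, u * y = y * u) :
    (C[Z[u]] : Subgroup G) = ⊤ := eq_top_iff.2 fun y _ => mem_cz.2 (hu y).symm

/-- The only pair of a block on a central cyclic subgroup is the block. -/
theorem eq_idem_of_central (hM : IsPModular p M) {B : Set (IrrCharacter G)} (hB : IsPBlock M B)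
    {u : G} (hu : ∀ y, u * y = y * u) {f : MonoidAlgebra (Residue M) G}
    (hf : IsPairOf p (idem M B) (Z[u], f)) : f = idem M B := by
  have hC := centralizer_zpowers_of_central hu
  have h := hf.2
  have hblk : IsBlk (Residue M) (⊤ : Subgroup G) f := hC ▸ hf.1.2
  rw [br_eq_self (by rw [hC]; exact suppIn_top _)] at h
  by_contra hne
  rw [(isBlk_idem hM hB).mul_eq_zero_of_ne (alg_comm le_rfl) hblk (Ne.symm hne)] at h
  exact hblk.ne_zero h.symm

/-- The value at a block idempotent over a central `p`-element. -/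
theorem val_central (hM : IsPModular p M) {B : Set (IrrCharacter G)} (hB : IsPBlock M B)
    (ξ : IrrCharacter G) {u s : G} (hu : ∀ y, u * y = y * u) (h : PElt p u s) :
    val ξ u s (idem M B) = if ξ ∈ B then (ξ : G → ℂ) (u * s) else 0 := by
  have hC := centralizer_zpowers_of_central hu
  have hblk : IsBlk (Residue M) C[Z[u]] (idem M B) := hC.symm ▸ isBlk_idem hM hB
  split_ifs with hξ
  · rw [← wsum_const_one (M := M) hM ξ h, wsum, sum_eq_single (idem M B)]
    · rw [br_one, one_mul, one_mul]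
    · intro f hf hne
      rw [br_one, one_mul, one_mul,
        val_eq_zero_of_not_pair hM hB hξ h (mem_blks.1 hf) fun hp =>
          hne (eq_idem_of_central hM hB hu hp)]
    · exact fun hn => absurd (mem_blks.2 hblk) hn
  · refine val_eq_zero_of_not_pair hM (isPBlock_blockOf ξ) (mem_blockOf_self ξ) h hblk fun hp => ?_
    have h1 := eq_idem_of_central hM (isPBlock_blockOf ξ) hu hp
    rw [idem_injective hB (isPBlock_blockOf ξ) h1] at hξ
    exact hξ (mem_blockOf_self ξ)

variable {B : Set (IrrCharacter G)} {P : Subgroup G} {b : Set (IrrCharacter C[P])} {t : G} {n : ℕ}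

/-- The local facts at a block of the centralizer of a Sylow subgroup of prime order. -/
theorem local_facts (hM : IsPModular p M) (S : CycData (M := M) p B P b t n)
    (hP : Nat.card P = p) (hN : (Nat.card G).factorization p = 1) [Fintype C[P]]
    {θ : IrrCharacter C[P]} (hθ : θ ∈ b) :
    (∀ ξ ∈ b, ∀ s : C[P], ¬ p ∣ orderOf s → (ξ : C[P] → ℂ) s = (θ : C[P] → ℂ) s) ∧
      ¬ p ∣ charDegree (θ : C[P] → ℂ) ∧
      (Nat.card C[P] : ℂ)⁻¹ * ∑ s ∈ univ.filter (fun s : C[P] => ¬ p ∣ orderOf s),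
        (θ : C[P] → ℂ) s * conj ((θ : C[P] → ℂ) s) = (p : ℂ)⁻¹ := by
  have hab := commute_of_cyclic S.hcyc
  obtain ⟨f, hf⟩ := Inertial.exists_inducedIn hM S.pair.1 S.hc.1 hab (le_refl P)
  obtain rfl : f = b := idemIn_injective hf.2.1 S.hc.1 (congrArg Prod.snd
    (PLE.eq_of_eq (Inertial.ple_of_inducedIn hM S.pair hab (le_refl P) hf) rfl))
  obtain ⟨e', -, hP', hmax'⟩ := Inertial.local_maxPair hM S.hB S.pair S.maxPair hab (le_refl P) hf
  have hnil : IsNil p (idem M f) := ((isNilpotentBlock_iff hM).1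
    (Inertial.isNilpotentBlock_local hM S.hB S.pair S.maxPair hab (le_refl P)
      (fun _ _ h => h) hf)).2
  haveI := Fintype.ofFinite (P.subgroupOf C[P])
  obtain ⟨χ₀, hχ₀, h0, Φ, hΦ⟩ := exists_generating hM hf.2.1 hnil hmax'
  have hab' : ∀ a b : P.subgroupOf C[P], a * b = b * a := fun a b =>
    Subtype.ext (Subtype.ext (hab _ a.2 _ b.2))
  have hreg : ∀ ξ ∈ f, ∀ s : C[P], ¬ p ∣ orderOf s → (ξ : C[P] → ℂ) s = (χ₀ : C[P] → ℂ) s := by
    intro ξ hξ s hs
    obtain ⟨ζ, hζ⟩ := Φ.surjective ⟨ξ, hξ⟩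
    have h1 := hΦ ζ s hs
    have hz : charDegree (ζ : P.subgroupOf C[P] → ℂ) = 1 := by
      have h2 := CfsgLib.Char.IsIrrCharacter.apply_one_eq_one ζ.2 hab'
      rw [(irr_one ζ).1] at h2
      exact_mod_cast h2
    rw [hζ, hz, Nat.cast_one, one_mul] at h1
    exact h1
  have hPC : P ≤ C[P] := fun x hx => Subgroup.mem_centralizer_iff.2 fun y hy => hab y hy x hx
  have hcard : Nat.card (P.subgroupOf C[P]) = p :=
    (Nat.card_congr (Subgroup.subgroupOfEquivOfLe hPC).toEquiv).trans hP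
  have h1mem : (1 : C[P]) ∈ P.subgroupOf C[P] := one_mem _
  have hsub : subBlk p (P.subgroupOf C[P]) e' 1 = idem M f :=
    eq_idem_of_central hM hf.2.1 (fun y => by simp)
      ((isPairOf_iff_of_ple (isBlk_idem hM hf.2.1) (subBlk_ple hP' h1mem) hP').2 hmax'.1)
  have hC1 : (C[Z[(1 : C[P])]] : Subgroup C[P]) = ⊤ :=
    centralizer_zpowers_of_central fun y => by simp
  have h := aFun_eq_one hM hf.2.1 hnil hmax' hχ₀ h0 h1mem
  rw [aFun, contribR, hsub, hC1, inf_top_eq, hcard, Subgroup.card_top] at h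
  refine ⟨fun ξ hξ s hs => (hreg ξ hξ s hs).trans (hreg θ hθ s hs).symm, ?_, ?_⟩
  · have hd : charDegree (θ : C[P] → ℂ) = charDegree (χ₀ : C[P] → ℂ) := by
      have h2 := hreg θ hθ 1 (by rw [orderOf_one]; exact hM.1.not_dvd_one)
      rw [(irr_one θ).1, (irr_one χ₀).1] at h2
      exact_mod_cast h2
    have hdef : blockDefect p f = 1 := by
      have h3 := card_defectGroup hM hf.2.1
        (isDefectGroup_of_isDef hM hf.2.1 (hmax'.isDef (isBlk_idem hM hf.2.1)))
      rw [hcard] at h3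
      exact (Nat.pow_eq_self_iff hM.1.one_lt).1 h3.symm
    have hNL : (Nat.card C[P]).factorization p ≤ 1 := by
      rw [← hN]
      exact (Nat.factorization_le_iff_dvd Nat.card_pos.ne' Nat.card_pos.ne').2
        (Subgroup.card_subgroup_dvd_card _) p
    rw [hd]
    intro hdvd
    have h4 := Nat.Prime.factorization_pos_of_dvd hM.1 (irr_one χ₀).2.ne' hdvd
    set F := fun ψ : IrrCharacter C[P] => (charDegree (ψ : C[P] → ℂ)).factorization p
    have h5 : F χ₀ - sInf (F '' f) = 0 := h0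
    have h6 : (Nat.card C[P]).factorization p - sInf (F '' f) = 1 := hdef
    have h7 : 0 < F χ₀ := h4
    omega
  · have e2 : ∑ s ∈ univ.filter (fun s : C[P] => ¬ p ∣ orderOf s),
        (θ : C[P] → ℂ) s * conj ((θ : C[P] → ℂ) s) =
      ∑ s ∈ univ.filter (fun s : C[P] => s ∈ (⊤ : Subgroup C[P]) ∧ ¬ p ∣ orderOf s),
        val χ₀ 1 s (idem M f) * conj (val χ₀ 1 s (idem M f)) := by
      refine sum_congr (by ext; simp) fun s hs => ?_
      obtain ⟨-, -, hr⟩ := mem_filter.1 hs
      rw [val_central hM hf.2.1 χ₀ (fun y => by simp) ⟨⟨0, by simp⟩, hr, Commute.one_left s⟩,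
        if_pos hχ₀, one_mul, hreg θ hθ s hr]
    rw [e2]
    exact eq_inv_of_mul_eq_one_right h

/-- **The degrees in a block of defect one.** -/
theorem degree_cong (hM : IsPModular p M) (S : CycData (M := M) p B P b t n)
    (hP : Nat.card P = p) (hN : (Nat.card G).factorization p = 1) [Fintype P] [Fintype C[P]]
    [Fintype B] {m : IrrCharacter G → (P →* ℂˣ) → ℕ} (V : CycVals (M := M) p P b t m)
    {X : Finset B} {δ : B → ℤ} {δ₀ : ℤ} {rep : B → (P →* ℂˣ)} (T : Tree S m X δ δ₀ rep)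
    {θ : IrrCharacter C[P]} (hθ : θ ∈ b) {x : B} (hx : x ∈ X) :
    deg x.1 ≡ ((stab P (idemIn M C[P] b)).relIndex N[P] : ℤ) * charDegree (θ : C[P] → ℂ) [ZMOD p] ∨
    deg x.1 ≡ -(((stab P (idemIn M C[P] b)).relIndex N[P] : ℤ) * charDegree (θ : C[P] → ℂ))
      [ZMOD p] := by
  letI := irrFintype (G := C[P])
  obtain ⟨hreg, -, hnorm⟩ := local_facts hM S hP hN hθ
  have hab := commute_of_cyclic S.hcyc
  have hPC : P ≤ C[P] := fun y hy => Subgroup.mem_centralizer_iff.2 fun z hz => hab z hz y hy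
  set e := idemIn M C[P] b
  have hee : e = emb C[P] (idem M b) := idemIn_eq b
  have hN' : ∀ ξ : IrrCharacter C[P], ∃ k : ℕ,
      classInner (fun l : C[P] => ((x : IrrCharacter G) : G → ℂ) l) (ξ : C[P] → ℂ) = (k : ℂ) :=
    fun ξ => CfsgLib.Char.IsCharacter.exists_classInner_eq_natCast
      (CfsgLib.Char.IsCharacter.restrict (isCharacter_irr x.1) C[P]) ξ.2
  choose Nx hNx using hN'
  set K : ℕ := ∑ ξ ∈ univ.filter (· ∈ b), Nx ξ * charDegree (ξ : C[P] → ℂ)
  have hgen : ∀ u : P, u ≠ 1 → Z[(u : G)] = P := fun u hu => by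
    refine Subgroup.eq_of_le_of_card_ge (Subgroup.zpowers_le.2 u.2) (le_of_eq ?_)
    rw [Nat.card_zpowers, Subgroup.orderOf_coe, hP]
    refine ((hM.1.eq_one_or_self_of_dvd _ ?_).resolve_left fun h =>
      hu (orderOf_eq_one_iff.1 h)).symm
    exact hP ▸ orderOf_dvd_natCard u
  have hsubBlk : ∀ u : P, u ≠ 1 → subBlk p P e (u : G) = e := fun u hu =>
    congrArg Prod.snd (PLE.eq_of_eq (subBlk_ple S.pair u.2) (hgen u hu))
  have hblkb : ∀ s : C[P], cj (Residue M) s (idem M b) = idem M b := fun s =>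
    (isBlk_idem hM S.hc.1).fixBy s (Subgroup.mem_top _)
  -- the value at the block of the centralizer
  have hv : ∀ u : P, u ≠ 1 → MemLocalIdeal M (val x.1 (u : G) 1 e - (K : ℂ)) ∧
      MemLocalIdeal M (conj (val x.1 (u : G) 1 e) - (K : ℂ)) ∧
      val x.1 (u : G) 1 e * conj (val x.1 (u : G) 1 e) = (charDegree (θ : C[P] → ℂ) : ℂ) ^ 2 := by
    intro u hu
    set u' : C[P] := ⟨(u : G), hPC u.2⟩
    have hcen : ∀ y : C[P], u' * y = y * u' := fun y =>
      Subtype.ext (Subgroup.mem_centralizer_iff.1 y.2 (u : G) u.2)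
    have hval : ∀ s : C[P], ¬ p ∣ orderOf s → PElt p (u : G) (s : G) ∧
        val x.1 (u : G) (s : G) e =
          ∑ ξ ∈ univ.filter (· ∈ b), (Nx ξ : ℂ) * (ξ : C[P] → ℂ) (u' * s) := by
      intro s hs
      obtain ⟨j, hj⟩ := mem_pSet.1 (mem_pSet_of_mem S.pair u.2)
      have h' : PElt p (u : G) (s : G) := ⟨⟨j, hj⟩, by rwa [Subgroup.orderOf_coe],
        congrArg Subtype.val (hcen s)⟩
      have h : PElt p u' s := ⟨⟨j, Subtype.ext hj⟩, hs, hcen s⟩
      refine ⟨h', ?_⟩
      rw [hee, show (u : G) = ((u' : C[P]) : G) from rfl,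
        val_emb hM C[P] x.1 h h' (isBlk_idem hM S.hc.1).idem (fun z _ => hblkb z), sum_filter]
      refine sum_congr rfl fun ξ _ => ?_
      rw [val_central hM S.hc.1 ξ hcen h, hNx]
      by_cases hξ : ξ ∈ b
      · rw [if_pos hξ, if_pos hξ]
      · rw [if_neg hξ, if_neg hξ, mul_zero]
    choose w _ hw using fun ξ : IrrCharacter C[P] => exists_central_scalar ξ.2 hcen
    set R : ℂ := ∑ ξ ∈ univ.filter (· ∈ b), (Nx ξ : ℂ) * w ξ
    have hvalR : ∀ s : C[P], ¬ p ∣ orderOf s → val x.1 (u : G) (s : G) e = R * (θ : C[P] → ℂ) s := by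
      intro s hs
      rw [(hval s hs).2, sum_mul]
      refine sum_congr rfl fun ξ hξ => ?_
      rw [hw, hreg ξ (mem_filter.1 hξ).2 s hs, mul_assoc]
    have hR : R * conj R = 1 := by
      have h := V.contrib x.1 x.1 u hu
      rw [hsubBlk u hu, contribR, show (C[Z[(u : G)]] : Subgroup G) = C[P] by rw [hgen u hu],
        T.val_X x hx u hu, hP] at h
      have h2 : ∑ s ∈ univ.filter (fun s : G => s ∈ C[P] ∧ ¬ p ∣ orderOf s),
          val x.1 (u : G) s e * conj (val x.1 (u : G) s e) =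
          (R * conj R) * ∑ s ∈ univ.filter (fun s : C[P] => ¬ p ∣ orderOf s),
            (θ : C[P] → ℂ) s * conj ((θ : C[P] → ℂ) s) := by
        rw [mul_sum]
        symm
        refine sum_bij (fun s _ => (s : G)) ?_ (fun _ _ _ _ h => Subtype.ext h) ?_ ?_
        · intro s hs
          refine mem_filter.2 ⟨mem_univ _, s.2, ?_⟩
          rw [Subgroup.orderOf_coe]; exact (mem_filter.1 hs).2
        · intro g hg
          obtain ⟨-, hgC, hgr⟩ := mem_filter.1 hg
          exact ⟨⟨g, hgC⟩, mem_filter.2 ⟨mem_univ _, by rwa [← Subgroup.orderOf_coe]⟩, rfl⟩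
        · intro s hs
          rw [hvalR s (mem_filter.1 hs).2, map_mul]; ring
      rw [h2, mul_left_comm, hnorm] at h
      have hδ : -((δ x : ℤ) : ℂ) * conj (-((δ x : ℤ) : ℂ)) = 1 := by
        rcases T.sign x hx with e | e <;> simp [e]
      rw [hδ, one_mul] at h
      exact mul_right_cancel₀ (inv_ne_zero (Nat.cast_ne_zero.2 hM.1.ne_zero)) (h.trans (one_mul _).symm)
    have h1 := (hval 1 (by rw [orderOf_one]; exact hM.1.not_dvd_one)).2
    have h1' := hvalR 1 (by rw [orderOf_one]; exact hM.1.not_dvd_one)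
    rw [OneMemClass.coe_one] at h1 h1'
    obtain ⟨j, hj⟩ := mem_pSet.1 (mem_pSet_of_mem S.pair u.2)
    have hu'j : u' ^ p ^ j = 1 := Subtype.ext hj
    have hcong : ∀ (ξ : IrrCharacter C[P]) (z : C[P]), z ^ p ^ j = 1 →
        MemLocalIdeal M ((ξ : C[P] → ℂ) z - (charDegree (ξ : C[P] → ℂ) : ℂ)) := fun ξ z hz => by
      have := char_cong_pPart hM (isCharacter_irr ξ) (Commute.one_right z) hz (m := 1)
        hM.1.not_dvd_one (one_pow 1)
      rwa [mul_one, (irr_one ξ).1] at this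
    refine ⟨?_, ?_, ?_⟩
    · rw [h1, Nat.cast_sum, ← sum_sub_distrib]
      refine memLocalIdeal_sum fun ξ _ => ?_
      rw [Nat.cast_mul, ← mul_sub, mul_one]
      exact memLocalIdeal_mul_left (natCast_mem_localRing _) (hcong ξ _ hu'j)
    · rw [h1, map_sum, Nat.cast_sum, ← sum_sub_distrib]
      refine memLocalIdeal_sum fun ξ _ => ?_
      rw [Nat.cast_mul, map_mul, map_natCast, ← mul_sub, mul_one, conj_irr]
      exact memLocalIdeal_mul_left (natCast_mem_localRing _) (hcong ξ _ (by rw [inv_pow, hu'j, inv_one]))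
    · rw [h1', map_mul, (irr_one θ).1, map_natCast]
      linear_combination ((charDegree (θ : C[P] → ℂ) : ℂ) ^ 2) * hR
  -- the integer
  haveI : Nontrivial P := (Subgroup.nontrivial_iff_ne_bot P).2 S.hP1
  obtain ⟨u₀, hu₀⟩ := exists_ne (1 : P)
  have hKsq : (p : ℤ) ∣ (K : ℤ) * K - (charDegree (θ : C[P] → ℂ) : ℤ) * charDegree (θ : C[P] → ℂ) := by
    obtain ⟨a1, a2, a3⟩ := hv u₀ hu₀
    set v := val x.1 (u₀ : G) 1 e
    refine (memLocalIdeal_intCast_iff hM).1 ?_
    push_cast
    rw [← sq (charDegree (θ : C[P] → ℂ) : ℂ), ← a3]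
    have hvR : MemLocalRing M v := by
      have := memLocalRing_add (memLocalIdeal_memLocalRing a1) (natCast_mem_localRing K)
      rwa [sub_add_cancel] at this
    have e1 : (K : ℂ) * K - v * conj v = -((v - K) * K + v * (conj v - K)) := by ring
    rw [e1]
    exact memLocalIdeal_neg (memLocalIdeal_add
      (memLocalIdeal_mul_right a1 (natCast_mem_localRing K)) (memLocalIdeal_mul_left hvR a2))
  -- the pairs of the block
  set O := (univ.filter (· ∈ (N[P] : Subgroup G))).image fun g => cj (Residue M) g e with hO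
  have hfib : ∀ g ∈ (N[P] : Subgroup G),
      ((univ.filter (· ∈ (N[P] : Subgroup G))).filter fun y =>
        cj (Residue M) y e = cj (Residue M) g e).card = Nat.card (stab P e) := by
    intro g hg
    rw [Nat.card_eq_fintype_card, ← card_univ]
    symm
    refine card_bij (fun s _ => g * (s : G)) (fun s _ => ?_)
      (fun a _ c _ h => Subtype.ext (mul_left_cancel h)) fun y hy => ?_
    · refine mem_filter.2 ⟨mem_filter.2 ⟨mem_univ _, mul_mem hg s.2.1⟩, ?_⟩
      rw [cj_mul, s.2.2]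
    · obtain ⟨hy1, hy2⟩ := mem_filter.1 hy
      have hy1' := (mem_filter.1 hy1).2
      refine ⟨⟨g⁻¹ * y, mul_mem (inv_mem hg) hy1', ?_⟩, mem_univ _, mul_inv_cancel_left g y⟩
      show cj (Residue M) (g⁻¹ * y) e = e
      rw [cj_mul, hy2, ← cj_mul, inv_mul_cancel, cj_one]
  have hstabN : stab P e ≤ N[P] := fun g hg => hg.1
  have hOcard : O.card = (stab P e).relIndex N[P] := by
    have h1 := card_eq_sum_card_image (fun g => cj (Residue M) g e)
      (univ.filter (· ∈ (N[P] : Subgroup G)))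
    rw [sum_const_nat (m := Nat.card (stab P e)) fun y hy => by
      obtain ⟨g, hg, rfl⟩ := mem_image.1 hy
      exact hfib g (mem_filter.1 hg).2, ← Fintype.card_subtype,
      ← Nat.card_eq_fintype_card, ← hO] at h1
    have h2 := Subgroup.relIndex_mul_relIndex ⊥ (stab P e) N[P] bot_le hstabN
    rw [Subgroup.relIndex_bot_left, Subgroup.relIndex_bot_left] at h2
    exact Nat.eq_of_mul_eq_mul_left Nat.card_pos (by rw [h2, mul_comm]; exact h1.symm)
  -- the value at an element of order `p`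
  have hdeg : (p : ℤ) ∣ deg x.1 - (O.card : ℤ) * K := by
    refine (memLocalIdeal_intCast_iff hM).1 ?_
    push_cast
    obtain ⟨j, hj⟩ := mem_pSet.1 (mem_pSet_of_mem S.pair u₀.2)
    have h' : PElt p (u₀ : G) (1 : G) :=
      ⟨⟨j, hj⟩, by rw [orderOf_one]; exact hM.1.not_dvd_one, Commute.one_right _⟩
    have hc1 := char_cong_pPart hM (isCharacter_irr x.1) (Commute.one_right (u₀ : G)) hj (m := 1)
      hM.1.not_dvd_one (one_pow 1)
    rw [(irr_one x.1).1] at hc1
    refine memLocalIdeal_sub_trans (y := ((x : IrrCharacter G) : G → ℂ) ((u₀ : G) * 1))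
      (memLocalIdeal_sub_comm hc1) ?_
    have hOblk : ∀ f ∈ O, f ∈ blks M (u₀ : G) ∧ ∃ g ∈ (N[P] : Subgroup G), f = cj (Residue M) g e := by
      intro f hf
      obtain ⟨g, hg, rfl⟩ := mem_image.1 hf
      refine ⟨mem_blks.2 ?_, g, (mem_filter.1 hg).2, rfl⟩
      rw [hgen u₀ hu₀]
      exact S.pair.2.cj_of_mem (map_normalizer_centralizer (mem_filter.1 hg).2)
    have hsum : ((x : IrrCharacter G) : G → ℂ) ((u₀ : G) * 1) =
        ∑ f ∈ O, val x.1 (u₀ : G) 1 f := by
      rw [← wsum_const_one (M := M) hM x.1 h', wsum]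
      refine (sum_subset (fun f hf => (hOblk f hf).1) fun f hf hfn => ?_).symm.trans
        (sum_congr rfl fun f _ => by rw [br_one, one_mul, one_mul])
      rw [br_one, one_mul, one_mul,
        val_eq_zero_of_not_pair hM S.hB x.2 h' (mem_blks.1 hf) fun hp => hfn ?_]
      obtain ⟨a, ha⟩ := exists_conj_ple_max (isBlk_idem hM S.hB) S.maxPair hp
      rw [cjPair_zpowers] at ha
      have hau : (⟨_, PLE.le ha (Subgroup.mem_zpowers _)⟩ : P) ≠ 1 := fun h0 =>
        hu₀ (Subtype.ext (conj_eq_one_iff.1 (congrArg Subtype.val h0)))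
      have hz := hgen _ hau
      have h2 := congrArg Prod.snd (PLE.eq_of_eq ha hz)
      have haN : a ∈ (N[P] : Subgroup G) := by
        have h3 : P.map (MulAut.conj a).toMonoidHom = P := by
          conv_lhs => rw [← hgen u₀ hu₀]
          rw [MonoidHom.map_zpowers]
          exact hz
        rw [Subgroup.mem_normalizer_iff]
        intro y
        conv_rhs => rw [← h3]
        exact (Subgroup.mem_map_iff_mem (f := (MulAut.conj a).toMonoidHom)
          (MulAut.conj a).injective).symm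
      refine mem_image.2 ⟨a⁻¹, mem_filter.2 ⟨mem_univ _, inv_mem haN⟩, ?_⟩
      have h2' : cj (Residue M) a f = e := h2
      rw [← h2', cj_inv_cj]
    rw [hsum, ← nsmul_eq_mul, ← sum_const, ← sum_sub_distrib]
    refine memLocalIdeal_sum fun f hf => ?_
    obtain ⟨-, g, hg, rfl⟩ := hOblk f hf
    set v : P := ⟨g⁻¹ * (u₀ : G) * g, ((Subgroup.mem_normalizer_iff''.1 hg) _).1 u₀.2⟩
    have hv1 : v ≠ 1 := fun h0 => hu₀ (Subtype.ext (by
      have h4 : g⁻¹ * (u₀ : G) * g = 1 := congrArg Subtype.val h0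
      have h5 : (u₀ : G) = g * (g⁻¹ * (u₀ : G) * g) * g⁻¹ := by group
      rw [h5, h4]; simp))
    have hpe : PElt p (v : G) (1 : G) := by
      obtain ⟨i, hi⟩ := mem_pSet.1 (mem_pSet_of_mem S.pair v.2)
      exact ⟨⟨i, hi⟩, by rw [orderOf_one]; exact hM.1.not_dvd_one, Commute.one_right _⟩
    have h6 := val_cj hM x.1 hpe g (by group) S.pair.2.idem (S.pair.2.fixBy.mono (by
      rw [sup_le_iff, Subgroup.zpowers_le, Subgroup.zpowers_le]
      exact ⟨hPC v.2, one_mem _⟩))
    rw [show g * (v : G) * g⁻¹ = u₀ by simp [v, mul_assoc]] at h6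
    rw [h6]
    exact (hv v hv1).1
  rw [hOcard] at hdeg
  have hp' : Prime (p : ℤ) := Nat.prime_iff_prime_int.1 hM.1
  rw [show (K : ℤ) * K - (charDegree (θ : C[P] → ℂ) : ℤ) * charDegree (θ : C[P] → ℂ) =
    ((K : ℤ) - charDegree (θ : C[P] → ℂ)) * ((K : ℤ) + charDegree (θ : C[P] → ℂ)) by ring] at hKsq
  rcases hp'.dvd_or_dvd hKsq with h | h
  · left
    refine (Int.modEq_iff_dvd.2 hdeg).symm.trans (Int.ModEq.mul_left _ ?_)
    exact (Int.modEq_iff_dvd.2 h).symm
  · right
    rw [← mul_neg]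
    refine (Int.modEq_iff_dvd.2 hdeg).symm.trans (Int.ModEq.mul_left _ ?_)
    exact (Int.modEq_iff_dvd.2 (by rwa [sub_neg_eq_add])).symm

/-- The canonical character determines the stabilizer of its block. -/
theorem stab_eq_of_canonical (hM : IsPModular p M) (S : CycData (M := M) p B P b t n)
    (hP : Nat.card P = p) (hN : (Nat.card G).factorization p = 1) [Fintype C[P]]
    {θ : IrrCharacter C[P]} (hθ : θ ∈ b)
    (hθP : ∀ z : C[P], (z : G) ∈ P → (θ : C[P] → ℂ) z = (θ : C[P] → ℂ) 1)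
    {g : G} (hg : g ∈ N[P]) :
    g ∈ stab P (idemIn M C[P] b) ↔ ∀ c c' : C[P], (c' : G) = g * c * g⁻¹ →
      (θ : C[P] → ℂ) c' = (θ : C[P] → ℂ) c := by
  letI := irrFintype (G := C[P])
  obtain ⟨hreg, -, -⟩ := local_facts hM S hP hN hθ
  have hH := mem_normalizer_iff_conjEquiv.mp (map_normalizer_centralizer hg)
  have hb := S.hc.1
  have hpelt : ∀ z : C[P], (∃ i : ℕ, z ^ p ^ i = 1) → (z : G) ∈ P := by
    rintro z ⟨i, hi⟩
    have hzp : IsPGroup p Z[(z : G)] := by
      rintro ⟨y, k, rfl⟩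
      refine ⟨i, Subtype.ext ?_⟩
      show ((z : G) ^ k) ^ p ^ i = 1
      rw [← zpow_natCast, ← zpow_mul, mul_comm, zpow_mul, zpow_natCast, ← SubgroupClass.coe_pow, hi]
      simp
    have hsup : IsPGroup p (P ⊔ Z[(z : G)] : Subgroup G) :=
      S.pair.1.to_sup_of_normal_left' hzp
        (Subgroup.zpowers_le.2 (Subgroup.centralizer_le_normalizer _ z.2))
    obtain ⟨Q, hQ⟩ := hsup.exists_le_sylow
    have hQc : Nat.card (Q : Subgroup G) = p := by
      rw [Sylow.card_eq_multiplicity, hN, pow_one]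
    have : P = (Q : Subgroup G) :=
      Subgroup.eq_of_le_of_card_ge (le_sup_left.trans hQ) (by rw [hQc, hP])
    exact this.ge (hQ (Subgroup.mem_sup_right (Subgroup.mem_zpowers _)))
  have huniq : ∀ ξ ∈ b, (∀ z : C[P], (z : G) ∈ P → (ξ : C[P] → ℂ) z = (ξ : C[P] → ℂ) 1) →
      ξ = θ := by
    intro ξ hξ hξP
    refine Subtype.ext (funext fun z => ?_)
    obtain ⟨x, s, hxs, rfl⟩ := exists_pElt p z
    have hxP := hpelt x hxs.pow
    have hcen : ∀ y : C[P], x * y = y * x := fun y =>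
      Subtype.ext (Subgroup.mem_centralizer_iff.1 y.2 (x : G) hxP)
    have key : ∀ η : IrrCharacter C[P], (η : C[P] → ℂ) x = (η : C[P] → ℂ) 1 →
        (η : C[P] → ℂ) (x * s) = (η : C[P] → ℂ) s := fun η hη => by
      obtain ⟨w, -, hw⟩ := exists_central_scalar η.2 hcen
      have h1 := hw 1
      rw [mul_one, hη] at h1
      have hw1 : w = 1 := mul_right_cancel₀ (irr_one_ne_zero η) (h1.symm.trans (one_mul _).symm)
      rw [hw, hw1, one_mul]
    rw [key ξ (hξP x hxP), key θ (hθP x hxP), hreg ξ hξ s hxs.reg]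
  constructor
  · intro hs c c' hc'
    obtain ⟨θ', hθ', hconj⟩ := ((stabilizesBlock_iff hM hb).2
      ⟨map_normalizer_centralizer hg, hs.2⟩).2 θ hθ
    have he : θ' = θ := huniq θ' hθ' fun z hz => by
      have h1 := (isConjCharOf_iff hH _ _).1 hconj
      rw [h1, mapChar_apply, mapChar_apply, map_one]
      refine hθP _ ?_
      rw [coe_conjEquiv_symm]
      exact ((Subgroup.mem_normalizer_iff''.1 hg) _).1 hz
    rw [← hconj c c' hc', he]
  · intro h
    refine ⟨hg, ?_⟩
    have hmap : mapChar (conjEquiv hH) θ = θ := ((isConjCharOf_iff hH θ θ).1 h).symm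
    have hset : mapSet (conjEquiv hH) b = b :=
      block_eq_of_common (isPBlock_mapSet _ hb) hb ⟨θ, hθ, rfl⟩ (hmap.symm ▸ hθ)
    rw [← idemIn_conj hH, hset]

end CfsgLib.Cyclic
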