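import Cfsg.Agent.BlocksB.Cyclic.Isometry
import Cfsg.Agent.Blocks.NormalSub

/-!
# Frobenius groups with cyclic kernel and the isometries onto blocks with cyclic defect groups
-/

set_option autoImplicit false
set_option linter.style.haveILetI false
set_option linter.unusedSectionVars false

namespace CfsgLib.Cyclic

open Cfsg Finset CfsgLib.Block CfsgLib.Block.Chr CfsgLib.BrauerPairs CfsgLib.BlockStar
  CfsgLib.BlockB CfsgLib.SL2C
open scoped ComplexConjugate
open scoped Classical

universe u v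

variable {M : Ideal AlgInt} [M.IsPrime] {p : ℕ} [Fact p.Prime] [CharP (Residue M) p]
  {G : Type u} [Group G] [Fintype G] {F : Type v} [Group F] [Fintype F]

local notation "Z[" x "]" => Subgroup.zpowers x
local notation "C[" Q "]" => Subgroup.centralizer (SetLike.coe Q)
local notation "N[" Q "]" => Subgroup.normalizer (SetLike.coe Q)

/-- The data of the principal block of a Frobenius group with cyclic kernel. -/
theorem exists_cycData_frobenius (hM : IsPModular p M) (Q : Subgroup F) (hQ : IsPGroup p Q)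
    (hcyc : IsCyclic Q) (hQ1 : Q ≠ ⊥) (hQC : (C[Q] : Subgroup F) = Q) {e : ℕ} (he : e ∣ p - 1)
    (hF : Nat.card F = Nat.card Q * e) :
    Q.Normal ∧ principalBlock M F = Set.univ ∧
      ∃ t, CycData (M := M) p (principalBlock M F) Q (principalBlock M C[Q]) t e := by
  have hp : p.Prime := Fact.out
  have he1 : e < p := by
    have := Nat.le_of_dvd (by have := hp.two_le; omega) he
    have := hp.two_le
    omega
  have hidx : Q.index = e := by
    have h := Q.card_mul_index
    rw [hF] at h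
    exact Nat.eq_of_mul_eq_mul_left Nat.card_pos h
  have he0 : 0 < e := hidx ▸ Nat.pos_of_ne_zero Subgroup.index_ne_zero_of_finite
  have hnd : ¬ p ∣ Q.index := fun h => by
    have := Nat.le_of_dvd (hidx ▸ he0) h
    omega
  set S : Sylow p F := hQ.toSylow hnd with hSdef
  have hS : (S : Subgroup F) = Q := hQ.toSylow_coe hnd
  have hN : (N[Q] : Subgroup F) = ⊤ := by
    have h1 : Nat.card (Sylow p F) = (N[Q] : Subgroup F).index := by
      rw [Sylow.card_eq_index_normalizer S]
      show (Subgroup.normalizer ((S : Subgroup F) : Set F)).index = _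
      rw [hS]
    have h2 : (N[Q] : Subgroup F).index ≤ e :=
      hidx ▸ Nat.le_of_dvd (hidx ▸ he0) (Subgroup.index_dvd_of_le Subgroup.le_normalizer)
    have h3 : Nat.card (Sylow p F) % p = 1 % p := card_sylow_modEq_one p F
    rw [Nat.mod_eq_of_lt (by omega), Nat.mod_eq_of_lt hp.one_lt, h1] at h3
    exact Subgroup.index_eq_one.1 h3
  have hnorm : Q.Normal := Subgroup.normalizer_eq_top_iff.1 hN
  haveI := hnorm
  have hall : principalBlock M F = Set.univ := Set.eq_univ_of_forall fun χ =>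
    sameBlock_of_constrained hM Q hQ hQC.le (trivIrr F) χ
  refine ⟨hnorm, hall, ?_⟩
  have hB : IsPBlock M (principalBlock M F) := isPBlock_principal
  have hmax0 := isMaxPair_prin (k := Residue M) S
  rw [hS, ← idem_principal hM] at hmax0
  have hPD : IsDefectGroup p M (principalBlock M F) Q :=
    isDefectGroup_of_isDef hM hB (hmax0.isDef (isBlk_idem hM hB))
  have hc : IsInducedBlock M C[Q] (principalBlock M C[Q]) (principalBlock M F) :=
    isInducedBlock_of_isBrauerPairOf hM hQC.ge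
      ((isBrauerPairOf_principal_iff hM hQ isPBlock_principal).2 rfl)
  obtain ⟨t, n, Sd⟩ := exists_cycData hM hB hPD hcyc hQ1 hc
  have hst : stab Q (idemIn M C[Q] (principalBlock M C[Q])) = ⊤ := by
    refine eq_top_iff.2 fun g _ => ⟨hN ▸ Subgroup.mem_top g, ?_⟩
    rw [idemIn_principal hM]
    exact cj_prin (map_normalizer_centralizer (hN ▸ Subgroup.mem_top g))
  have hne : n = e := by
    rw [Sd.n_eq, hst, Subgroup.relIndex_top_right, hQC, hidx]
  subst hne
  exact ⟨t, Sd⟩

variable {Q : Subgroup F} [Fintype Q] [Fintype (principalBlock M F)] {t : F} {n : ℕ}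
  {m : IrrCharacter F → (Q →* ℂˣ) → ℕ} {X : Finset (principalBlock M F)}
  {δ : principalBlock M F → ℤ} {δ₀ : ℤ} {rep : principalBlock M F → (Q →* ℂˣ)}
  {S : CycData (M := M) p (principalBlock M F) Q (principalBlock M C[Q]) t n}

/-- The members of the non-exceptional set are constant outside the identity. -/
theorem frobenius_const (hQC : (C[Q] : Subgroup F) = Q)
    (V : CycVals (M := M) p Q (principalBlock M C[Q]) t m) (T : Tree S m X δ δ₀ rep)
    {one : principalBlock M F} (hone1 : ∀ g : F, ((one : IrrCharacter F) : F → ℂ) g = 1)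
    (hone : one ∈ X) {η : principalBlock M F} (hη : η ∈ X) {u : Q} (hu : u ≠ 1) :
    ((η : IrrCharacter F) : F → ℂ) (u : F) = (δ η : ℂ) * (δ one : ℂ) := by
  have hM := S.hM
  have hB := S.hB
  have h : PElt p (u : F) (1 : F) := ⟨mem_pSet.1 (mem_pSet_of_mem S.pair u.2),
    by rw [orderOf_one]; exact (Fact.out : p.Prime).not_dvd_one, Commute.one_right _⟩
  set f := subBlk p Q (idemIn M C[Q] (principalBlock M C[Q])) (u : F)
  have hv : ∀ χ : principalBlock M F, ((χ : IrrCharacter F) : F → ℂ) (u : F) = val χ.1 (u : F) 1 f := by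
    intro χ
    conv_lhs => rw [← mul_one (u : F)]
    rw [← wsum_const_one (M := M) hM χ.1 h, wsum, sum_eq_single f]
    · rw [br_one, one_mul, one_mul]
    · intro f' hf hne
      rw [br_one, one_mul, one_mul,
        val_eq_zero_of_not_pair hM hB χ.2 h (mem_blks.1 hf) fun hp' => hne ?_]
      have h1 := (isPairOf_iff_of_ple (isBlk_idem hM hB) (subBlk_ple S.pair u.2) S.pair).2
        S.maxPair.1
      rw [idem_principal hM] at h1 hp'
      exact (isPairOf_prin_iff.1 hp').2.trans (isPairOf_prin_iff.1 h1).2.symm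
    · intro hn'
      exact absurd (mem_blks.2 (PLE.isPair (subBlk_ple S.pair u.2) S.pair).2) hn'
  have h1 := hv one
  rw [hone1] at h1
  have hd : (δ one : ℂ) * δ one = 1 := by rcases T.sign one hone with e | e <;> simp [e]
  rw [hv η, val_prop V η.1 one.1 hu (κ := (δ η : ℂ) * δ one) (by
    rw [T.val_X η hη u hu, T.val_X one hone u hu]
    linear_combination (δ η : ℂ) * hd) h, ← h1, mul_one]

/-- The trivial character is not exceptional. -/
theorem frobenius_one_mem [Q.Normal]
    (V : CycVals (M := M) p Q (principalBlock M C[Q]) t m) (T : Tree S m X δ δ₀ rep)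
    {one : principalBlock M F} (hone1 : ∀ g : F, ((one : IrrCharacter F) : F → ℂ) g = 1)
    (hx₀ : Nat.card Q = n + 1 → one ∈ X) (hQC : (C[Q] : Subgroup F) = Q) (hn1 : n ≠ 1) :
    one ∈ X := by
  have hM := S.hM
  by_contra ho
  have hYone : 1 < (Xᶜ).card := by
    refine lt_of_le_of_ne (card_pos.2 ⟨one, mem_compl.2 ho⟩) fun h => ho (hx₀ ?_)
    have h' := T.card_Y
    rw [← h, mul_one] at h'
    exact h'.symm
  obtain ⟨y, hy, hy1⟩ := exists_mem_ne hYone one
  have hag : ∀ g : F, ¬ p ∣ orderOf g → ((y : IrrCharacter F) : F → ℂ) g = 1 := fun g hg => by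
    rw [T.agree V (mem_compl.1 hy) ho hg, hone1]
  obtain ⟨lam, hlam⟩ := CfsgLib.Char.IsCharacter.exists_hom (isCharacter_irr y.1)
    (hag 1 (by rw [orderOf_one]; exact hM.1.not_dvd_one))
  have hcomm : ∀ a b : Q, a * b = b * a := fun a b =>
    Subtype.ext (commute_of_cyclic S.hcyc _ a.2 _ b.2)
  have hinj : Function.Injective (fun w : Q => S.actHom 1 w * w⁻¹) := by
    intro w w' he
    simp only at he
    by_contra hne
    have h1 : S.actHom 1 (w * w'⁻¹) = w * w'⁻¹ := by
      rw [map_mul, map_inv, mul_inv_eq_iff_eq_mul.1 he, mul_assoc (S.actHom 1 w'),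
        hcomm (S.actHom 1 w'), mul_inv_cancel_right, hcomm]
    have h3 := S.free (l := 1) (u := ((w * w'⁻¹ : Q) : F)) (w * w'⁻¹).2
      (fun h' => hne (mul_inv_eq_one.1 (Subtype.ext h'))) (congrArg Subtype.val h1)
    exact hn1 (Nat.eq_one_of_dvd_one h3)
  have hQtriv : ∀ w : Q, lam (w : F) = 1 := by
    intro w
    obtain ⟨z, hz⟩ := Finite.injective_iff_surjective.1 hinj w
    have hz' : t ^ 1 * (z : F) * (t ^ 1)⁻¹ * (z : F)⁻¹ = (w : F) := congrArg Subtype.val hz
    rw [← hz', map_mul, map_mul, map_mul, map_inv, map_inv,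
      mul_comm (lam (t ^ 1)) (lam (z : F)), mul_inv_cancel_right, mul_inv_cancel]
  refine hy1 (Subtype.ext (Subtype.ext (funext fun g => ?_)))
  rw [hone1, hlam]
  obtain ⟨x, s, hxs, rfl⟩ := exists_pElt p g
  show ((lam (x * s) : ℂˣ) : ℂ) = 1
  rw [map_mul, Units.val_mul]
  have hls : ((lam s : ℂˣ) : ℂ) = 1 := by
    have := hag s hxs.reg
    rwa [hlam] at this
  have hxQ : x ∈ Q := by
    obtain ⟨j, hj⟩ := hxs.pow
    obtain ⟨k, -, hk⟩ := (Nat.dvd_prime_pow hM.1).1 (orderOf_dvd_of_pow_eq_one hj)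
    have hidx : Q.index = n := by
      have hle : stab Q (idemIn M C[Q] (principalBlock M C[Q])) = ⊤ := by
        refine eq_top_iff.2 fun g _ => ?_
        have hN : (N[Q] : Subgroup F) = ⊤ := Subgroup.normalizer_eq_top_iff.2 inferInstance
        refine ⟨hN ▸ Subgroup.mem_top g, ?_⟩
        rw [idemIn_principal hM]
        exact cj_prin (map_normalizer_centralizer (hN ▸ Subgroup.mem_top g))
      rw [S.n_eq, hle, Subgroup.relIndex_top_right, hQC]
    rw [← QuotientGroup.eq_one_iff (N := Q), ← orderOf_eq_one_iff]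
    have h1 : orderOf (x : F ⧸ Q) ∣ n := by
      rw [← hidx, Subgroup.index]; exact orderOf_dvd_natCard _
    have h2 : orderOf (x : F ⧸ Q) ∣ p ^ k := hk ▸ orderOf_map_dvd (QuotientGroup.mk' Q) x
    have hnp : ¬ p ∣ n := fun h => by
      have h3 := Nat.le_of_dvd (by have := hM.1.two_le; omega : 0 < p - 1) S.n_dvd
      have h4 := Nat.le_of_dvd S.n_pos h
      have := hM.1.two_le
      omega
    exact Nat.eq_one_of_dvd_coprimes ((hM.1.coprime_iff_not_dvd.2 hnp).symm.pow_right k) h1 h2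
  rw [hQtriv ⟨x, hxQ⟩, hls]; simp

/-- Fourier inversion on the restriction to an abelian subgroup. -/
theorem exists_mult (hcomm : ∀ a b : Q, a * b = b * a) (η : IrrCharacter F) :
    ∃ N : (Q →* ℂˣ) → ℕ,
      (∀ μ, (Nat.card Q : ℂ) * N μ = ∑ u : Q, (η : F → ℂ) (u : F) * conj (μ u : ℂ)) ∧
      ∀ u : Q, (η : F → ℂ) (u : F) = ∑ μ : Q →* ℂˣ, (N μ : ℂ) * (μ u : ℂ) := by
  have h : ∀ μ : Q →* ℂˣ, ∃ k : ℕ,
      classInner (fun u : Q => (η : F → ℂ) u) (fun u => (μ u : ℂ)) = (k : ℂ) := fun μ =>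
    CfsgLib.Char.IsCharacter.exists_classInner_eq_natCast
      (CfsgLib.Char.IsCharacter.restrict (isCharacter_irr η) Q)
      (CfsgLib.Char.linearCharEquiv μ).1.2
  choose N hN using h
  have hN' : ∀ μ, (Nat.card Q : ℂ) * N μ = ∑ u : Q, (η : F → ℂ) (u : F) * conj (μ u : ℂ) := by
    intro μ
    rw [← hN, classInner, mul_inv_cancel_left₀ (Nat.cast_ne_zero.2 Nat.card_pos.ne')]
  refine ⟨N, hN', fun u => ?_⟩
  have h0 : (Nat.card Q : ℂ) ≠ 0 := Nat.cast_ne_zero.2 Nat.card_pos.ne'
  refine mul_left_cancel₀ h0 ?_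
  simp only [mul_sum, ← mul_assoc, hN', sum_mul]
  rw [sum_comm]
  simp only [mul_assoc, conj_char, MonoidHom.inv_apply, ← Units.val_mul, ← map_inv, ← map_mul,
    ← mul_sum, sum_dual hcomm]
  rw [sum_eq_single u]
  · simp [Nat.card_eq_fintype_card, mul_comm]
  · intro w _ hw
    rw [if_neg fun h => hw (inv_mul_eq_one.1 h), mul_zero]
  · simp

/-- **In a Frobenius group with cyclic kernel a non-exceptional character that is not trivial on
the kernel is the only one not trivial on it.** -/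
theorem frobenius_unique [Q.Normal] (hQC : (C[Q] : Subgroup F) = Q)
    (V : CycVals (M := M) p Q (principalBlock M C[Q]) t m) (T : Tree S m X δ δ₀ rep)
    (hF : Nat.card F = Nat.card Q * n) {one : principalBlock M F}
    (hone1 : ∀ g : F, ((one : IrrCharacter F) : F → ℂ) g = 1)
    (hone : one ∈ X) {η η' : principalBlock M F} (hη : η ∈ X) (hne : η ≠ η')
    (hnt : ∃ x ∈ Q, ((η : IrrCharacter F) : F → ℂ) x ≠ ((η : IrrCharacter F) : F → ℂ) 1)
    (hnt' : ∃ x ∈ Q, ((η' : IrrCharacter F) : F → ℂ) x ≠ ((η' : IrrCharacter F) : F → ℂ) 1) :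
    False := by
  letI := irrFintype (G := F)
  have hcomm : ∀ a b : Q, a * b = b * a := fun a b =>
    Subtype.ext (commute_of_cyclic S.hcyc _ a.2 _ b.2)
  have h0 : (Nat.card Q : ℂ) ≠ 0 := Nat.cast_ne_zero.2 Nat.card_pos.ne'
  -- a large degree
  have hbig : Nat.card Q - 1 ≤ charDegree ((η : IrrCharacter F) : F → ℂ) := by
    obtain ⟨N, hN, hexp⟩ := exists_mult hcomm η.1
    set κ := (δ η : ℂ) * (δ one : ℂ)
    set d := charDegree ((η : IrrCharacter F) : F → ℂ)
    have hd : ((η : IrrCharacter F) : F → ℂ) 1 = (d : ℂ) := (irr_one η.1).1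
    have hμ : ∀ μ : Q →* ℂˣ, μ ≠ 1 → (Nat.card Q : ℂ) * N μ = d - κ := by
      intro μ hμ
      rw [hN, ← add_sum_erase _ _ (mem_univ (1 : Q)), map_one, Units.val_one, map_one, mul_one,
        OneMemClass.coe_one, hd, sum_congr rfl (g := fun u : Q => κ * conj (μ u : ℂ)) fun u hu => by
          rw [frobenius_const hQC V T hone1 hone hη (mem_erase.1 hu).1], ← mul_sum,
        sum_erase_eq_sub (mem_univ _), ← map_sum, sum_char, if_neg hμ]
      simp [sub_eq_add_neg]
    have hdk : (d : ℂ) ≠ κ := fun h => by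
      obtain ⟨x, hx, hxn⟩ := hnt
      refine hxn ?_
      by_cases hx1 : x = 1
      · rw [hx1]
      rw [hd, h, show x = (((⟨x, hx⟩ : Q)) : F) from rfl,
        frobenius_const hQC V T hone1 hone hη fun e => hx1 (congrArg Subtype.val e)]
    have hpos : ∀ μ : Q →* ℂˣ, μ ≠ 1 → 1 ≤ N μ := fun μ hμ' => by
      refine Nat.one_le_iff_ne_zero.2 fun h => hdk ?_
      have := hμ μ hμ'
      rw [h, Nat.cast_zero, mul_zero] at this
      linear_combination -this
    have h1 := hexp 1
    simp only [OneMemClass.coe_one, map_one, Units.val_one, mul_one, hd] at h1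
    have h1' : d = ∑ μ : Q →* ℂˣ, N μ := by exact_mod_cast h1
    rw [h1']
    calc Nat.card Q - 1 = ∑ _μ ∈ (univ : Finset (Q →* ℂˣ)).erase 1, 1 := by
          rw [sum_const, smul_eq_mul, mul_one, card_erase_of_mem (mem_univ _), card_univ,
            card_dual hcomm, Nat.card_eq_fintype_card]
      _ ≤ ∑ μ ∈ (univ : Finset (Q →* ℂˣ)).erase 1, N μ :=
          sum_le_sum fun μ hμ' => hpos μ (mem_erase.1 hμ').1
      _ ≤ ∑ μ : Q →* ℂˣ, N μ := sum_le_sum_of_subset (subset_univ _)
  -- degree at least the index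
  have hidx : n ≤ charDegree ((η' : IrrCharacter F) : F → ℂ) := by
    obtain ⟨N, hN, hexp⟩ := exists_mult hcomm η'.1
    obtain ⟨μ, hμ1, hμ⟩ : ∃ μ : Q →* ℂˣ, μ ≠ 1 ∧ N μ ≠ 0 := by
      by_contra hall
      push_neg at hall
      obtain ⟨x, hx, hxn⟩ := hnt'
      have hc : ∀ u : Q, ((η' : IrrCharacter F) : F → ℂ) (u : F) = (N 1 : ℂ) := fun u => by
        rw [hexp, sum_eq_single 1]
        · simp
        · intro μ _ hμ; rw [hall μ hμ]; simp
        · simp
      exact hxn ((hc ⟨x, hx⟩).trans (hc 1).symm)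
    have hinv : ∀ l, N (μ.comp (S.actHom l)) = N μ := by
      intro l
      have h1 : (Nat.card Q : ℂ) * N (μ.comp (S.actHom l)) = (Nat.card Q : ℂ) * N μ := by
        rw [hN, hN, ← (Equiv.ofBijective (S.act l)
          ⟨Finite.injective_iff_surjective.2 (S.act_surjective l), S.act_surjective l⟩).sum_comp
          (fun v : Q => ((η' : IrrCharacter F) : F → ℂ) (v : F) * conj (μ v : ℂ))]
        refine sum_congr rfl fun u _ => ?_
        show _ = ((η' : IrrCharacter F) : F → ℂ) (t ^ l * (u : F) * (t ^ l)⁻¹) * _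
        rw [isClassFunction_irr η'.1]
        rfl
      exact Nat.cast_injective (mul_left_cancel₀ h0 h1)
    have h1 := hexp 1
    simp only [OneMemClass.coe_one, map_one, Units.val_one, mul_one, (irr_one η'.1).1] at h1
    have h1' : charDegree ((η' : IrrCharacter F) : F → ℂ) = ∑ μ : Q →* ℂˣ, N μ := by
      exact_mod_cast h1
    rw [h1']
    calc n = ∑ _ν ∈ (range n).image (fun l => μ.comp (S.actHom l)), 1 := by
          rw [sum_const, smul_eq_mul, mul_one, card_image_of_injOn (S.dual_injOn hμ1), card_range]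
      _ ≤ ∑ ν ∈ (range n).image (fun l => μ.comp (S.actHom l)), N ν := sum_le_sum fun ν hν => by
          obtain ⟨l, -, rfl⟩ := mem_image.1 hν
          rw [hinv]
          exact Nat.one_le_iff_ne_zero.2 hμ
      _ ≤ ∑ ν : Q →* ℂˣ, N ν := sum_le_sum_of_subset (subset_univ _)
  -- the squares
  have hsq : ∑ χ : IrrCharacter F, charDegree (χ : F → ℂ) ^ 2 = Nat.card F := by
    have h := CfsgLib.Char.sum_degree_sq (G := F)
    rw [sum_subtype (CfsgLib.Char.irrFinset F) (p := IsIrrCharacter F)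
      (fun χ => CfsgLib.Char.mem_irrFinset) (fun χ : F → ℂ => χ 1 ^ 2)] at h
    have h' : ∑ χ : IrrCharacter F, ((charDegree (χ : F → ℂ) : ℂ)) ^ 2 = (Nat.card F : ℂ) := by
      refine Eq.trans ?_ h
      exact sum_congr rfl fun χ _ => by rw [(irr_one χ).1]
    exact_mod_cast h'
  have h1d : charDegree ((one : IrrCharacter F) : F → ℂ) = 1 := by
    have h := (irr_one one.1).1
    rw [hone1] at h
    exact_mod_cast h.symm
  have hno : ∀ z : principalBlock M F, (∃ x ∈ Q, ((z : IrrCharacter F) : F → ℂ) x ≠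
      ((z : IrrCharacter F) : F → ℂ) 1) → one.1 ≠ z.1 := by
    rintro z ⟨x, -, hxn⟩ he
    rw [← he, hone1, hone1] at hxn
    exact hxn rfl
  have hle : charDegree ((one : IrrCharacter F) : F → ℂ) ^ 2 +
      (charDegree ((η : IrrCharacter F) : F → ℂ) ^ 2 +
        charDegree ((η' : IrrCharacter F) : F → ℂ) ^ 2) ≤ Nat.card F := by
    rw [← hsq]
    refine le_of_eq_of_le ?_ (sum_le_sum_of_subset (subset_univ {one.1, η.1, η'.1}))
    rw [sum_insert (by simp [hno η hnt, hno η' hnt']),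
      sum_insert (by simpa using fun h : η.1 = η'.1 => hne (Subtype.ext h)), sum_singleton]
  rw [h1d, hF] at hle
  have hnQ : n < Nat.card Q := by
    have := T.card_Y
    obtain ⟨μ, hμ⟩ : ∃ μ : Q →* ℂˣ, μ ≠ 1 := by
      haveI : Nontrivial Q := (Subgroup.nontrivial_iff_ne_bot Q).2 S.hP1
      obtain ⟨u, hu⟩ := exists_ne (1 : Q)
      obtain ⟨μ, hμ⟩ := exists_char_ne_one hcomm hu
      exact ⟨μ, fun h => hμ (by simp [h])⟩
    obtain ⟨y, ⟨hy, -⟩, -⟩ := T.orbit μ hμ
    have hc : 1 ≤ (Xᶜ).card := card_pos.2 ⟨y, mem_compl.2 hy⟩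
    nlinarith
  obtain ⟨a, ha⟩ := Nat.exists_eq_add_of_le (Nat.one_le_iff_ne_zero.2
    (Nat.card_pos (α := Q)).ne')
  rw [ha] at hbig hle hnQ
  simp only [Nat.add_sub_cancel_left] at hbig
  nlinarith [Nat.mul_le_mul hbig hbig, Nat.mul_le_mul hidx hidx]

omit [Fintype Q] [Fintype (principalBlock M F)] in
/-- With inertial index one the signs are opposite. -/
theorem Tree.sign_of_index_one {B : Set (IrrCharacter G)} {P : Subgroup G} [Fintype P] [Fintype B]
    {c : Set (IrrCharacter C[P])} {s : G} {S₁ : CycData (M := M) p B P c s 1}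
    {m₁ : IrrCharacter G → (P →* ℂˣ) → ℕ} {X₁ : Finset B} {d : B → ℤ} {d₀ : ℤ}
    {rep₁ : B → (P →* ℂˣ)} (T : Tree S₁ m₁ X₁ d d₀ rep₁) {x : B} (hx : x ∈ X₁) : d x = -d₀ := by
  obtain ⟨x₁, hx₁⟩ := card_eq_one.1 T.card_X
  obtain rfl : x = x₁ := by simpa [hx₁] using hx
  haveI : Nontrivial P := (Subgroup.nontrivial_iff_ne_bot P).2 S₁.hP1
  obtain ⟨u, hu⟩ := exists_ne (1 : P)
  obtain ⟨μ, hμ⟩ := exists_char_ne_one (fun a b => Subtype.ext
    (commute_of_cyclic S₁.hcyc _ a.2 _ b.2)) hu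
  obtain ⟨y, ⟨hy, -⟩, -⟩ := T.orbit μ fun h => hμ (by simp [h])
  have h1 := T.reg y hy 1 (by rw [orderOf_one]; exact (Fact.out : p.Prime).not_dvd_one)
  rw [hx₁, sum_singleton, (irr_one _).1, (irr_one _).1] at h1
  have h2 : d₀ * deg y.1 + d x * deg x.1 = 0 := by exact_mod_cast h1
  have e1 : (0 : ℤ) < deg y.1 := Nat.cast_pos.2 (irr_one y.1).2
  have e2 : (0 : ℤ) < deg x.1 := Nat.cast_pos.2 (irr_one x.1).2
  rcases T.sign₀ with e | e <;> rcases T.sign x hx with e' | e' <;> rw [e, e'] at h2 ⊢ <;> omega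

end CfsgLib.Cyclic
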