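import Cfsg.Agent.BlocksB.Cyclic.Orbits
import Cfsg.Agent.BlocksB.Cyclic.PrimeOrder
import Cfsg.Agent.HeightExt.Block
import Cfsg.Prelude.Def_BlockLocal

/-!
# Perfect isometries between blocks with cyclic defect groups
-/

set_option autoImplicit false
set_option linter.style.haveILetI false
set_option linter.unusedSectionVars false

namespace CfsgLib.Cyclic

open Cfsg Finset CfsgLib.Block CfsgLib.Block.Chr CfsgLib.BrauerPairs CfsgLib.BlockStar
  CfsgLib.BlockB CfsgLib.SL2C
open scoped ComplexConjugate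
open scoped Classical

universe u v

variable {M : Ideal AlgInt} [M.IsPrime] {p : ℕ} [Fact p.Prime] [CharP (Residue M) p]
  {G : Type u} [Group G] [Fintype G] {H : Type v} [Group H] [Fintype H]

local notation "Z[" x "]" => Subgroup.zpowers x
local notation "C[" Q "]" => Subgroup.centralizer (SetLike.coe Q)

/-- The part of a natural number prime to `p` is a unit of the local ring. -/
theorem memLocalRing_div_card (hM : IsPModular p M) {N k : ℕ} (hN : N ≠ 0)
    (hk : N.factorization p = k) {z : ℂ} (h : MemLocalRing M (z / (p : ℂ) ^ k)) :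
    MemLocalRing M (z / (N : ℂ)) := by
  have h1 : p ^ k * (N / p ^ N.factorization p) = N := by
    rw [← hk]; exact Nat.ordProj_mul_ordCompl_eq_self N p
  have h2 : ¬ p ∣ N / p ^ N.factorization p := Nat.not_dvd_ordCompl hM.1 hN
  have h3 : z / (N : ℂ) = z / (p : ℂ) ^ k * ((N / p ^ N.factorization p : ℕ) : ℂ)⁻¹ := by
    conv_lhs => rw [← h1]
    push_cast
    rw [div_mul_eq_div_div, div_eq_mul_inv _ ((_ : ℕ) : ℂ)]
  rw [h3]
  exact memLocalRing_mul h (memLocalRing_natCast_inv hM h2)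

variable {B : Set (IrrCharacter G)} {P : Subgroup G} {c : Set (IrrCharacter C[P])} {t : G} {n : ℕ}
  [Fintype P] [Fintype B] {m : IrrCharacter G → (P →* ℂˣ) → ℕ}

/-- Combinations killed by the values are divisible by the centralizers of regular elements. -/
theorem div_centralizer_of_killed (hM : IsPModular p M) (S : CycData (M := M) p B P c t n)
    (V : CycVals (M := M) p P c t m) (co : B → ℂ) (hco : ∀ χ, MemLocalRing M (co χ))
    (h : ∀ u : P, u ≠ 1 → ∑ χ : B, co χ * aval (m χ.1) u = 0) {x : G} (hx : ¬ p ∣ orderOf x) :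
    MemLocalRing M ((∑ χ : B, co χ * ((χ : IrrCharacter G) : G → ℂ) x) /
      (Nat.card (Subgroup.centralizer ({x} : Set G)) : ℂ)) := by
  set K := Subgroup.centralizer ({x} : Set G)
  obtain ⟨Q⟩ := (inferInstance : Nonempty (Sylow p K))
  set D := (Q : Subgroup K).map K.subtype
  haveI := Fintype.ofFinite D
  have hDcard : Nat.card D = p ^ (Nat.card K).factorization p := by
    rw [Subgroup.card_map_of_injective K.subtype_injective]
    exact Sylow.card_eq_multiplicity Q
  have hcomm : ∀ d ∈ D, d * x = x * d := by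
    rintro _ ⟨y, -, rfl⟩
    exact Subgroup.mem_centralizer_singleton_iff.1 y.2
  have hDp : IsPGroup p D := Q.isPGroup'.map _
  choose k ρ hρ using fun χ : B => isCharacter_irr (χ : IrrCharacter G)
  have hsum : ∑ w : D, ∑ χ : B, co χ * ((χ : IrrCharacter G) : G → ℂ) (x * w) =
      ∑ χ : B, co χ * ((χ : IrrCharacter G) : G → ℂ) x := by
    rw [sum_eq_single (1 : D)]
    · simp
    · intro w _ hw
      refine V.vanish S co h ?_
      obtain ⟨j, hj⟩ := IsPGroup.iff_orderOf.1 hDp w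
      rw [← Subgroup.orderOf_coe] at hj
      rw [Commute.orderOf_mul_eq_mul_orderOf_of_coprime (hcomm _ w.2).symm (by
        rw [hj]; exact ((hM.1.coprime_iff_not_dvd.2 hx).pow_left j).symm), hj]
      exact dvd_mul_of_dvd_right (dvd_pow_self p fun h0 => hw (Subtype.ext
        (orderOf_eq_one_iff.1 (by rw [hj, h0, pow_zero])))) _
    · simp
  refine memLocalRing_div_card hM Nat.card_pos.ne' rfl ?_
  rw [← hsum, sum_comm, show (p : ℂ) ^ (Nat.card K).factorization p = (Nat.card D : ℂ) by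
    rw [hDcard]; push_cast; rfl, sum_div]
  refine memLocalRing_sum fun χ _ => ?_
  rw [← mul_sum, mul_div_assoc]
  refine memLocalRing_mul (hco χ) (memLocalRing_of_isIntegral ?_)
  rw [div_eq_inv_mul, Nat.card_eq_fintype_card]
  have h := HeightExt.isIntegral_average (ρ χ) D x hcomm
  simpa only [hρ χ] using h

theorem scaled_term (N : ℕ) (a z : ℂ) {C i d : ℕ} (hC : C ≠ 0) (hi : i ≠ 0) (hd : d ≠ 0) :
    (N : ℂ) * (a * z) / (C : ℂ) =
      a * ((i : ℂ) * z / (d : ℂ)) * (((N * d : ℕ) : ℂ) / ((C * i : ℕ) : ℂ)) := by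
  have hC' : (C : ℂ) ≠ 0 := Nat.cast_ne_zero.2 hC
  have hi' : (i : ℂ) ≠ 0 := Nat.cast_ne_zero.2 hi
  have hd' : (d : ℂ) ≠ 0 := Nat.cast_ne_zero.2 hd
  push_cast
  field_simp

/-- The scaled values on a subsection of the block are divisible by the centralizers. -/
theorem scaled_val_dvd (hM : IsPModular p M) (S : CycData (M := M) p B P c t n)
    (χ : IrrCharacter G) {u s : G} (h : PElt p u s) {f : MonoidAlgebra (Residue M) G}
    (hf : IsPairOf p (idem M B) (Z[u], f)) :
    MemLocalRing M ((Nat.card P : ℂ) * val χ u s f /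
      (Nat.card (Subgroup.centralizer ({u * s} : Set G)) : ℂ)) ∧
    MemLocalRing M (val χ u s f) := by
  haveI := Fintype.ofFinite C[Z[u]]
  letI := irrFintype (G := C[Z[u]])
  obtain ⟨d, hd, hde⟩ := exists_idemIn_eq hM (show IsBlk (Residue M) C[Z[u]] f from hf.1.2)
  rw [← hde] at hf ⊢
  obtain ⟨j, hj⟩ := h.pow
  obtain ⟨k, -, hk⟩ := (Nat.dvd_prime_pow hM.1).1 (orderOf_dvd_of_pow_eq_one hj)
  have hind := isInducedBlock_of_isBrauerPairOf hM (zpowers_le_centralizer_zpowers u)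
    ((isBrauerPairOf_iff hM).2 ⟨⟨hf.1.1, hd⟩, S.hB, hf⟩)
  have hle := blockDefect_le_of_induced hM hf.1.1 rfl (zpowers_le_centralizer_zpowers u) hind
  choose lam Nc hlam _ _ hco using fun ξ : IrrCharacter C[Z[u]] =>
    exists_section_coeff (H := C[Z[u]]) hM (centralizer_zpowers_eq u) hk χ ξ
  have hlR : ∀ ξ, MemLocalRing M (lam ξ) := fun ξ =>
    memLocalRing_of_isIntegral (CfsgLib.Char.isIntegral_of_pow_eq_one (pow_pos hM.1.pos k) (hlam ξ))
  set s' : C[Z[u]] := ⟨s, h.mem⟩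
  have hval : val χ u s (idemIn M C[Z[u]] d) = ∑ ξ ∈ univ.filter (· ∈ d),
      lam ξ * Nc ξ * (ξ : C[Z[u]] → ℂ) s' := by
    rw [val_idemIn hM χ h hd, subPart_eq_regPart hM hd,
      regPart_of_not_dvd (by rw [← Subgroup.orderOf_coe]; exact h.reg), blockPart_eq_sum_inner]
    exact sum_congr rfl fun ξ _ => by rw [hco ξ]
  have hreg : Subgroup.centralizer ({u * s} : Set G) =
      (Subgroup.centralizer ({s'} : Set C[Z[u]])).map (C[Z[u]]).subtype := by
    have hu : u ∈ Z[u * s] := by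
      have hcop : Nat.Coprime (orderOf u) (orderOf s) := by
        rw [hk]; exact (hM.1.coprime_iff_not_dvd.2 h.reg).pow_left k
      obtain ⟨a, ha⟩ := exists_pow_eq_self_of_coprime (x := u) hcop.symm
      have h1 : ((u * s) ^ orderOf s) ^ a = u := by
        rw [h.comm.mul_pow, pow_orderOf_eq_one, mul_one, ha]
      have h2 := Subgroup.npow_mem_zpowers (u * s) (orderOf s * a)
      rwa [pow_mul, h1] at h2
    ext y
    rw [Subgroup.mem_centralizer_singleton_iff, Subgroup.mem_map]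
    constructor
    · intro hy
      have hc1 : Commute y (u * s) := hy
      obtain ⟨i, hi⟩ := Subgroup.mem_zpowers_iff.1 hu
      have hc2 : Commute y u := hi ▸ hc1.zpow_right i
      refine ⟨⟨y, mem_cz.2 hc2.eq⟩, Subgroup.mem_centralizer_singleton_iff.2 (Subtype.ext ?_), rfl⟩
      show y * s = s * y
      have h3 : u * (y * s) = u * (s * y) := by
        rw [← mul_assoc, ← hc2.eq, mul_assoc, hy, mul_assoc]
      exact mul_left_cancel h3
    · rintro ⟨z, hz, rfl⟩
      have h1 : (z : G) * s = s * z :=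
        congrArg Subtype.val (Subgroup.mem_centralizer_singleton_iff.1 hz)
      show (z : G) * (u * s) = u * s * (z : G)
      rw [← mul_assoc, mem_cz.1 z.2, mul_assoc, h1, mul_assoc]
  refine ⟨?_, ?_⟩
  swap
  · rw [hval]
    exact memLocalRing_sum fun ξ _ => memLocalRing_mul
      (memLocalRing_mul (hlR ξ) (natCast_mem_localRing _)) (irr_mem ξ s')
  rw [hreg, Subgroup.card_map_of_injective (C[Z[u]]).subtype_injective, hval, mul_sum, sum_div]
  refine memLocalRing_sum fun ξ hξ => ?_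
  have hkey := scaled_term (Nat.card P) (lam ξ * Nc ξ) ((ξ : C[Z[u]] → ℂ) s')
    (Nat.card_pos (α := Subgroup.centralizer ({s'} : Set C[Z[u]]))).ne'
    (Subgroup.index_ne_zero_of_finite (H := Subgroup.centralizer ({s'} : Set C[Z[u]])))
    (irr_one ξ).2.ne'
  rw [Subgroup.card_mul_index, ← (irr_one ξ).1] at hkey
  rw [hkey]
  refine memLocalRing_mul (memLocalRing_mul (memLocalRing_mul (hlR ξ) (natCast_mem_localRing _))
    (centralChar_mem ξ s')) ?_
  refine memLocalRing_div_card hM Nat.card_pos.ne' rfl ?_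
  have hdvd : p ^ (Nat.card C[Z[u]]).factorization p ∣
      Nat.card P * charDegree (ξ : C[Z[u]] → ℂ) := by
    have h1 : sInf ((fun ψ : IrrCharacter C[Z[u]] =>
        (charDegree (ψ : C[Z[u]] → ℂ)).factorization p) '' d) ≤
        (charDegree (ξ : C[Z[u]] → ℂ)).factorization p :=
      Nat.sInf_le ⟨ξ, (mem_filter.1 hξ).2, rfl⟩
    have h2 : (Nat.card C[Z[u]]).factorization p - sInf ((fun ψ : IrrCharacter C[Z[u]] =>
        (charDegree (ψ : C[Z[u]] → ℂ)).factorization p) '' d) ≤ blockDefect p B := hle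
    rw [card_defectGroup hM S.hB S.hPD]
    refine dvd_trans (pow_dvd_pow p (show (Nat.card C[Z[u]]).factorization p ≤
      blockDefect p B + (charDegree (ξ : C[Z[u]] → ℂ)).factorization p by omega)) ?_
    rw [pow_add]
    exact mul_dvd_mul dvd_rfl (Nat.ordProj_dvd _ _)
  obtain ⟨w, hw⟩ := hdvd
  rw [hw]
  push_cast
  rw [mul_div_cancel_left₀ _ (pow_ne_zero _ (Nat.cast_ne_zero.2 hM.1.ne_zero))]
  exact natCast_mem_localRing w

variable {X : Finset B} {δ : B → ℤ} {δ₀ : ℤ} {rep : B → (P →* ℂˣ)}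

/-- The sum over the orbit of a member. -/
noncomputable def Tree.orbSum {S : CycData (M := M) p B P c t n}
    (_T : Tree S m X δ δ₀ rep) (y : B) (u : P) : ℂ :=
  ∑ l ∈ range n, (rep y (S.act l u) : ℂ)

/-- The values of the members are parts of all the linear characters. -/
theorem Tree.sum_orbit {S : CycData (M := M) p B P c t n} (T : Tree S m X δ δ₀ rep)
    (f : (P →* ℂˣ) → ℂ) :
    ∑ y ∈ Xᶜ, ∑ l ∈ range n, f ((rep y).comp (S.actHom l)) =
      ∑ μ ∈ univ.filter (fun μ : P →* ℂˣ => μ ≠ 1), f μ := by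
  rw [← sum_product']
  refine sum_bij (fun yl _ => (rep yl.1).comp (S.actHom yl.2)) ?_ ?_ ?_ (fun _ _ => rfl)
  · rintro ⟨y, l⟩ hyl
    obtain ⟨hy, -⟩ := mem_product.1 hyl
    refine mem_filter.2 ⟨mem_univ _, fun h => (T.val_Y y (mem_compl.1 hy)).1 (MonoidHom.ext fun w => ?_)⟩
    obtain ⟨z, rfl⟩ := S.act_surjective l w
    exact DFunLike.congr_fun h z
  · rintro ⟨y, l⟩ hyl ⟨y', l'⟩ hyl' he
    obtain ⟨hy, hl⟩ := mem_product.1 hyl
    obtain ⟨hy', hl'⟩ := mem_product.1 hyl'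
    have hne : (rep y).comp (S.actHom l) ≠ 1 := fun h =>
      (T.val_Y y (mem_compl.1 hy)).1 (MonoidHom.ext fun w => by
        obtain ⟨z, rfl⟩ := S.act_surjective l w
        exact DFunLike.congr_fun h z)
    have hyy : y = y' := (T.orbit _ hne).unique
      ⟨mem_compl.1 hy, l, mem_range.1 hl, rfl⟩ ⟨mem_compl.1 hy', l', mem_range.1 hl', he⟩
    subst hyy
    exact Prod.ext rfl (S.dual_injOn (T.val_Y y (mem_compl.1 hy)).1 hl hl' he)
  · intro μ hμ
    obtain ⟨y, ⟨hy, l, hl, he⟩, -⟩ := T.orbit μ (mem_filter.1 hμ).2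
    exact ⟨(y, l), mem_product.2 ⟨mem_compl.2 hy, mem_range.2 hl⟩, he.symm⟩

theorem sum_ne_one (S : CycData (M := M) p B P c t n) (z : P) :
    ∑ μ ∈ univ.filter (fun μ : P →* ℂˣ => μ ≠ 1), (μ z : ℂ) =
      (if z = 1 then (Nat.card P : ℂ) else 0) - 1 := by
  rw [filter_ne' univ (1 : P →* ℂˣ), sum_erase_eq_sub (mem_univ _),
    sum_dual (fun a b => Subtype.ext (commute_of_cyclic S.hcyc _ a.2 _ b.2)),
    Nat.card_eq_fintype_card, MonoidHom.one_apply, Units.val_one]
  congr

theorem Tree.sum_orbSum {S : CycData (M := M) p B P c t n} (T : Tree S m X δ δ₀ rep)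
    {u : P} (hu : u ≠ 1) : ∑ y ∈ Xᶜ, T.orbSum y u = -1 := by
  have h := T.sum_orbit (fun μ => (μ u : ℂ))
  rw [sum_ne_one S u, if_neg hu, zero_sub] at h
  exact h

variable {B' : Set (IrrCharacter H)} {P' : Subgroup H} {c' : Set (IrrCharacter C[P'])} {t' : H}
  [Fintype P'] [Fintype B'] {m' : IrrCharacter H → (P' →* ℂˣ) → ℕ} {X' : Finset B'}
  {δ' : B' → ℤ} {δ₀' : ℤ} {rep' : B' → (P' →* ℂˣ)}
  {S : CycData (M := M) p B P c t n} {S' : CycData (M := M) p B' P' c' t' n}

/-- The signs of the isometry. -/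
noncomputable def isoSign (X' : Finset B') (δ : B → ℤ) (δ' : B' → ℤ) (δ₀ δ₀' : ℤ) (e : B' ≃ B)
    (η : B') : ℤ :=
  if η ∈ X' then δ (e η) * δ' η else δ₀ * δ₀'

theorem isoSign_symm (e : B' ≃ B) (hX : ∀ η, η ∈ X' ↔ e η ∈ X) (η : B') :
    isoSign X δ' δ δ₀' δ₀ e.symm (e η) = isoSign X' δ δ' δ₀ δ₀' e η := by
  unfold isoSign
  rw [e.symm_apply_apply]
  by_cases h : η ∈ X'
  · rw [if_pos h, if_pos ((hX η).1 h), mul_comm]
  · rw [if_neg h, if_neg fun h' => h ((hX η).2 h'), mul_comm]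

/-- At a regular element the signed values are killed. -/
theorem killed_regular (V' : CycVals (M := M) p P' c' t' m') (T : Tree S m X δ δ₀ rep)
    (T' : Tree S' m' X' δ' δ₀' rep') (e : B' ≃ B) (hX : ∀ η, η ∈ X' ↔ e η ∈ X) {y : H}
    (hy : ¬ p ∣ orderOf y) {u : P} (hu : u ≠ 1) :
    ∑ η : B', (isoSign X' δ δ' δ₀ δ₀' e η : ℂ) * ((η : IrrCharacter H) : H → ℂ) y *
      aval (m (e η).1) u = 0 := by
  rw [← sum_add_sum_compl X']
  set A := ∑ η ∈ X', (δ' η : ℂ) * ((η : IrrCharacter H) : H → ℂ) y with hA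
  have h1 : ∑ η ∈ X', (isoSign X' δ δ' δ₀ δ₀' e η : ℂ) * ((η : IrrCharacter H) : H → ℂ) y *
      aval (m (e η).1) u = -A := by
    rw [hA, ← sum_neg_distrib]
    refine sum_congr rfl fun η hη => ?_
    rw [isoSign, if_pos hη, T.val_X _ ((hX η).1 hη) u hu, Int.cast_mul]
    rcases T.sign _ ((hX η).1 hη) with e1 | e1 <;> rw [e1] <;> push_cast <;> ring
  have h2 : ∀ η ∈ X'ᶜ, (isoSign X' δ δ' δ₀ δ₀' e η : ℂ) * ((η : IrrCharacter H) : H → ℂ) y *
      aval (m (e η).1) u = -A * T.orbSum (e η) u := by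
    intro η hη
    have hη' := mem_compl.1 hη
    have hr := T'.reg η hη' y hy
    rw [← hA] at hr
    rw [isoSign, if_neg hη', (T.val_Y _ fun h => hη' ((hX η).2 h)).2 u hu, Int.cast_mul,
      show -A = (δ₀' : ℂ) * ((η : IrrCharacter H) : H → ℂ) y by linear_combination -hr]
    show (δ₀ : ℂ) * (δ₀' : ℂ) * _ * ((δ₀ : ℂ) * T.orbSum (e η) u) = _
    have hd : (δ₀ : ℂ) * δ₀ = 1 := by exact_mod_cast (show δ₀ * δ₀ = 1 from
      T.sign₀.elim (fun h => by simp [h]) fun h => by simp [h])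
    linear_combination ((δ₀' : ℂ) * ((η : IrrCharacter H) : H → ℂ) y * T.orbSum (e η) u) * hd
  rw [h1, sum_congr rfl h2, ← mul_sum,
    sum_equiv e (t := Xᶜ) (g := fun z => T.orbSum z u)
      (fun η => by simp only [mem_compl, hX η]) (fun _ _ => rfl), T.sum_orbSum hu]
  ring

/-- The signed values of two subsections. -/
theorem singular_bracket (T : Tree S m X δ δ₀ rep) (T' : Tree S' m' X' δ' δ₀' rep')
    (φ : P' ≃* P) (e : B' ≃ B) (hX : ∀ η, η ∈ X' ↔ e η ∈ X)
    (hO : ∀ η, η ∉ X' → ∀ v : P', T'.orbSum η v = T.orbSum (e η) (φ v))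
    {u : P} (hu : u ≠ 1) {v : P'} (hv : v ≠ 1) :
    ∃ k : ℕ, ∑ η : B', (isoSign X' δ δ' δ₀ δ₀' e η : ℂ) * aval (m (e η).1) u * aval (m' η.1) v =
      (Nat.card P : ℂ) * k := by
  refine ⟨((range n).filter fun k => u * S.act k (φ v) = 1).card, ?_⟩
  rw [← sum_add_sum_compl X',
    sum_congr (s₁ := X') rfl (g := fun _ => (1 : ℂ)) fun η hη => by
      rw [isoSign, if_pos hη, T.val_X _ ((hX η).1 hη) u hu, T'.val_X η hη v hv, Int.cast_mul]
      rcases T.sign _ ((hX η).1 hη) with e1 | e1 <;> rcases T'.sign η hη with e2 | e2 <;>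
        rw [e1, e2] <;> push_cast <;> ring,
    sum_const, T'.card_X, nsmul_eq_mul, mul_one,
    sum_congr (s₁ := X'ᶜ) rfl (g := fun η => T.orbSum (e η) u * T.orbSum (e η) (φ v)) fun η hη => by
      have hη' := mem_compl.1 hη
      rw [isoSign, if_neg hη', (T.val_Y _ fun h => hη' ((hX η).2 h)).2 u hu,
        (T'.val_Y η hη').2 v hv, Int.cast_mul, ← hO η hη' v]
      show (δ₀ : ℂ) * (δ₀' : ℂ) * ((δ₀ : ℂ) * T.orbSum (e η) u) * ((δ₀' : ℂ) * T'.orbSum η v) = _
      have hd : (δ₀ : ℂ) * δ₀ = 1 := by exact_mod_cast (show δ₀ * δ₀ = 1 from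
        T.sign₀.elim (fun h => by simp [h]) fun h => by simp [h])
      have hd' : (δ₀' : ℂ) * δ₀' = 1 := by exact_mod_cast (show δ₀' * δ₀' = 1 from
        T'.sign₀.elim (fun h => by simp [h]) fun h => by simp [h])
      linear_combination (T.orbSum (e η) u * T'.orbSum η v * (δ₀ : ℂ) * δ₀) * hd' +
        (T.orbSum (e η) u * T'.orbSum η v) * hd,
    sum_equiv e (t := Xᶜ) (g := fun z => T.orbSum z u * T.orbSum z (φ v))
      (fun η => by simp only [mem_compl, hX η]) (fun _ _ => rfl)]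
  have h1 : ∑ z ∈ Xᶜ, T.orbSum z u * T.orbSum z (φ v) =
      ∑ μ ∈ univ.filter (fun μ : P →* ℂˣ => μ ≠ 1),
        (μ u : ℂ) * ∑ k ∈ range n, (μ (S.act k (φ v)) : ℂ) := by
    rw [← T.sum_orbit]
    refine sum_congr rfl fun z _ => ?_
    rw [Tree.orbSum, sum_mul]
    refine sum_congr rfl fun l _ => ?_
    simp only [MonoidHom.comp_apply, CycData.actHom_apply, ← S.act_add]
    rw [S.sum_shift (fun w : P => (rep z w : ℂ)) (φ v) l]
    rfl
  rw [h1]
  simp only [mul_sum, ← Units.val_mul, ← map_mul]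
  rw [sum_comm]
  simp only [sum_ne_one S, sum_sub_distrib, sum_const, card_range, nsmul_eq_mul, mul_one,
    ← sum_filter]
  ring

/-- The members correspond. -/
theorem exists_equiv (T : Tree S m X δ δ₀ rep) (T' : Tree S' m' X' δ' δ₀' rep') (φ : P' ≃* P) :
    ∃ e : B' ≃ B, (∀ η, η ∈ X' ↔ e η ∈ X) ∧
      ∀ η, η ∉ X' → ∀ v : P', T'.orbSum η v = T.orbSum (e η) (φ v) := by
  obtain ⟨σ, hσ, hσb, hσw⟩ := exists_act_match S S' φ
  have hcard : Nat.card P' = Nat.card P := Nat.card_congr φ.toEquiv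
  have hYcard : (X'ᶜ).card = (Xᶜ).card := by
    have h := T'.card_Y
    rw [hcard, ← T.card_Y] at h
    exact Nat.eq_of_mul_eq_mul_left S.n_pos (Nat.succ_injective h)
  have hμne : ∀ η : {η // η ∈ X'ᶜ}, (rep' η.1).comp φ.symm.toMonoidHom ≠ 1 := fun η h =>
    (T'.val_Y η.1 (mem_compl.1 η.2)).1 (MonoidHom.ext fun w => by
      have h1 := DFunLike.congr_fun h (φ w)
      simpa using h1)
  choose g hg hgu using fun η : {η // η ∈ X'ᶜ} => T.orbit _ (hμne η)
  let g' : {η // η ∈ X'ᶜ} → {z // z ∈ Xᶜ} := fun η => ⟨g η, mem_compl.2 (hg η).1⟩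
  have hinj : Function.Injective g' := by
    intro a b hab
    have hab' : g a = g b := congrArg Subtype.val hab
    obtain ⟨l, hl, hla⟩ := (hg a).2
    obtain ⟨l', hl', hlb⟩ := (hg b).2
    rw [hab'] at hla
    obtain ⟨j, hj, hjd⟩ : ∃ j < n, (rep' b.1).comp φ.symm.toMonoidHom =
        ((rep' a.1).comp φ.symm.toMonoidHom).comp (S.actHom j) := by
      refine ⟨(l' + (n - l)) % n, Nat.mod_lt _ S.n_pos, MonoidHom.ext fun w => ?_⟩
      rw [hla, hlb]
      simp only [MonoidHom.comp_apply, CycData.actHom_apply, ← S.act_add]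
      congr 1
      have hper : ∀ (i : ℕ) (w : P), S.act (n * i) w = w := by
        intro i
        induction i with
        | zero => intro w; rw [mul_zero, S.act_zero]
        | succ i ih => intro w; rw [mul_add, mul_one, S.act_add, S.act_period, ih]
      have hmod : ∀ i, S.act i w = S.act (i % n) w := fun i => by
        conv_lhs => rw [← Nat.mod_add_div i n, S.act_add, hper]
      rw [hmod (l + (l' + (n - l)) % n), hmod l', Nat.add_mod_mod,
        show l + (l' + (n - l)) = l' + n by omega, Nat.add_mod_right]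
    obtain ⟨k, hk, rfl⟩ := hσb.surjOn (mem_coe.2 (mem_range.2 hj))
    have hk' : k < n := mem_range.1 hk
    have h1 : rep' b.1 = (rep' a.1).comp (S'.actHom k) := MonoidHom.ext fun w => by
      have h2 := DFunLike.congr_fun hjd (φ w)
      simp only [MonoidHom.comp_apply, MulEquiv.coe_toMonoidHom, φ.symm_apply_apply,
        CycData.actHom_apply] at h2
      rw [h2, ← hσw k hk' w, φ.symm_apply_apply]
      rfl
    refine Subtype.ext ((T'.orbit _ (T'.val_Y b.1 (mem_compl.1 b.2)).1).unique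
      ⟨mem_compl.1 a.2, k, hk', h1⟩ ⟨mem_compl.1 b.2, 0, S.n_pos, MonoidHom.ext fun w => ?_⟩)
    show rep' b.1 w = rep' b.1 (S'.act 0 w)
    rw [S'.act_zero]
  let gE : {η // η ∈ X'ᶜ} ≃ {z // z ∈ Xᶜ} := Equiv.ofBijective g'
    ((Fintype.bijective_iff_injective_and_card g').2 ⟨hinj, by
      rw [Fintype.card_coe, Fintype.card_coe, hYcard]⟩)
  let fE : {η // η ∈ X'} ≃ {z // z ∈ X} := Fintype.equivOfCardEq (by
    rw [Fintype.card_coe, Fintype.card_coe, T.card_X, T'.card_X])
  let e : B' ≃ B := ((Equiv.sumCompl (· ∈ X')).symm.trans (Equiv.sumCongr fE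
    (((Equiv.subtypeEquivRight fun η => (mem_compl (a := η) (s := X')).symm).trans gE).trans
      (Equiv.subtypeEquivRight fun z => mem_compl (a := z) (s := X))))).trans (Equiv.sumCompl (· ∈ X))
  have heX : ∀ (η : B') (h : η ∈ X'), e η = (fE ⟨η, h⟩).1 := fun η h => by
    simp [e, Equiv.sumCompl_symm_apply_of_pos h]
  have heY : ∀ (η : B') (h : η ∉ X'), e η = g ⟨η, mem_compl.2 h⟩ := fun η h => by
    simp [e, gE, g', Equiv.sumCompl_symm_apply_of_neg h]
    rfl
  refine ⟨e, fun η => ⟨fun h => heX η h ▸ (fE ⟨η, h⟩).2, fun h => ?_⟩, fun η hη v => ?_⟩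
  · by_contra hη
    rw [heY η hη] at h
    exact (hg _).1 h
  · obtain ⟨l, hl, hle⟩ := (hg ⟨η, mem_compl.2 hη⟩).2
    rw [heY η hη, Tree.orbSum, Tree.orbSum,
      ← S.sum_shift (fun w : P => (rep (g ⟨η, mem_compl.2 hη⟩) w : ℂ)) (φ v) l]
    simp only [S.act_add]
    refine sum_bij' (fun k _ => σ k)
      (fun j hj => (hσb.surjOn (mem_coe.2 hj)).choose)
      (fun k hk => mem_range.2 (hσ k (mem_range.1 hk)))
      (fun j hj => (hσb.surjOn (mem_coe.2 hj)).choose_spec.1)
      (fun k hk => hσb.injOn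
        (hσb.surjOn (mem_coe.2 (mem_range.2 (hσ k (mem_range.1 hk))))).choose_spec.1 hk
        (hσb.surjOn (mem_coe.2 (mem_range.2 (hσ k (mem_range.1 hk))))).choose_spec.2)
      (fun j hj => (hσb.surjOn (mem_coe.2 hj)).choose_spec.2) (fun k hk => ?_)
    have h3 := DFunLike.congr_fun hle (φ (S'.act k v))
    simp only [MonoidHom.comp_apply, MulEquiv.coe_toMonoidHom, φ.symm_apply_apply,
      CycData.actHom_apply] at h3
    rw [h3, hσw k (mem_range.1 hk) v]

/-- On every subsection of the block the values are multiples of those of one member. -/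
theorem pair_val (S : CycData (M := M) p B P c t n) (V : CycVals (M := M) p P c t m)
    (T : Tree S m X δ δ₀ rep) {x₁ : B} (hx₁ : x₁ ∈ X) {u s : G} (h : PElt p u s) (hu : u ≠ 1)
    {f : MonoidAlgebra (Residue M) G} (hf : IsPairOf p (idem M B) (Z[u], f)) :
    ∃ w : P, w ≠ 1 ∧ ∀ χ : IrrCharacter G,
      val χ u s f = aval (m χ) w * (-(δ x₁ : ℂ) * val x₁.1 u s f) := by
  have hM := S.hM
  obtain ⟨a, ha⟩ := exists_conj_ple_max (isBlk_idem hM S.hB) S.maxPair hf
  rw [cjPair_zpowers] at ha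
  set w : P := ⟨a * u * a⁻¹, PLE.le ha (Subgroup.mem_zpowers _)⟩
  have hw : w ≠ 1 := fun h0 => hu (conj_eq_one_iff.1 (congrArg Subtype.val h0))
  have hsub : cj (Residue M) a f = subBlk p P (idemIn M C[P] c) (w : G) :=
    ple_unique S.pair ha (subBlk_ple S.pair w.2)
  have hfix : FixBy (Z[u] ⊔ Z[s]) f := hf.1.2.fixBy.mono (sup_le_cz h)
  refine ⟨w, hw, fun χ => ?_⟩
  have h1 := val_conj hM χ h a hf.1.2.idem hfix
  have h2 := val_conj hM x₁.1 h a hf.1.2.idem hfix
  rw [hsub] at h1 h2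
  have hδ : (δ x₁ : ℂ) * δ x₁ = 1 := by rcases T.sign x₁ hx₁ with e | e <;> simp [e]
  have h3 := val_prop V χ x₁.1 hw (κ := -(δ x₁ : ℂ) * aval (m χ) w)
    (by rw [T.val_X x₁ hx₁ w hw]; linear_combination -(aval (m χ) w) * hδ) (h.conj a)
  rw [← h1, ← h2]
  show val χ (w : G) _ _ = _
  rw [h3]
  ring

/-- **Perfect isometries between blocks with cyclic defect groups of the same order and the same
inertial index.** -/
theorem exists_perfect_isometry (V : CycVals (M := M) p P c t m)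
    (V' : CycVals (M := M) p P' c' t' m') (T : Tree S m X δ δ₀ rep)
    (T' : Tree S' m' X' δ' δ₀' rep') (φ : P' ≃* P) :
    ∃ (e : B' ≃ B) (I : IrrCharacter H → IrrCharacter G) (ε : IrrCharacter H → ℤ),
      (∀ η, η ∈ X' ↔ e η ∈ X) ∧
      (∀ η : B', I η.1 = (e η).1 ∧ ε η.1 = isoSign X' δ δ' δ₀ δ₀' e η) ∧
      IsPerfectIsometry p M B' B I ε := by
  have hM := S.hM
  obtain ⟨e, hX, hO⟩ := exists_equiv T T' φ
  obtain ⟨x₁, hx₁⟩ := card_pos.1 (T.card_X ▸ S.n_pos : 0 < X.card)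
  obtain ⟨x₁', hx₁'⟩ := card_pos.1 (T'.card_X ▸ S.n_pos : 0 < X'.card)
  set sg := isoSign X' δ δ' δ₀ δ₀' e with hsg
  let I : IrrCharacter H → IrrCharacter G := fun η => if h : η ∈ B' then (e ⟨η, h⟩).1 else x₁.1
  let ε : IrrCharacter H → ℤ := fun η => if h : η ∈ B' then sg ⟨η, h⟩ else 1
  have hIε : ∀ η : B', I η.1 = (e η).1 ∧ ε η.1 = sg η := fun η => ⟨dif_pos η.2, dif_pos η.2⟩
  have hsgR : ∀ η, MemLocalRing M ((sg η : ℤ) : ℂ) := fun η => intCast_mem (localRing M) (sg η)
  refine ⟨e, I, ε, hX, hIε, ⟨fun η hη => ?_, ?_, fun χ hχ => ?_⟩, fun η hη => ?_, fun x y => ?_⟩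
  · rw [(hIε ⟨η, hη⟩).1]; exact (e _).2
  · intro a ha b hb hab
    rw [(hIε ⟨a, ha⟩).1, (hIε ⟨b, hb⟩).1] at hab
    exact congrArg Subtype.val (e.injective (Subtype.ext hab))
  · refine ⟨(e.symm ⟨χ, hχ⟩).1, (e.symm ⟨χ, hχ⟩).2, ?_⟩
    rw [(hIε _).1, e.apply_symm_apply]
  · rw [(hIε ⟨η, hη⟩).2, hsg, isoSign]
    split_ifs with h
    · rcases T.sign _ ((hX _).1 h) with e1 | e1 <;> rcases T'.sign _ h with e2 | e2 <;>
        rw [e1, e2] <;> norm_num
    · rcases T.sign₀ with e1 | e1 <;> rcases T'.sign₀ with e2 | e2 <;>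
        rw [e1, e2] <;> norm_num
  -- the two-variable function
  have hμ : signedBijectionKernel B' I ε x y = ∑ η : B', (sg η : ℂ) *
      ((e η : IrrCharacter G) : G → ℂ) x * ((η : IrrCharacter H) : H → ℂ) y := by
    rw [signedBijectionKernel, finsum_mem_eq_toFinset_sum,
      sum_subtype (B'.toFinset) (p := (· ∈ B')) (fun η => Set.mem_toFinset)
        (fun η : IrrCharacter H => (ε η : ℂ) * (I η : G → ℂ) x * (η : H → ℂ) y)]
    exact sum_congr rfl fun η _ => by rw [(hIε η).1, (hIε η).2]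
  set μ := signedBijectionKernel B' I ε x y
  set co : B → ℂ := fun χ => (sg (e.symm χ) : ℂ) * ((e.symm χ : IrrCharacter H) : H → ℂ) y
  set co' : B' → ℂ := fun η => (sg η : ℂ) * ((e η : IrrCharacter G) : G → ℂ) x
  have hμ1 : μ = ∑ χ : B, co χ * ((χ : IrrCharacter G) : G → ℂ) x := by
    rw [hμ, ← e.sum_comp]
    refine sum_congr rfl fun η _ => ?_
    simp only [co, e.symm_apply_apply]
    ring
  have hμ2 : μ = ∑ η : B', co' η * ((η : IrrCharacter H) : H → ℂ) y := hμ
  have hkill1 : ¬ p ∣ orderOf y → ∀ u : P, u ≠ 1 → ∑ χ : B, co χ * aval (m χ.1) u = 0 := by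
    intro hy u hu
    rw [← e.sum_comp]
    simp only [co, e.symm_apply_apply]
    exact killed_regular V' T T' e hX hy hu
  have hkill2 : ¬ p ∣ orderOf x → ∀ v : P', v ≠ 1 → ∑ η : B', co' η * aval (m' η.1) v = 0 := by
    intro hx v hv
    have h := killed_regular (S := S') (S' := S) V T' T e.symm (fun χ => by
      rw [hX (e.symm χ), e.apply_symm_apply]) hx hv
    rw [← e.sum_comp] at h
    simp only [e.symm_apply_apply, isoSign_symm e hX] at h
    exact h
  by_cases hx : p ∣ orderOf x <;> by_cases hy : p ∣ orderOf y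
  · -- both singular
    obtain ⟨u, s, hus, rfl⟩ := exists_pElt p x
    obtain ⟨v, s', hvs, rfl⟩ := exists_pElt p y
    have hu : u ≠ 1 := fun h => hus.reg (by rwa [h, one_mul] at hx)
    have hv : v ≠ 1 := fun h => hvs.reg (by rwa [h, one_mul] at hy)
    set F := (blks M u).filter fun f => IsPairOf p (idem M B) (Z[u], f)
    set F' := (blks M v).filter fun f => IsPairOf p (idem M B') (Z[v], f)
    have hxe : ∀ χ : B, ((χ : IrrCharacter G) : G → ℂ) (u * s) = ∑ f ∈ F, val χ.1 u s f := by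
      intro χ
      rw [← wsum_const_one (M := M) hM χ.1 hus, wsum, sum_filter]
      refine sum_congr rfl fun f hf => ?_
      split_ifs with hp
      · rw [br_one, one_mul, one_mul]
      · rw [br_one, one_mul, one_mul, val_eq_zero_of_not_pair hM S.hB χ.2 hus (mem_blks.1 hf) hp]
    have hye : ∀ η : B', ((η : IrrCharacter H) : H → ℂ) (v * s') = ∑ f ∈ F', val η.1 v s' f := by
      intro η
      rw [← wsum_const_one (M := M) hM η.1 hvs, wsum, sum_filter]
      refine sum_congr rfl fun f hf => ?_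
      split_ifs with hp
      · rw [br_one, one_mul, one_mul]
      · rw [br_one, one_mul, one_mul, val_eq_zero_of_not_pair hM S'.hB η.2 hvs (mem_blks.1 hf) hp]
    have hterm : ∀ f ∈ F, ∀ f' ∈ F', ∃ k : ℕ,
        ∑ η : B', (sg η : ℂ) * val (e η).1 u s f * val η.1 v s' f' =
          (Nat.card P : ℂ) * k * ((δ x₁ : ℂ) * δ' x₁' * (val x₁.1 u s f * val x₁'.1 v s' f')) := by
      intro f hf f' hf'
      obtain ⟨w, hw, hwv⟩ := pair_val S V T hx₁ hus hu (mem_filter.1 hf).2
      obtain ⟨w', hw', hwv'⟩ := pair_val S' V' T' hx₁' hvs hv (mem_filter.1 hf').2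
      obtain ⟨k, hk⟩ := singular_bracket T T' φ e hX hO hw hw'
      refine ⟨k, ?_⟩
      rw [← hk, sum_mul]
      refine sum_congr rfl fun η _ => ?_
      rw [hwv (e η).1, hwv' η.1]
      ring
    choose! k hk using hterm
    have hμ3 : μ = ∑ f ∈ F, ∑ f' ∈ F',
        (Nat.card P : ℂ) * (k f f' : ℂ) * ((δ x₁ : ℂ) * δ' x₁' * (val x₁.1 u s f * val x₁'.1 v s' f')) := by
      rw [sum_congr rfl fun f hf => sum_congr rfl fun f' hf' => (hk f hf f' hf').symm, hμ]
      simp only [hxe, hye, mul_sum, sum_mul]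
      rw [sum_comm]
      rw [sum_congr rfl fun f' _ => sum_comm]
      rw [sum_comm]
    refine ⟨?_, ?_, Or.inl ⟨fun h => absurd hx h, fun h => absurd hy h⟩⟩
    · rw [hμ3, sum_div]
      refine memLocalRing_sum fun f hf => ?_
      rw [sum_div]
      refine memLocalRing_sum fun f' hf' => ?_
      have h1 := (scaled_val_dvd hM S x₁.1 hus (mem_filter.1 hf).2).1
      have h2 := (scaled_val_dvd hM S' x₁'.1 hvs (mem_filter.1 hf').2).2
      convert memLocalRing_mul (memLocalRing_mul (natCast_mem_localRing (M := M) (k f f'))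
        (memLocalRing_mul (intCast_mem (localRing M) (δ x₁)) (intCast_mem (localRing M) (δ' x₁'))))
        (memLocalRing_mul h1 h2) using 1
      ring
    · rw [hμ3, sum_div]
      refine memLocalRing_sum fun f hf => ?_
      rw [sum_div]
      refine memLocalRing_sum fun f' hf' => ?_
      have h1 := (scaled_val_dvd hM S' x₁'.1 hvs (mem_filter.1 hf').2).1
      have h2 := (scaled_val_dvd hM S x₁.1 hus (mem_filter.1 hf).2).2
      rw [Nat.card_congr φ.toEquiv] at h1
      convert memLocalRing_mul (memLocalRing_mul (natCast_mem_localRing (M := M) (k f f'))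
        (memLocalRing_mul (intCast_mem (localRing M) (δ x₁)) (intCast_mem (localRing M) (δ' x₁'))))
        (memLocalRing_mul h1 h2) using 1
      ring
  · -- first singular
    have h0 : μ = 0 := by rw [hμ1]; exact V.vanish S co (hkill1 hy) hx
    exact ⟨by rw [h0, zero_div]; exact memLocalRing_zero, by rw [h0, zero_div]; exact memLocalRing_zero,
      Or.inr h0⟩
  · -- second singular
    have h0 : μ = 0 := by rw [hμ2]; exact V'.vanish S' co' (hkill2 hx) hy
    exact ⟨by rw [h0, zero_div]; exact memLocalRing_zero, by rw [h0, zero_div]; exact memLocalRing_zero,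
      Or.inr h0⟩
  · -- both regular
    refine ⟨?_, ?_, Or.inl ⟨fun _ => hy, fun _ => hx⟩⟩
    · rw [hμ1]
      exact div_centralizer_of_killed hM S V co
        (fun χ => memLocalRing_mul (hsgR _) (irr_mem _ y)) (hkill1 hy) hx
    · rw [hμ2]
      exact div_centralizer_of_killed hM S' V' co'
        (fun η => memLocalRing_mul (hsgR _) (irr_mem _ x)) (hkill2 hx) hy

end CfsgLib.Cyclic
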