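import Cfsg.Agent.BlocksB.Cyclic.Start
import Cfsg.Agent.BlocksB.Cyclic.Counting

/-!
# Uniqueness of local eigenvalues in a simple module and the lower bound for the rank of a block
-/

set_option autoImplicit false
set_option linter.style.haveILetI false
set_option linter.unusedSectionVars false

namespace CfsgLib.Cyclic

open Module MonoidAlgebra Finset CfsgLib.BrauerPairs
open scoped Classical

universe u v w

variable {k : Type v} [Field k] {G : Type u} [Group G] [Fintype G]

local notation "C[" Q "]" => Subgroup.centralizer (SetLike.coe Q)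

theorem induction_single {H : Subgroup G} {P : MonoidAlgebra k G → Prop} (a : MonoidAlgebra k G)
    (ha : SuppIn H a) (h0 : P 0) (hadd : ∀ a b, P a → P b → P (a + b))
    (hs : ∀ (c : k) (g : G), g ∈ H → P (c • single g 1)) : P a := by
  have h : a = ∑ g ∈ univ.filter (· ∈ H), a.coeff g • single g (1 : k) := by
    refine coeff_ext fun g => ?_
    rw [coeff_sum, Finsupp.finsetSum_apply, sum_eq_single g]
    · simp
    · intro h _ hne; simp [hne]
    · intro hg; simp only [mem_filter, mem_univ, true_and] at hg; simp [ha g hg]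
  rw [h]
  exact Finset.sum_induction _ P hadd h0 fun g hg => hs _ _ (mem_filter.1 hg).2

theorem suppIn_cj_normalizer {Z : Subgroup G} {a : MonoidAlgebra k G} (ha : SuppIn C[Z] a) {t : G}
    (ht : t ∈ Subgroup.normalizer (Z : Set G)) : SuppIn C[Z] (cj k t a) := by
  have := ha.cj t
  rwa [map_conj_eq_self (map_normalizer_centralizer ht)] at this

variable {S : Type w} [AddCommGroup S] [Module k S] [Module (MonoidAlgebra k G) S]
  [IsScalarTower k (MonoidAlgebra k G) S]

theorem single_inv_smul_smul (g : G) (y : S) :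
    single g⁻¹ (1 : k) • single g (1 : k) • y = y := by
  rw [← mul_smul, single_mul_single, inv_mul_cancel, one_mul, ← one_def, one_smul]

theorem single_smul_inv_smul (g : G) (y : S) :
    single g (1 : k) • single g⁻¹ (1 : k) • y = y := by
  rw [← mul_smul, single_mul_single, mul_inv_cancel, one_mul, ← one_def, one_smul]

theorem single_mul_smul (g g' : G) (y : S) :
    single (g * g') (1 : k) • y = single g (1 : k) • single g' (1 : k) • y := by
  rw [← mul_smul, single_mul_single, one_mul]

theorem exists_smul_of_ne_zero' {R W : Type*} [Ring R] [AddCommGroup W] [Module R W]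
    [IsSimpleModule R W] {v : W} (hv : v ≠ 0) (w : W) : ∃ a : R, a • v = w :=
  IsSimpleModule.toSpanSingleton_surjective R hv w

namespace LocalData

variable {b f i x : MonoidAlgebra k G} {Z : Subgroup G} {m : ℕ} (L : LocalData b f i x Z m)
include L

theorem i_f : i * f = i := by rw [← (L.f_central i L.i_supp).eq, L.f_i]

/-- A map on the corner extends uniquely to a local endomorphism. -/
theorem exists_ext {t : G} (htN : t ∈ Subgroup.normalizer (Z : Set G)) (htf : cj k t f = f)
    (hti : cj k t i = i) (π : End k S)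
    (hπi : ∀ y, π (i • y) = π y) (hiπ : ∀ y, i • π y = π y) (hπx : ∀ y, π (x • y) = x • π y)
    (hπt : ∀ y, π (single t (1 : k) • y) = single t (1 : k) • π y) :
    ∃ h : End k S, (∀ c : MonoidAlgebra k G, SuppIn C[Z] c → ∀ y, h (c • y) = c • h y) ∧
      (∀ y, h (single t (1 : k) • y) = single t (1 : k) • h y) ∧ ∀ y, h (i • y) = π y := by
  obtain ⟨n, a, c, ha, hc, hsum⟩ := L.gen
  let h : End k S := ∑ j, (act k S (a j)).comp (π.comp (act k S (c j)))
  have hdef : ∀ y, h y = ∑ j, a j • π (c j • y) := fun y => by simp [h, LinearMap.sum_apply]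
  have hpoly : ∀ (P : Polynomial k) (y : S),
      π (Polynomial.aeval x P • y) = Polynomial.aeval x P • π y := fun P => by
    induction P using Polynomial.induction_on' with
    | add P Q hP hQ => intro y; rw [map_add, add_smul, map_add, hP, hQ, add_smul]
    | monomial d r =>
      intro y
      have hpw : ∀ d : ℕ, π (x ^ d • y) = x ^ d • π y := fun d => by
        induction d with
        | zero => simp
        | succ d ih => rw [pow_succ', mul_smul, hπx, ih, mul_smul]
      rw [Polynomial.aeval_monomial, ← Algebra.smul_def, smul_assoc, map_smul, hpw, smul_assoc]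
  have hfh : ∀ y, f • h y = h y := fun y => by
    rw [hdef, smul_sum]
    refine sum_congr rfl fun j _ => ?_
    rw [← mul_smul, (L.f_central _ (ha j)).eq, mul_smul]
    conv_lhs => rw [← hiπ, ← mul_smul f, L.f_i, hiπ]
  have hmain : ∀ d : MonoidAlgebra k G, SuppIn C[Z] d → ∀ y, h (d • y) = d • h y := by
    intro d hd y
    have hrhs : d • h y = ∑ j, ∑ l, (a j * i * (c j * d * a l) * i) • π (c l • y) := by
      conv_lhs => rw [← hfh, ← mul_smul, ← (L.f_central d hd).eq, hdef, ← hsum]
      rw [smul_sum, sum_comm]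
      refine sum_congr rfl fun l _ => ?_
      rw [sum_mul, ← mul_smul, sum_mul, sum_smul]
      refine sum_congr rfl fun j _ => ?_
      conv_lhs => rw [← hiπ, ← mul_smul]
      simp only [mul_assoc]
    rw [hrhs, hdef]
    refine sum_congr rfl fun j _ => ?_
    have h1 : ∀ l, ∃ P : Polynomial k, i * (c j * d * a l) * i = Polynomial.aeval x P * i :=
      fun l => L.corner _ (suppIn_mul (suppIn_mul (hc j) hd) (ha l))
    choose P hP using h1
    have h2 : i * (c j * d) = ∑ l, (Polynomial.aeval x (P l) * i) * c l := by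
      conv_lhs => rw [← L.i_f, mul_assoc, (L.f_central _ (suppIn_mul (hc j) hd)).eq, ← hsum,
        mul_sum, mul_sum]
      refine sum_congr rfl fun l _ => ?_
      rw [← hP]
      simp only [mul_assoc]
    rw [← hπi, ← mul_smul (c j), ← mul_smul i, h2, sum_smul, map_sum, smul_sum]
    refine sum_congr rfl fun l _ => ?_
    rw [mul_smul, mul_smul, hpoly, hπi, mul_assoc (a j) i, mul_assoc (a j), hP, mul_smul (a j),
      mul_smul (Polynomial.aeval x (P l)), hiπ]
  have hhi : ∀ y, h (i • y) = π y := fun y => by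
    rw [hdef]
    have h1 : ∀ j, π (c j • i • y) = (i * c j * i) • π y := fun j => by
      obtain ⟨P, hP⟩ := L.corner _ (hc j)
      rw [← hπi, ← mul_smul, ← mul_smul, hP, mul_smul, hpoly, hπi, mul_smul, hiπ]
    simp only [h1]
    simp only [← mul_smul]
    rw [← sum_smul, show ∑ j, a j * (i * c j * i) = f * i by
      rw [← hsum, sum_mul]; simp only [mul_assoc], L.f_i, hiπ]
  refine ⟨h, hmain, fun y => ?_, hhi⟩
  conv_lhs => rw [← hfh, ← hmain f L.f_supp, ← htf, ← hsum, map_sum, sum_smul, map_sum]
  rw [hdef, smul_sum]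
  refine sum_congr rfl fun j _ => ?_
  rw [map_mul, map_mul, hti, mul_smul, mul_smul,
    hmain _ (suppIn_cj_normalizer (ha j) htN), hhi, ← single_smul_cj, hπt, ← single_smul_cj]

/-- The relative trace to `C[Z]` of a map supported on free orbits lies in the top of `x`. -/
theorem trace_mem [FiniteDimensional k S] [Fintype (C[Z] : Subgroup G)] (ψ : End k S) {v : S}
    (hfv : f • v = v) (hxv : x • v = 0) :
    ∃ s : S, ∑ g : (C[Z] : Subgroup G), single (g : G) (1 : k) • ψ (single (g : G)⁻¹ (1 : k) • v) =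
      x ^ (m - 1) • s := by
  let bb := Module.finBasis k S
  let η : Fin (finrank k S) → S → MonoidAlgebra k G := fun r y => ∑ g : (C[Z] : Subgroup G),
    bb.coord r (ψ (single (g : G)⁻¹ (1 : k) • y)) • single (g : G) (1 : k)
  have hη : ∀ r y, SuppIn C[Z] (η r y) := fun r y h hh => by
    simp only [η, coeff_sum, Finsupp.finsetSum_apply]
    refine sum_eq_zero fun g _ => ?_
    rw [coeff_smul_apply, suppIn_single g.2 _ h hh, smul_zero]
  have hadd : ∀ r y z, η r (y + z) = η r y + η r z := fun r y z => by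
    simp only [η, smul_add, map_add, add_smul, sum_add_distrib]
  have hsmul : ∀ r (c : k) y, η r (c • y) = c • η r y := fun r c y => by
    simp only [η, smul_sum]
    refine sum_congr rfl fun g _ => ?_
    rw [smul_comm (single (g : G)⁻¹ (1 : k)) c, map_smul, map_smul, smul_eq_mul, mul_smul]
  have hequiv : ∀ r a, SuppIn C[Z] a → ∀ y, a * η r y = η r (a • y) := fun r a ha => by
    refine induction_single (P := fun a => ∀ y, a * η r y = η r (a • y)) a ha
      (fun y => by simp [η]) (fun a b h1 h2 y => by rw [add_mul, h1, h2, add_smul, hadd])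
      fun c g hg y => ?_
    rw [smul_mul_assoc, smul_assoc, hsmul]
    congr 1
    simp only [η, mul_sum, mul_smul_comm, single_mul_single, one_mul]
    refine (Fintype.sum_equiv (Equiv.mulLeft (⟨g, hg⟩ : (C[Z] : Subgroup G))) _ _ fun g' => ?_)
    simp only [Equiv.coe_mulLeft, Subgroup.coe_mul]
    rw [mul_inv_rev, single_mul_smul, single_inv_smul_smul]
  have hker : ∀ r, ∃ z, η r v = x ^ (m - 1) * z := fun r => by
    refine L.ker _ (hη r v) ?_ ?_
    · rw [hequiv r x L.x_supp, hxv]
      simp [η]
    · rw [hequiv r f L.f_supp, hfv, ← (L.f_central _ (hη r v)).eq, hequiv r f L.f_supp, hfv]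
  choose z hz using hker
  refine ⟨∑ r, z r • bb r, ?_⟩
  rw [smul_sum]
  simp only [← mul_smul, ← hz, η, sum_smul]
  rw [sum_comm]
  refine sum_congr rfl fun g _ => ?_
  conv_lhs => rw [← bb.sum_repr (ψ (single (g : G)⁻¹ (1 : k) • v)), smul_sum]
  refine sum_congr rfl fun r _ => ?_
  rw [smul_assoc, smul_comm]
  rfl

variable [IsAlgClosed k] [FiniteDimensional k S] [IsSimpleModule (MonoidAlgebra k G) S]

/-- **A simple module carries at most one local eigenvalue.** -/
theorem eigen_unique {t : G} {ζ : k} {n o : ℕ} (htN : t ∈ Subgroup.normalizer (Z : Set G))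
    (htf : cj k t f = f) (hti : cj k t i = i) (htx : cj k t x = ζ • x) (hζ : ζ ≠ 0)
    (ho : (o : k) ≠ 0) (hto : t ^ o = 1)
    (hn : (n : k) ≠ 0) (htn : t ^ n ∈ C[Z]) (hlt : ∀ l, 0 < l → l < n → t ^ l ∉ C[Z])
    (hstab : ∀ g ∈ Subgroup.normalizer (Z : Set G), cj k g f * f ≠ 0 →
      ∃ l : ℕ, ∃ c ∈ C[Z], g = t ^ l * c)
    {D : Subgroup G} (hDC : D ≤ C[Z])
    (hDZ : ∀ d ∈ D, d ≠ 1 → Z ≤ Subgroup.zpowers d) (hZD : Z ≤ D) {w : MonoidAlgebra k G}
    (hw : SuppIn C[Z] w) (hwD : FixBy D w) (htr : tr D C[Z] w = f)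
    {α β : k} {v v' : S} (hv : IsVec i x t α m S v) (hv' : IsVec i x t β m S v') : α = β := by
  by_contra hαβ
  haveI := Fintype.ofFinite (C[Z] : Subgroup G)
  haveI := Fintype.ofFinite D
  haveI : Fintype (G ⧸ D) := Fintype.ofFinite _
  haveI : Fintype ((C[Z] : Subgroup G) ⧸ D.subgroupOf C[Z]) := Fintype.ofFinite _
  -- the separating map on the corner
  let V : Submodule k S := LinearMap.range (act k S i)
  have hVi : ∀ u : V, i • (u : S) = u := fun ⟨_, y, hy⟩ => by
    subst hy
    show i • i • y = i • y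
    rw [← mul_smul, L.i_idem]
  have hxV : ∀ u ∈ V, act k S x u ∈ V := fun u ⟨y, hy⟩ => ⟨x • y, by
    subst hy
    show i • x • y = x • i • y
    rw [← mul_smul, ← mul_smul, L.xi.eq]⟩
  have htV : ∀ u ∈ V, act k S (single t (1 : k)) u ∈ V := fun u ⟨y, hy⟩ => ⟨single t (1 : k) • y, by
    subst hy
    show i • single t (1 : k) • y = single t (1 : k) • i • y
    rw [single_smul_cj, hti]⟩
  let N : End k V := (act k S x).restrict hxV
  let τ : End k V := (act k S (single t (1 : k))).restrict htV
  have hNj : ∀ (j : ℕ) (u : V), (((N ^ j) u : V) : S) = x ^ j • (u : S) := fun j => by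
    induction j with
    | zero => simp
    | succ j ih =>
      intro u
      rw [pow_succ', Module.End.mul_apply, pow_succ', mul_smul, ← ih]
      rfl
  have hτj : ∀ (j : ℕ) (u : V), (((τ ^ j) u : V) : S) = single (t ^ j) (1 : k) • (u : S) := fun j => by
    induction j with
    | zero => simp [← one_def]
    | succ j ih =>
      intro u
      rw [pow_succ', Module.End.mul_apply, pow_succ', single_mul_smul, ← ih]
      rfl
  have hNm : N ^ m = 0 := LinearMap.ext fun u => Subtype.ext (by
    rw [hNj, L.x_pow, zero_smul]; rfl)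
  have hτo : τ ^ o = 1 := LinearMap.ext fun u => Subtype.ext (by
    rw [hτj, hto, ← one_def, one_smul]; rfl)
  have hτN : τ * N = ζ • (N * τ) := LinearMap.ext fun u => Subtype.ext (by
    show single t (1 : k) • x • (u : S) = ζ • x • single t (1 : k) • (u : S)
    rw [single_smul_cj, htx, smul_assoc])
  have hindep : ∀ a b : k, a • (⟨v, v, hv.1⟩ : V) + b • (⟨v', v', hv'.1⟩ : V) ∈
      LinearMap.range (N ^ (m - 1)) → a = 0 ∧ b = 0 := by
    intro a b ⟨u, hu⟩
    have h1 : x ^ (m - 1) • (u : S) = a • v + b • v' := by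
      rw [← hNj, hu]; rfl
    have h2 : single t (1 : k) • x ^ (m - 1) • (u : S) =
        x ^ (m - 1) • (ζ ^ (m - 1) • single t (1 : k) • (u : S)) := by
      rw [single_smul_cj, map_pow, htx, smul_pow, smul_assoc, smul_comm]
    rw [h1, smul_add, smul_comm, hv.2.2.1, smul_comm (single t (1 : k)) b, hv'.2.2.1, smul_smul,
      smul_smul] at h2
    constructor
    · by_contra ha
      have h3 : x ^ (m - 1) • (ζ ^ (m - 1) • single t (1 : k) • (u : S) - β • (u : S)) =
          (a * (α - β)) • v := by
        rw [smul_sub, ← h2, smul_comm (x ^ (m - 1)) β, h1, smul_add, smul_smul, smul_smul,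
          mul_comm b β, add_sub_add_right_eq_sub, ← sub_smul, mul_sub, mul_comm a β]
      refine hv.2.2.2 ((a * (α - β))⁻¹ •
        (ζ ^ (m - 1) • single t (1 : k) • (u : S) - β • (u : S))) ?_
      rw [smul_comm, h3, inv_smul_smul₀ (mul_ne_zero ha (sub_ne_zero.2 hαβ))]
    · by_contra hb
      have h3 : x ^ (m - 1) • (ζ ^ (m - 1) • single t (1 : k) • (u : S) - α • (u : S)) =
          (b * (β - α)) • v' := by
        rw [smul_sub, ← h2, smul_comm (x ^ (m - 1)) α, h1, smul_add, smul_smul, smul_smul,
          mul_comm a α, add_sub_add_left_eq_sub, ← sub_smul, mul_sub, mul_comm b α]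
      refine hv'.2.2.2 ((b * (β - α))⁻¹ •
        (ζ ^ (m - 1) • single t (1 : k) • (u : S) - α • (u : S))) ?_
      rw [smul_comm, h3, inv_smul_smul₀ (mul_ne_zero hb (sub_ne_zero.2 (Ne.symm hαβ)))]
  obtain ⟨π0, hπN, hπτ, hπ⟩ := exists_separating_idem (m := m) (lt_trans one_pos L.one_lt) ho hζ _
    V rfl N τ hNm hτo hτN ⟨v, v, hv.1⟩ ⟨v', v', hv'.1⟩ (Subtype.ext hv.2.1) (Subtype.ext hv'.2.1)
    hindep
  let Pi : S →ₗ[k] V := (act k S i).rangeRestrict
  let π : End k S := V.subtype.comp (π0.comp Pi)
  have hPi : ∀ y, Pi (i • y) = Pi y := fun y => Subtype.ext (by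
    show i • i • y = i • y
    rw [← mul_smul, L.i_idem])
  obtain ⟨h, hhC, hht, hhi⟩ := L.exists_ext htN htf hti π
    (fun y => congrArg (fun u => ((π0 u : V) : S)) (hPi y))
    (fun y => hVi _)
    (fun y => by
      show ((π0 (Pi (x • y)) : V) : S) = x • ((π0 (Pi y) : V) : S)
      rw [show Pi (x • y) = N (Pi y) from Subtype.ext (by
        show i • x • y = x • i • y
        rw [← mul_smul, ← mul_smul, L.xi.eq])]
      exact congrArg Subtype.val (LinearMap.congr_fun hπN.eq (Pi y)))
    (fun y => by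
      show ((π0 (Pi (single t (1 : k) • y)) : V) : S) = single t (1 : k) • ((π0 (Pi y) : V) : S)
      rw [show Pi (single t (1 : k) • y) = τ (Pi y) from Subtype.ext (by
        show i • single t (1 : k) • y = single t (1 : k) • i • y
        rw [single_smul_cj, hti])]
      exact congrArg Subtype.val (LinearMap.congr_fun hπτ.eq (Pi y)))
  have hhg : ∀ (l : ℕ) (c : G), c ∈ C[Z] → ∀ y,
      h (single (t ^ l * c) (1 : k) • y) = single (t ^ l * c) (1 : k) • h y := fun l c hc => by
    induction l with
    | zero =>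
      intro y
      rw [pow_zero, one_mul]
      exact hhC _ (suppIn_single hc 1) y
    | succ l ih =>
      intro y
      rw [pow_succ', mul_assoc, single_mul_smul, hht, ih, ← single_mul_smul]
  have hfw : FixBy D (f * w) := fun d hd => by
    rw [map_mul, hwD d hd]
    congr 1
    rw [cj_eq_mul, ← (L.f_central _ (suppIn_single (hDC hd) 1)).eq, mul_assoc, single_mul_single,
      mul_inv_cancel, one_mul, ← one_def, mul_one]
  have hfC : FixBy C[Z] f := fun c hc => by
    rw [cj_eq_mul, ← (L.f_central _ (suppIn_single hc 1)).eq, mul_assoc, single_mul_single,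
      mul_inv_cancel, one_mul, ← one_def, mul_one]
  have hfwC : SuppIn C[Z] (f * w) := suppIn_mul L.f_supp hw
  have hfwtr : tr D C[Z] (f * w) = f := by rw [mul_tr hfC, htr, L.f_idem]
  have hffw : f * (f * w) = f * w := by rw [← mul_assoc, L.f_idem]
  set w' := f * w
  -- the conjugates of the local map
  let F : G → End k S := fun g => (act k S (single g (1 : k) * w')).comp
    (h.comp (act k S (single g⁻¹ (1 : k))))
  have hF : ∀ g y, F g y = single g (1 : k) • w' • h (single g⁻¹ (1 : k) • y) := fun g y => by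
    simp [F, mul_smul]
  have hFd : ∀ g, ∀ d ∈ D, F (g * d) = F g := fun g d hd => LinearMap.ext fun y => by
    rw [hF, hF, mul_inv_rev, single_mul_smul g d, single_mul_smul d⁻¹, hhC _
      (suppIn_single ((C[Z]).inv_mem (hDC hd)) 1), single_smul_cj d w', hfw d hd,
      single_smul_inv_smul]
  have hFout : ∀ g : G, F (g : G ⧸ D).out = F g := fun g => by
    obtain ⟨d, hd⟩ := QuotientGroup.mk_out_eq_mul D g
    rw [hd, hFd g d d.2]
  have hFeq : ∀ (g g0 : G) (y : S),
      F g (single g0 (1 : k) • y) = single g0 (1 : k) • F (g0⁻¹ * g) y := fun g g0 y => by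
    rw [hF, hF, mul_inv_rev, inv_inv, single_mul_smul g⁻¹ g0, ← single_mul_smul g0,
      mul_inv_cancel_left]
  let Hm : End k S := ∑ q : G ⧸ D, F q.out
  obtain ⟨lam, hlam⟩ := exists_scalar (k := k) (h := Hm) fun a y => by
    have : ∀ a : MonoidAlgebra k G, SuppIn ⊤ a → ∀ y, Hm (a • y) = a • Hm y := fun a ha => by
      refine induction_single (P := fun a => ∀ y, Hm (a • y) = a • Hm y) a ha (fun y => by simp)
        (fun a b h1 h2 y => by rw [add_smul, map_add, h1, h2, add_smul]) fun c g0 _ y => ?_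
      rw [smul_assoc, map_smul, smul_assoc]
      congr 1
      simp only [Hm, LinearMap.sum_apply, smul_sum, hFeq]
      refine Fintype.sum_equiv (MulAction.toPerm (g0⁻¹)) _ _ fun q => ?_
      rw [MulAction.toPerm_apply]
      congr 1
      refine LinearMap.congr_fun ?_ y
      conv_rhs => rw [← QuotientGroup.out_eq' q, MulAction.Quotient.smul_mk, hFout]
      rfl
    exact this a (suppIn_top a) y
  -- the value on corner vectors killed by `x`
  have hN : ∀ g : G, g ∈ Subgroup.normalizer (Z : Set G) ↔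
      (g : G ⧸ D).out ∈ Subgroup.normalizer (Z : Set G) := fun g => by
    obtain ⟨d, hd⟩ := QuotientGroup.mk_out_eq_mul D g
    rw [hd]
    exact (Subgroup.mul_mem_cancel_right _ (centralizer_le_normalizer Z (hDC d.2))).symm
  have hn0 : 0 < n := Nat.pos_of_ne_zero fun e => hn (by simp [e])
  have hmem : ∀ u : S, i • u = u → x • u = 0 →
      ∃ s, lam • u - (n : k) • π u = x ^ (m - 1) • s := by
    intro u hiu hxu
    have hfu : f • u = u := by rw [← hiu, ← mul_smul, L.f_i]
    have hhu : h u = π u := by rw [← hiu, hhi, hiu]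
    set Q0 : Finset (G ⧸ D) := univ.filter fun q => q.out ∈ Subgroup.normalizer (Z : Set G)
    set Q' : Finset (G ⧸ D) := univ.filter fun q => ¬ q.out ∈ Subgroup.normalizer (Z : Set G)
    have htot : lam • u = (∑ q ∈ Q0, f • F q.out u) + f • ∑ q ∈ Q', F q.out u := by
      conv_lhs => rw [← hfu, smul_comm, ← hlam, LinearMap.sum_apply,
        ← sum_filter_add_sum_filter_not univ fun q => q.out ∈ Subgroup.normalizer (Z : Set G)]
      rw [smul_add, smul_sum]
    -- the inner part
    have hinner : ∑ q ∈ Q0, f • F q.out u = (n : k) • π u := by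
      let ι : Fin n × ((C[Z] : Subgroup G) ⧸ D.subgroupOf C[Z]) → G ⧸ D :=
        fun a => ((t ^ (a.1 : ℕ) * (a.2.out : G) : G) : G ⧸ D)
      have hι : Function.Injective ι := by
        rintro ⟨l, q⟩ ⟨l', q'⟩ he
        have he' := QuotientGroup.eq.1 he
        dsimp only at he'
        have hC : ∀ {a b : ℕ}, a ≤ b → b < n → ∀ c c' : G, c ∈ C[Z] → c' ∈ C[Z] →
            (t ^ a * c)⁻¹ * (t ^ b * c') ∈ C[Z] → a = b := by
          intro a b hab hb c c' hc hc' hd
          by_contra hne
          refine hlt (b - a) (by omega) (by omega) ?_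
          have := (C[Z]).mul_mem ((C[Z]).mul_mem hc hd) ((C[Z]).inv_mem hc')
          rw [show t ^ b = t ^ a * t ^ (b - a) by rw [← pow_add, Nat.add_sub_cancel' hab]] at this
          simpa [mul_assoc, mul_inv_rev] using this
        have hll : (l : ℕ) = l' := by
          rcases le_total (l : ℕ) l' with h' | h'
          · exact hC h' l'.2 _ _ q.out.2 q'.out.2 (hDC he')
          · refine (hC h' l.2 _ _ q'.out.2 q.out.2 ?_).symm
            have := (C[Z]).inv_mem (hDC he')
            simpa [mul_inv_rev, mul_assoc] using this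
        rw [hll] at he'
        refine Prod.ext (Fin.ext hll) ?_
        rw [← QuotientGroup.out_eq' q, ← QuotientGroup.out_eq' q', QuotientGroup.eq,
          Subgroup.mem_subgroupOf]
        simpa [mul_inv_rev, mul_assoc] using he'
      have hterm : ∀ (g : G), (∃ l : ℕ, ∃ c ∈ C[Z], g = t ^ l * c) →
          f • F g u = (f * cj k g w') • h u := fun g ⟨l, c, hc, hg⟩ => by
        rw [hF, single_smul_cj, ← mul_smul, hg, ← hhg l c hc, single_smul_inv_smul]
      rw [← sum_subset (s₁ := univ.map ⟨ι, hι⟩)]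
      · rw [sum_map]
        simp only [Function.Embedding.coeFn_mk, ι, hFout]
        rw [sum_congr rfl fun a _ => hterm _ ⟨_, _, a.2.out.2, rfl⟩, ← sum_smul, ← mul_sum,
          Fintype.sum_prod_type]
        have h4 : ∀ l : Fin n, ∑ q : (C[Z] : Subgroup G) ⧸ D.subgroupOf C[Z],
            cj k (t ^ (l : ℕ) * (q.out : G)) w' = f := fun l => by
          simp only [cj_mul, ← map_sum]
          rw [← tr_apply, hfwtr]
          induction (l : ℕ) with
          | zero => simp
          | succ l ih => rw [pow_succ' t, cj_mul, ih, htf]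
        rw [sum_congr rfl fun l _ => h4 l, sum_const, card_univ, Fintype.card_fin,
          ← Nat.cast_smul_eq_nsmul k, mul_smul_comm, L.f_idem, smul_assoc, hhu]
        congr 1
        rw [show π u = i • π u from (hVi _).symm, ← mul_smul, L.f_i]
      · intro q hq
        obtain ⟨a, -, rfl⟩ := mem_map.1 hq
        refine mem_filter.2 ⟨mem_univ _, (hN _).1 ?_⟩
        exact mul_mem (pow_mem htN _) (centralizer_le_normalizer Z a.2.out.2)
      · intro q hq hq'
        have hqN := (mem_filter.1 hq).2
        rw [hF, ← mul_smul (single q.out (1 : k)), ← mul_smul f]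
        suffices h0 : f * (single q.out (1 : k) * w') = 0 by rw [h0, zero_smul]
        by_contra hne
        have hne' : cj k q.out⁻¹ f * f ≠ 0 := fun h0 => hne (by
          rw [← mul_assoc]
          conv_lhs => arg 1; rw [show f * single q.out (1 : k) =
            single q.out (1 : k) * cj k q.out⁻¹ f by rw [single_mul_cj, cj_cj_inv]]
          rw [mul_assoc, ← hffw, ← mul_assoc (cj k q.out⁻¹ f), h0, zero_mul, mul_zero])
        obtain ⟨l, c, hc, hlc⟩ := hstab _ (inv_mem hqN) hne'
        obtain ⟨j, hj⟩ : ∃ j : ℕ, ∃ c ∈ C[Z], q.out = t ^ j * c := by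
          refine hstab _ hqN fun h0 => hne' ?_
          have h1 := congrArg (cj k q.out⁻¹) h0
          rw [map_mul, cj_inv_cj, map_zero] at h1
          rw [(L.f_central _ (suppIn_cj_normalizer L.f_supp (inv_mem hqN))).eq] at h1
          exact h1
        obtain ⟨c', hc', hj⟩ := hj
        refine hq' (mem_map.2 ⟨(⟨j % n, Nat.mod_lt _ hn0⟩,
          (((⟨(t ^ n) ^ (j / n) * c', (C[Z]).mul_mem (pow_mem htn _) hc'⟩ : (C[Z] : Subgroup G))) :
            (C[Z] : Subgroup G) ⧸ D.subgroupOf C[Z])), mem_univ _, ?_⟩)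
        obtain ⟨d, hd⟩ := QuotientGroup.mk_out_eq_mul (D.subgroupOf C[Z])
          (⟨(t ^ n) ^ (j / n) * c', (C[Z]).mul_mem (pow_mem htn _) hc'⟩ : (C[Z] : Subgroup G))
        conv_rhs => rw [← QuotientGroup.out_eq' q, hj]
        show ((t ^ (j % n) * _ : G) : G ⧸ D) = _
        rw [hd, Subgroup.coe_mul, ← mul_assoc, QuotientGroup.mk_mul_of_mem _
          (Subgroup.mem_subgroupOf.1 d.2), Subgroup.coe_mk, ← mul_assoc, ← pow_mul, ← pow_add,
          Nat.mod_add_div]
    -- the outer part
    have houter : ∃ s, f • ∑ q ∈ Q', F q.out u = x ^ (m - 1) • s := by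
      have hsm : ∀ (d : G), d ∈ Subgroup.normalizer (Z : Set G) → ∀ q : G ⧸ D,
          q ∈ Q' → d • q ∈ Q' := fun d hd q hq => by
        refine mem_filter.2 ⟨mem_univ _, ?_⟩
        conv in d • q => rw [← QuotientGroup.out_eq' q, MulAction.Quotient.smul_mk, smul_eq_mul]
        rw [← hN, Subgroup.mul_mem_cancel_left _ hd]
        exact (mem_filter.1 hq).2
      have hsmF : ∀ (d : G) (q : G ⧸ D) (y : S),
          F (d • q).out y = single d (1 : k) • F q.out (single d⁻¹ (1 : k) • y) := fun d q y => by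
        conv_lhs => rw [← QuotientGroup.out_eq' q, MulAction.Quotient.smul_mk, smul_eq_mul, hFout]
        rw [hFeq, inv_inv, ← single_mul_smul, mul_inv_cancel, ← one_def, one_smul]
      have hfree : ∀ q ∈ Q', ∀ d : D, (d : G) • q = q → d = 1 := by
        intro q hq d hdq
        by_contra hd1
        apply (mem_filter.1 hq).2
        conv at hdq => rw [← QuotientGroup.out_eq' q, MulAction.Quotient.smul_mk, smul_eq_mul]
        have hdD : q.out⁻¹ * (d : G) * q.out ∈ D := by
          have := D.inv_mem (QuotientGroup.eq.1 hdq)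
          simpa [mul_inv_rev, mul_assoc] using this
        set g := q.out
        have hmap : Z.map (MulAut.conj g⁻¹).toMonoidHom ≤ D := by
          rintro _ ⟨z, hz, rfl⟩
          obtain ⟨r, hr⟩ := hDZ d d.2 (fun e => hd1 (Subtype.ext e)) hz
          rw [← hr]
          show g⁻¹ * (d : G) ^ r * g⁻¹⁻¹ ∈ D
          rw [inv_inv, show g⁻¹ * (d : G) ^ r * g = (g⁻¹ * (d : G) * g) ^ r by
            conv_rhs => rw [show g⁻¹ * (d : G) * g = g⁻¹ * (d : G) * g⁻¹⁻¹ by group, conj_zpow,
              inv_inv]]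
          exact D.zpow_mem hdD r
        have hle : Z ≤ Z.map (MulAut.conj g⁻¹).toMonoidHom := by
          by_cases hZ1 : Z = ⊥
          · rw [hZ1]; exact bot_le
          obtain ⟨z, hz, hz1⟩ := (Subgroup.bot_or_exists_ne_one Z).resolve_left hZ1
          refine (hDZ _ (hmap ⟨z, hz, rfl⟩) fun e => hz1 ?_).trans
            (Subgroup.zpowers_le.2 ⟨z, hz, rfl⟩)
          exact (map_eq_one_iff (MulAut.conj g⁻¹).toMonoidHom (MulAut.conj g⁻¹).injective).1 e
        have heq : Z = Z.map (MulAut.conj g⁻¹).toMonoidHom :=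
          Subgroup.eq_of_le_of_card_ge hle
            (Subgroup.card_map_of_injective (MulAut.conj g⁻¹).injective).le
        have hg' : g⁻¹ ∈ Subgroup.normalizer (Z : Set G) := by
          rw [Subgroup.mem_normalizer_iff]
          intro a
          conv_rhs => rw [heq]
          exact (Subgroup.mem_map_iff_mem (f := (MulAut.conj g⁻¹).toMonoidHom)
            (MulAut.conj g⁻¹).injective).symm
        simpa using inv_mem hg'
      let rep : G ⧸ D → G ⧸ D := fun q => (Quotient.mk (MulAction.orbitRel D (G ⧸ D)) q).out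
      let R := Q'.filter fun q => rep q = q
      let ψ0 : End k S := ∑ q ∈ R, F q.out
      have hΦ : ∀ y, ∑ q ∈ Q', F q.out y =
          ∑ d : D, single (d : G) (1 : k) • ψ0 (single (d : G)⁻¹ (1 : k) • y) := fun y => by
        simp only [ψ0, LinearMap.sum_apply, smul_sum, ← hsmF]
        rw [← sum_product' (univ : Finset D) R (fun d q => F ((d : G) • q).out y)]
        symm
        refine sum_bij (fun a _ => ((a.1 : D) : G) • a.2) (fun a ha => ?_) ?_ (fun q hq => ?_)
          fun a _ => rfl
        · exact hsm _ (centralizer_le_normalizer Z (hDC a.1.2)) _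
            (mem_filter.1 (mem_product.1 ha).2).1
        · rintro ⟨d, q⟩ ha ⟨d', q'⟩ ha' he
          obtain ⟨hq, hrq⟩ := mem_filter.1 (mem_product.1 ha).2
          obtain ⟨hq', hrq'⟩ := mem_filter.1 (mem_product.1 ha').2
          dsimp only at he hrq hrq' hq hq' ⊢
          have horb : rep q = rep q' := by
            refine congrArg Quotient.out (Quotient.sound ⟨d⁻¹ * d', ?_⟩)
            show ((d⁻¹ * d' : D) : G) • q' = q
            rw [Subgroup.coe_mul, mul_smul, ← he, ← mul_smul, InvMemClass.coe_inv, inv_mul_cancel,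
              one_smul]
          rw [hrq, hrq'] at horb
          subst horb
          have h1 := hfree q hq (d⁻¹ * d') (by
            rw [Subgroup.coe_mul, mul_smul, ← he, ← mul_smul, InvMemClass.coe_inv, inv_mul_cancel,
              one_smul])
          rw [inv_mul_eq_one.1 h1]
        · obtain ⟨d, hd⟩ : ∃ d : D, (d : G) • q = rep q :=
            Quotient.mk_out (s := MulAction.orbitRel D (G ⧸ D)) q
          refine ⟨(d⁻¹, rep q), mem_product.2 ⟨mem_univ _, mem_filter.2 ⟨?_, ?_⟩⟩, ?_⟩
          · rw [← hd]; exact hsm _ (centralizer_le_normalizer Z (hDC d.2)) _ hq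
          · exact congrArg Quotient.out (Quotient.out_eq _)
          · show ((d⁻¹ : D) : G) • rep q = q
            rw [← hd, ← mul_smul, InvMemClass.coe_inv, inv_mul_cancel, one_smul]
      have hΦC : ∀ c ∈ C[Z], ∀ y, ∑ q ∈ Q', F q.out (single c (1 : k) • y) =
          single c (1 : k) • ∑ q ∈ Q', F q.out y := fun c hc y => by
        rw [smul_sum]
        refine sum_bij (fun q _ => c⁻¹ • q)
          (fun q hq => hsm _ (centralizer_le_normalizer Z ((C[Z]).inv_mem hc)) q hq)
          (fun q _ q' _ he => smul_left_cancel _ he)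
          (fun q hq => ⟨c • q, hsm _ (centralizer_le_normalizer Z hc) q hq, inv_smul_smul c q⟩)
          fun q _ => ?_
        rw [hsmF c⁻¹ q, inv_inv, single_smul_inv_smul]
      let ψ : End k S := (act k S w').comp ψ0
      obtain ⟨s, hs⟩ := L.trace_mem ψ hfu hxu
      refine ⟨s, hs ▸ ?_⟩
      conv_lhs => rw [← hfwtr, tr_apply, sum_smul]
      let e : ((C[Z] : Subgroup G) ⧸ D.subgroupOf C[Z]) × D → (C[Z] : Subgroup G) :=
        fun a => ⟨(a.1.out : G) * a.2, (C[Z]).mul_mem a.1.out.2 (hDC a.2.2)⟩
      have he : Function.Bijective e := by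
        refine ⟨fun a b hab => ?_, fun c => ?_⟩
        · have hab' : (a.1.out : G) * a.2 = (b.1.out : G) * b.2 := congrArg Subtype.val hab
          have h1 : a.1 = b.1 := by
            rw [← QuotientGroup.out_eq' a.1, ← QuotientGroup.out_eq' b.1, QuotientGroup.eq,
              Subgroup.mem_subgroupOf, Subgroup.coe_mul, Subgroup.coe_inv]
            rw [show (a.1.out : G)⁻¹ * (b.1.out : G) = (a.2 : G) * (b.2 : G)⁻¹ by
              rw [eq_mul_inv_iff_mul_eq, mul_assoc, ← hab', inv_mul_cancel_left]]
            exact D.mul_mem a.2.2 (D.inv_mem b.2.2)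
          refine Prod.ext h1 (Subtype.ext ?_)
          rw [h1] at hab'
          exact mul_left_cancel hab'
        · obtain ⟨d, hd⟩ := QuotientGroup.mk_out_eq_mul (D.subgroupOf C[Z]) c
          refine ⟨((c : (C[Z] : Subgroup G) ⧸ D.subgroupOf C[Z]),
            ⟨_, D.inv_mem (Subgroup.mem_subgroupOf.1 d.2)⟩), Subtype.ext ?_⟩
          show ((c : (C[Z] : Subgroup G) ⧸ D.subgroupOf C[Z]).out : G) * ((d : (C[Z] : Subgroup G)) : G)⁻¹ = c
          rw [hd]
          simp
      rw [← (Equiv.ofBijective e he).sum_comp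
          (fun g => single (g : G) (1 : k) • ψ (single (g : G)⁻¹ (1 : k) • u)),
        Fintype.sum_prod_type]
      refine sum_congr rfl fun q _ => ?_
      rw [cj_eq_mul, mul_smul, mul_smul, ← hΦC _ ((C[Z]).inv_mem q.out.2), hΦ, smul_sum, smul_sum]
      refine sum_congr rfl fun d _ => ?_
      show _ = single ((q.out : G) * (d : G)) (1 : k) •
        w' • ψ0 (single ((q.out : G) * (d : G))⁻¹ (1 : k) • u)
      rw [single_mul_smul, mul_inv_rev, single_mul_smul (d : G)⁻¹]
      rw [single_smul_cj (d : G) w', hfw d d.2]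
    obtain ⟨s, hs⟩ := houter
    exact ⟨s, by rw [htot, hinner, hs, add_sub_cancel_left]⟩
  obtain ⟨u, hNu, hu⟩ := hπ (lam / n)
  apply hu
  obtain ⟨s, hs⟩ := hmem u (hVi u) (congrArg Subtype.val hNu)
  refine ⟨⟨i • (-(n : k)⁻¹ • s), _, rfl⟩, Subtype.ext ?_⟩
  have hPiu : Pi (u : S) = u := Subtype.ext (hVi u)
  have hπu : π u = ((π0 u : V) : S) := congrArg (fun z => ((π0 z : V) : S)) hPiu
  rw [hNj]
  show x ^ (m - 1) • i • (-(n : k)⁻¹ • s) = ((π0 u : V) : S) - (lam / n) • (u : S)
  rw [← mul_smul, ((L.xi).pow_left _).eq, mul_smul, smul_comm (x ^ (m - 1)), ← hs,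
    smul_comm i, smul_sub, smul_comm i lam, hVi, smul_comm i (n : k), hπu, hVi, neg_smul, smul_sub,
    smul_smul, smul_smul, inv_mul_cancel₀ hn, one_smul, neg_sub, div_eq_inv_mul]

end LocalData

section count

open Cfsg CfsgLib.Block CfsgLib.Block.Chr CfsgLib.BlockStar CfsgLib.BlockB

variable {M : Ideal AlgInt} [M.IsPrime] {p : ℕ} [Fact p.Prime] [CharP (Residue M) p]

/-- **At least inertial-index many simple modules.** -/
theorem le_blockRank (hM : IsPModular p M) {B : Set (IrrCharacter G)} (hB : IsPBlock M B)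
    {f i x : MonoidAlgebra (Residue M) G} {Z : Subgroup G} {m : ℕ}
    (L : LocalData (idem M B) f i x Z m) (hZ : Nat.card Z = p) {t : G} {ζ : Residue M} {n o : ℕ}
    (htN : t ∈ Subgroup.normalizer (Z : Set G)) (htf : cj (Residue M) t f = f)
    (hti : cj (Residue M) t i = i) (htx : cj (Residue M) t x = ζ • x) (hζ : ζ ≠ 0)
    (ho : (o : Residue M) ≠ 0) (hto : t ^ o = 1) (hn : 0 < n) (htn : t ^ n ∈ C[Z])
    (hlt : ∀ l, 0 < l → l < n → t ^ l ∉ C[Z])
    (hstab : ∀ g ∈ Subgroup.normalizer (Z : Set G), cj (Residue M) g f * f ≠ 0 →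
      ∃ l : ℕ, ∃ c ∈ C[Z], g = t ^ l * c)
    {D : Subgroup G} (hDC : D ≤ C[Z])
    (hDZ : ∀ d ∈ D, d ≠ 1 → Z ≤ Subgroup.zpowers d) (hZD : Z ≤ D)
    {w : MonoidAlgebra (Residue M) G} (hw : SuppIn C[Z] w) (hwD : FixBy D w)
    (htr : tr D C[Z] w = f) : n ≤ blockRank p B := by
  have hZC : Z ≤ C[Z] := by
    haveI : IsCyclic Z := isCyclic_of_prime_card hZ
    letI := IsCyclic.commGroup (α := Z)
    intro z hz
    exact Subgroup.mem_centralizer_iff.2 fun z' hz' =>
      congrArg Subtype.val (mul_comm (⟨z', hz'⟩ : Z) ⟨z, hz⟩)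
  have hno : n ∣ o := by
    refine Nat.dvd_of_mod_eq_zero ?_
    by_contra hne
    refine hlt (o % n) (Nat.pos_of_ne_zero hne) (Nat.mod_lt _ hn) ?_
    have h1 : t ^ (o % n) * (t ^ n) ^ (o / n) = 1 := by
      rw [← pow_mul, ← pow_add, Nat.mod_add_div, hto]
    rw [eq_inv_of_mul_eq_one_left h1]
    exact (C[Z]).inv_mem (pow_mem htn _)
  have hn0 : (n : Residue M) ≠ 0 := by
    obtain ⟨q, hq⟩ := hno
    intro h
    exact ho (by rw [hq, Nat.cast_mul, h, zero_mul])
  have ho0 : o ≠ 0 := fun e => ho (by simp [e])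
  have hcj : cj (Residue M) (t ^ n) i = i := by
    clear hn hn0 htn hlt hno
    induction n with
    | zero => simp
    | succ n ih => rw [pow_succ' t, cj_mul, ih, hti]
  have hcomm : Commute (MonoidAlgebra.single (t ^ n) (1 : Residue M)) i := by
    rw [Commute, SemiconjBy, single_mul_cj, hcj]
  obtain ⟨c0, hc0⟩ := L.exists_coeff (suppIn_single htn (1 : Residue M))
  have hc1 := L.coeff_pow (suppIn_single htn (1 : Residue M)) hcomm hc0 o
  rw [MonoidAlgebra.single_pow, ← pow_mul, mul_comm, pow_mul, hto, one_pow, one_pow,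
    ← MonoidAlgebra.one_def, one_mul] at hc1
  have hc0o : c0 ^ o = 1 := L.coeff_unique hc1 (by simp)
  have hc00 : c0 ≠ 0 := fun e => by rw [e, zero_pow ho0] at hc0o; exact zero_ne_one hc0o
  have hc0' : MonoidAlgebra.single (t ^ n) (1 : Residue M) * i - c0 • i ∈
      Submodule.span (MonoidAlgebra (Residue M) G) {x} := by
    rwa [← hcomm.eq, mul_assoc, L.i_idem] at hc0
  set P : Polynomial (Residue M) := Polynomial.X ^ n - Polynomial.C c0
  have hsep : P.Separable := Polynomial.separable_X_pow_sub_C c0 hn0 hc00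
  have hcard : Fintype.card ↥P.roots.toFinset = n := by
    rw [Fintype.card_coe, Multiset.toFinset_card_of_nodup (Polynomial.nodup_roots hsep),
      IsAlgClosed.card_roots_eq_natDegree, Polynomial.natDegree_X_pow_sub_C]
  set ι := ↥P.roots.toFinset
  have hroot : ∀ α : ι, (α : Residue M) ^ n = c0 := fun α => by
    have h1 := Multiset.mem_toFinset.1 α.2
    rw [Polynomial.mem_roots'] at h1
    simpa [P, Polynomial.IsRoot.def, sub_eq_zero] using h1.2
  have hex : ∀ α : ι, ∃ J : Submodule (MonoidAlgebra (Residue M) G)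
      (Submodule.span (MonoidAlgebra (Residue M) G) {idem M B}),
      IsSimpleModule (MonoidAlgebra (Residue M) G) (_ ⧸ J) ∧
      ∃ v, IsVec i x t (α : Residue M) m
        (Submodule.span (MonoidAlgebra (Residue M) G) {idem M B} ⧸ J) v := by
    intro α
    have hα0 : (α : Residue M) ≠ 0 := fun e => hc00 (by rw [← hroot α, e, zero_pow hn.ne'])
    obtain ⟨X, _, _, _, _, _, v, hbX, hv⟩ := L.exists_start (p := p) hZ hZC htN hti htx hζ hn hlt hc0'
      (hroot α) hα0
    obtain ⟨S, _, _, _, _, _, _, w, hbS, hw⟩ := exists_simple_isVec L.i_idem L.xi hti htx hζ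
      (lt_trans one_pos L.one_lt) L.x_pow ho hto _ X rfl hbX v hv
    let Λ := Submodule.span (MonoidAlgebra (Residue M) G) ({idem M B} : Set (MonoidAlgebra (Residue M) G))
    let φ : Λ →ₗ[MonoidAlgebra (Residue M) G] S :=
      (LinearMap.toSpanSingleton _ S w).comp Λ.subtype
    have hφ : Function.Surjective φ := fun s => by
      obtain ⟨a, ha⟩ := exists_smul_of_ne_zero' (R := MonoidAlgebra (Residue M) G) hw.ne_zero s
      refine ⟨⟨a * idem M B, Submodule.mem_span_singleton.2 ⟨a, rfl⟩⟩, ?_⟩
      show (a * idem M B) • w = s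
      rw [mul_smul, hbS, ha]
    let e := φ.quotKerEquivOfSurjective hφ
    refine ⟨LinearMap.ker φ, IsSimpleModule.congr e, e.symm w, ?_, ?_, ?_, fun u hu => ?_⟩
    · rw [← map_smul, hw.1]
    · rw [← map_smul, hw.2.1, map_zero]
    · rw [← map_smul, hw.2.2.1]
      exact LinearMap.map_smul_of_tower e.symm.toLinearMap _ _
    · refine hw.2.2.2 (e u) ?_
      rw [← map_smul, hu, LinearEquiv.apply_symm_apply]
  choose J hJ v hv using hex
  haveI : ∀ α : ι, FiniteDimensional (Residue M)
      (Submodule.span (MonoidAlgebra (Residue M) G) {idem M B} ⧸ J α) := fun α => by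
    haveI : FiniteDimensional (Residue M)
        (Submodule.span (MonoidAlgebra (Residue M) G) {idem M B}) :=
      inferInstanceAs (FiniteDimensional (Residue M)
        ((Submodule.span (MonoidAlgebra (Residue M) G) {idem M B}).restrictScalars (Residue M)))
    exact Module.Finite.of_surjective ((J α).mkQ.restrictScalars (Residue M)) (J α).mkQ_surjective
  haveI := hJ
  rw [← hcard]
  refine card_simple_le_blockRank hM hB
    (fun α : ι => Submodule.span (MonoidAlgebra (Residue M) G) {idem M B} ⧸ J α)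
    (fun α β hne => ⟨fun e => hne (Subtype.ext ?_)⟩) fun α z => ?_
  · refine L.eigen_unique htN htf hti htx hζ ho hto hn0 htn hlt hstab hDC hDZ hZD hw hwD htr
      (v := e (v α)) (v' := v β) ?_ (hv β)
    obtain ⟨h1, h2, h3, h4⟩ := hv α
    refine ⟨by rw [← map_smul, h1], by rw [← map_smul, h2, map_zero], ?_, fun u hu => h4 (e.symm u) ?_⟩
    · rw [← map_smul, h3]
      exact LinearMap.map_smul_of_tower e.toLinearMap _ _
    · rw [← map_smul, hu, LinearEquiv.symm_apply_apply]
  · obtain ⟨y, rfl⟩ := (J α).mkQ_surjective z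
    rw [← map_smul]
    congr 1
    refine Subtype.ext ?_
    obtain ⟨c, hc⟩ := Submodule.mem_span_singleton.1 y.2
    show idem M B * (y : MonoidAlgebra (Residue M) G) = y
    rw [← hc, smul_eq_mul, ← mul_assoc, (L.b_central c).eq, mul_assoc, L.b_idem]

end count

end CfsgLib.Cyclic
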