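import Cfsg.Agent.BlocksB.Cyclic.Structure
import Cfsg.Agent.BlocksB.InducedDefect
import Cfsg.Agent.BrauerPairs.Transport

/-!
# Consequences of the structure of a block with cyclic defect group
-/

set_option autoImplicit false
set_option linter.style.haveILetI false
set_option linter.unusedSectionVars false

namespace CfsgLib.Cyclic

open Cfsg Finset CfsgLib.Block CfsgLib.Block.Chr CfsgLib.BrauerPairs CfsgLib.BlockStar
  CfsgLib.BlockB CfsgLib.SL2C
open scoped ComplexConjugate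
open scoped Classical

universe u

variable {M : Ideal AlgInt} [M.IsPrime] {p : ℕ} [Fact p.Prime] [CharP (Residue M) p]
  {G : Type u} [Group G] [Fintype G]

local notation "C[" Q "]" => Subgroup.centralizer (SetLike.coe Q)
local notation "N[" Q "]" => Subgroup.normalizer (SetLike.coe Q)

variable {B : Set (IrrCharacter G)} {P : Subgroup G} {c : Set (IrrCharacter C[P])} {t : G} {n : ℕ}

/-- The degree. -/
noncomputable abbrev deg (χ : IrrCharacter G) : ℤ := (charDegree (χ : G → ℂ) : ℤ)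

/-- The signs, the exceptional members and their parameters. -/
structure Tree [Fintype P] [Fintype B] (S : CycData (M := M) p B P c t n)
    (m : IrrCharacter G → (P →* ℂˣ) → ℕ) (X : Finset B) (δ : B → ℤ) (δ₀ : ℤ)
    (rep : B → (P →* ℂˣ)) : Prop where
  card_X : X.card = n
  card_Y : n * (Xᶜ).card + 1 = Nat.card P
  sign : ∀ x ∈ X, δ x = 1 ∨ δ x = -1
  sign₀ : δ₀ = 1 ∨ δ₀ = -1
  reg : ∀ y, y ∉ X → ∀ g : G, ¬ p ∣ orderOf g →
    (δ₀ : ℂ) * ((y : IrrCharacter G) : G → ℂ) g +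
      ∑ x ∈ X, (δ x : ℂ) * ((x : IrrCharacter G) : G → ℂ) g = 0
  val_X : ∀ x ∈ X, ∀ u : P, u ≠ 1 → aval (m x.1) u = -(δ x : ℂ)
  val_Y : ∀ y, y ∉ X → rep y ≠ 1 ∧ ∀ u : P, u ≠ 1 →
    aval (m y.1) u = (δ₀ : ℂ) * ∑ l ∈ range n, (rep y (S.act l u) : ℂ)
  orbit : ∀ μ : P →* ℂˣ, μ ≠ 1 → ∃! y, y ∉ X ∧ ∃ l < n, μ = (rep y).comp (S.actHom l)

/-- **The structure with a member to keep among the non-exceptional ones.** -/
theorem exists_tree [Fintype P] [Fintype B] {m : IrrCharacter G → (P →* ℂˣ) → ℕ}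
    (S : CycData (M := M) p B P c t n) (V : CycVals (M := M) p P c t m) (x₀ : B) :
    blockRank p B = n ∧ ∃ X δ δ₀ rep, Tree S m X δ δ₀ rep ∧ (Nat.card P = n + 1 → x₀ ∈ X) := by
  obtain ⟨h0, X, δ, δ₀, rep, h1, h2, h3, h4, h5, h6, h7, h8, h9⟩ := V.exists_structure S x₀
  exact ⟨h0, X, δ, δ₀, rep, ⟨h1, h2, h4, h5, h6, h7, h8, h9⟩, h3⟩

theorem rank_eq (S : CycData (M := M) p B P c t n) : blockRank p B = n := by
  haveI := Fintype.ofFinite P
  letI := irrFintype (G := G)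
  haveI : Fintype B := Fintype.ofFinite B
  obtain ⟨m, V⟩ := S.exists_cycVals
  obtain ⟨χ, hχ, -⟩ := exists_height_zero S.hM S.hB
  exact (exists_tree S V ⟨χ, hχ⟩).1

namespace Tree

variable [Fintype P] [Fintype B] {S : CycData (M := M) p B P c t n}
  {m : IrrCharacter G → (P →* ℂˣ) → ℕ} {X : Finset B} {δ : B → ℤ} {δ₀ : ℤ}
  {rep : B → (P →* ℂˣ)} (V : CycVals (M := M) p P c t m) (T : Tree S m X δ δ₀ rep)
include V T

theorem cong_X {x x' : B} (hx : x ∈ X) (hx' : x' ∈ X) :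
    δ x * deg x.1 ≡ δ x' * deg x'.1 [ZMOD (p : ℤ) ^ (Nat.card G).factorization p] := by
  have h := V.dvd_of_killed S (fun z => (if z = x then δ x else 0) - if z = x' then δ x' else 0)
    (fun u hu => by
      simp only [Int.cast_sub, apply_ite (Int.cast : ℤ → ℂ), Int.cast_zero, sub_mul,
        sum_sub_distrib, ite_mul, zero_mul, sum_ite_eq', mem_univ, if_true]
      rw [T.val_X x hx u hu, T.val_X x' hx' u hu]
      rcases T.sign x hx with e | e <;> rcases T.sign x' hx' with e' | e' <;> simp [e, e'])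
  refine (Int.modEq_iff_dvd.2 ?_).symm
  simpa [sub_mul, sum_sub_distrib, ite_mul] using h

theorem cong_Y {x y : B} (hx : x ∈ X) (hy : y ∉ X) :
    deg y.1 ≡ -((n : ℤ) * δ₀ * δ x * deg x.1) [ZMOD (p : ℤ) ^ (Nat.card G).factorization p] := by
  have h := T.reg y hy 1 (by rw [orderOf_one]; exact (Fact.out : p.Prime).not_dvd_one)
  simp only [(irr_one _).1] at h
  have h' : δ₀ * deg y.1 + ∑ z ∈ X, δ z * deg z.1 = 0 := by exact_mod_cast h
  have h2 : ∑ z ∈ X, δ z * deg z.1 ≡ ∑ z ∈ X, δ x * deg x.1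
      [ZMOD (p : ℤ) ^ (Nat.card G).factorization p] := by
    refine Int.modEq_iff_dvd.2 ?_
    rw [← sum_sub_distrib]
    exact dvd_sum fun z hz => Int.modEq_iff_dvd.1 (T.cong_X V hz hx)
  rw [sum_const, T.card_X, nsmul_eq_mul] at h2
  have hy' : deg y.1 = -(δ₀ * ∑ z ∈ X, δ z * deg z.1) := by
    have e : δ₀ * δ₀ = 1 := by rcases T.sign₀ with e | e <;> rw [e] <;> rfl
    linear_combination δ₀ * h' - deg y.1 * e
  rw [hy']
  refine ((h2.mul_left δ₀).neg).trans ?_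
  rw [show δ₀ * ((n : ℤ) * (δ x * deg x.1)) = (n : ℤ) * δ₀ * δ x * deg x.1 by ring]

/-- Members of the exceptional set agree on the regular elements. -/
theorem agree {y y' : B} (hy : y ∉ X) (hy' : y' ∉ X) {g : G} (hg : ¬ p ∣ orderOf g) :
    ((y : IrrCharacter G) : G → ℂ) g = ((y' : IrrCharacter G) : G → ℂ) g := by
  have h0 : (δ₀ : ℂ) ≠ 0 := by rcases T.sign₀ with e | e <;> simp [e]
  exact mul_left_cancel₀ h0 (add_right_cancel ((T.reg y hy g hg).trans (T.reg y' hy' g hg).symm))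

/-- All the heights are zero. -/
theorem height_zero (z : B) : blockHeight p B ((z : IrrCharacter G) : G → ℂ) = 0 := by
  have hp : p.Prime := Fact.out
  set N := (Nat.card G).factorization p with hN
  obtain ⟨x₁, hx₁⟩ := card_pos.1 (T.card_X ▸ S.n_pos : 0 < X.card)
  have hn : ¬ (p : ℤ) ∣ (n : ℤ) := by
    rw [Int.natCast_dvd_natCast]
    intro h
    have h1 := Nat.le_of_dvd (by have := hp.two_le; omega : 0 < p - 1) S.n_dvd
    have h2 := Nat.le_of_dvd S.n_pos h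
    have := hp.two_le
    omega
  have key : ∀ w : B, ∀ k ≤ N, (p ^ k ∣ charDegree ((w : IrrCharacter G) : G → ℂ) ↔
      p ^ k ∣ charDegree ((x₁ : IrrCharacter G) : G → ℂ)) := by
    intro w k hk
    rw [← Int.natCast_dvd_natCast, ← Int.natCast_dvd_natCast, Nat.cast_pow]
    have hd : (p : ℤ) ^ k ∣ (p : ℤ) ^ N := pow_dvd_pow _ hk
    by_cases hw : w ∈ X
    · have h := (T.cong_X V hw hx₁).of_dvd hd
      have e : ∀ x ∈ X, ((p : ℤ) ^ k ∣ δ x * deg x.1 ↔ (p : ℤ) ^ k ∣ deg x.1) := fun x hx => by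
        rcases T.sign x hx with e | e <;> simp [e]
      rw [← e w hw, ← e x₁ hx₁]
      constructor <;> intro hh
      · exact Int.modEq_zero_iff_dvd.1 (h.symm.trans (Int.modEq_zero_iff_dvd.2 hh))
      · exact Int.modEq_zero_iff_dvd.1 (h.trans (Int.modEq_zero_iff_dvd.2 hh))
    · have h := (T.cong_Y V hx₁ hw).of_dvd hd
      have e : (p : ℤ) ^ k ∣ -((n : ℤ) * δ₀ * δ x₁ * deg x₁.1) ↔ (p : ℤ) ^ k ∣ deg x₁.1 := by
        rw [dvd_neg]
        have hcop : IsCoprime ((p : ℤ) ^ k) ((n : ℤ) * δ₀ * δ x₁) := by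
          refine IsCoprime.pow_left ?_
          refine ((Nat.prime_iff_prime_int.1 hp).coprime_iff_not_dvd).2 fun hh => hn ?_
          rcases T.sign₀ with e | e <;> rcases T.sign x₁ hx₁ with e' | e' <;>
            simpa [e, e'] using hh
        exact ⟨hcop.dvd_of_dvd_mul_left, fun hh => dvd_mul_of_dvd_right hh _⟩
      rw [← e]
      constructor <;> intro hh
      · exact Int.modEq_zero_iff_dvd.1 (h.symm.trans (Int.modEq_zero_iff_dvd.2 hh))
      · exact Int.modEq_zero_iff_dvd.1 (h.trans (Int.modEq_zero_iff_dvd.2 hh))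
  set f := fun ψ : IrrCharacter G => (charDegree (ψ : G → ℂ)).factorization p
  set s := sInf (f '' B) with hs
  have hne : (f '' B).Nonempty := ⟨_, z.1, z.2, rfl⟩
  obtain ⟨χ₀, hχ₀, hχ₀s⟩ : s ∈ f '' B := Nat.sInf_mem hne
  have hdef : 0 < blockDefect p B := by
    refine Nat.pos_of_ne_zero fun h0 => S.hP1 (Subgroup.card_eq_one.1 ?_)
    rw [card_defectGroup S.hM S.hB S.hPD, h0, pow_zero]
  have hsN : s + 1 ≤ N := by
    have : blockDefect p B = N - s := rfl
    omega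
  show f z.1 - s = 0
  refine Nat.sub_eq_zero_of_le ?_
  by_contra hlt
  have h1 : p ^ (s + 1) ∣ charDegree ((z : IrrCharacter G) : G → ℂ) :=
    (hp.pow_dvd_iff_le_factorization (irr_one z.1).2.ne').2 (show s + 1 ≤ f z.1 by omega)
  have h2 := (hp.pow_dvd_iff_le_factorization (irr_one χ₀).2.ne').1
    ((key ⟨χ₀, hχ₀⟩ _ hsN).2 ((key z _ hsN).1 h1))
  change s + 1 ≤ f χ₀ at h2
  omega

end Tree

/-- The stabilizer of a block of the centralizer. -/
theorem stab_eq_of_mem_iff (hM : IsPModular p M) {b : Set (IrrCharacter C[P])}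
    (hb : IsPBlock M b) (T : Subgroup G) (hT : ∀ g : G, g ∈ T ↔
      (g ∈ N[P] ∧ StabilizesBlock C[P] b g)) : T = stab P (idemIn M C[P] b) := by
  ext g
  rw [hT, stabilizesBlock_iff hM hb]
  exact ⟨fun h => ⟨h.1, h.2.2⟩, fun h => ⟨h.1, map_normalizer_centralizer h.1, h.2⟩⟩

theorem stab_eq_of_mem_iff' (hM : IsPModular p M) {b : Set (IrrCharacter C[P])}
    (hb : IsPBlock M b) (T : Subgroup G) (hT : ∀ g : G, g ∈ T ↔
      (g ∈ N[P] ∧ ∀ θ ∈ b, ∀ θ' : IrrCharacter C[P], (∀ h h' : C[P], (h' : G) = g * h * g⁻¹ →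
        (θ' : C[P] → ℂ) h' = (θ : C[P] → ℂ) h) → θ' ∈ b)) : T = stab P (idemIn M C[P] b) := by
  refine stab_eq_of_mem_iff hM hb T fun g => (hT g).trans (and_congr_right fun hg => ?_)
  have hH := mem_normalizer_iff_conjEquiv.mp (map_normalizer_centralizer hg)
  constructor
  · exact fun h => ⟨map_normalizer_centralizer hg, fun χ hχ => ⟨_, h χ hχ _
      ((isConjCharOf_iff hH _ _).2 rfl), (isConjCharOf_iff hH _ _).2 rfl⟩⟩
  · rintro ⟨-, h⟩ θ hθ θ' hθ'
    obtain ⟨χ', hχ', hc⟩ := h θ hθ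
    rw [(isConjCharOf_iff hH _ _).1 hθ', ← (isConjCharOf_iff hH _ _).1 hc]
    exact hχ'

end CfsgLib.Cyclic
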