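import Cfsg.Agent.BlocksB.Cyclic.Main
import Mathlib.RingTheory.ZMod.UnitsCyclic

/-!
# The action of the inertial quotient on a cyclic defect group is determined by its order
-/

set_option autoImplicit false
set_option linter.style.haveILetI false
set_option linter.unusedSectionVars false

namespace CfsgLib.Cyclic

open Cfsg Finset CfsgLib.Block CfsgLib.Block.Chr CfsgLib.BrauerPairs CfsgLib.BlockStar
  CfsgLib.BlockB CfsgLib.SL2C
open scoped Classical

universe u v

variable {M : Ideal AlgInt} [M.IsPrime] {p : ℕ} [Fact p.Prime] [CharP (Residue M) p]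
  {G : Type u} [Group G] [Fintype G] {H : Type v} [Group H] [Fintype H]

local notation "C[" Q "]" => Subgroup.centralizer (SetLike.coe Q)

variable {B : Set (IrrCharacter G)} {P : Subgroup G} {c : Set (IrrCharacter C[P])} {t : G} {n : ℕ}

namespace CycData

variable (S : CycData (M := M) p B P c t n)
include S

theorem act_period (u : P) : S.act n u = u := Subtype.ext (by
  show t ^ n * (u : G) * (t ^ n)⁻¹ = u
  rw [mul_inv_eq_iff_eq_mul]
  exact (Subgroup.mem_centralizer_iff.1 S.t_pow _ u.2).symm)

theorem act_zero (u : P) : S.act 0 u = u := Subtype.ext (by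
  show t ^ 0 * (u : G) * (t ^ 0)⁻¹ = u
  simp)

theorem sum_shift {A : Type*} [AddCommGroup A] (f : P → A) (u : P) (l : ℕ) :
    ∑ k ∈ range n, f (S.act (l + k) u) = ∑ k ∈ range n, f (S.act k u) := by
  induction l with
  | zero => simp
  | succ l ih =>
    rw [← ih]
    have h1 := sum_range_succ' (fun k => f (S.act (l + k) u)) n
    have h2 := sum_range_succ (fun k => f (S.act (l + k) u)) n
    rw [h2, show f (S.act (l + n) u) = f (S.act (l + 0) u) by
      rw [S.act_add, S.act_period, add_zero]] at h1
    have h3 := add_right_cancel h1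
    rw [h3]
    exact sum_congr rfl fun k _ => by rw [show l + 1 + k = l + (k + 1) by omega]

/-- A power of the generator as an automorphism. -/
noncomputable def aut [Fintype P] (l : ℕ) : MulAut P :=
  MulEquiv.ofBijective (S.actHom l)
    ⟨Finite.injective_iff_surjective.2 (S.act_surjective l), S.act_surjective l⟩

theorem aut_apply [Fintype P] (l : ℕ) (u : P) : S.aut l u = S.act l u := rfl

theorem aut_pow_eq_one [Fintype P] (l : ℕ) : S.aut l ^ n = 1 := by
  have h : ∀ (j : ℕ) (u : P), (S.aut l ^ j) u = S.act (j * l) u := by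
    intro j
    induction j with
    | zero => intro u; rw [pow_zero, zero_mul, S.act_zero]; rfl
    | succ j ih =>
      intro u
      rw [pow_succ', MulAut.mul_apply, ih, aut_apply, ← S.act_add,
        show l + j * l = (j + 1) * l by ring]
  have hper : ∀ (i : ℕ) (u : P), S.act (n * i) u = u := by
    intro i
    induction i with
    | zero => intro u; rw [mul_zero, S.act_zero]
    | succ i ih => intro u; rw [mul_add, mul_one, S.act_add, S.act_period, ih]
  refine MulEquiv.ext fun u => ?_
  rw [h, MulAut.one_apply, hper]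

theorem aut_injOn [Fintype P] : Set.InjOn S.aut ↑(range n) := by
  intro i hi j hj he
  haveI : Nontrivial P := (Subgroup.nontrivial_iff_ne_bot P).2 S.hP1
  obtain ⟨u, hu⟩ := exists_ne (1 : P)
  have h1 : S.act i u = S.act j u := by rw [← aut_apply, he, aut_apply]
  rw [coe_range, Set.mem_Iio] at hi hj
  have key : ∀ a b, a ≤ b → b < n → S.act a u = S.act b u → a = b := by
    intro a b hab hb he'
    rw [show b = (b - a) + a by omega, S.act_add] at he'
    have h3 : t ^ (b - a) * (S.act a u : G) * (t ^ (b - a))⁻¹ = (S.act a u : G) :=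
      (congrArg Subtype.val he').symm
    have hne : (S.act a u : G) ≠ 1 := fun h => hu (Subtype.ext
      (conj_eq_one_iff.1 (show t ^ a * (u : G) * (t ^ a)⁻¹ = 1 from h)))
    have := Nat.eq_zero_of_dvd_of_lt (S.free (S.act a u).2 hne h3) (by omega)
    omega
  rcases le_total i j with h | h
  · exact key i j h hj h1
  · exact (key j i h hi h1.symm).symm

/-- The automorphisms of the powers are those of exponent dividing `n`. -/
theorem image_aut [Fintype P] [Fintype (MulAut P)] :
    (range n).image S.aut = univ.filter fun σ : MulAut P => σ ^ n = 1 := by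
  refine eq_of_subset_of_card_le (fun σ hσ => ?_) ?_
  · obtain ⟨l, -, rfl⟩ := mem_image.1 hσ
    exact mem_filter.2 ⟨mem_univ _, S.aut_pow_eq_one l⟩
  rw [card_image_of_injOn S.aut_injOn, card_range]
  by_cases hn : n = 1
  · rw [hn]
    refine card_le_one.2 fun a ha b hb => ?_
    rw [mem_filter, pow_one] at ha hb
    rw [ha.2, hb.2]
  have hp2 : p ≠ 2 := fun h => by
    have h2 := S.n_dvd
    rw [h] at h2
    exact hn (Nat.dvd_one.1 h2)
  obtain ⟨a, ha⟩ := S.pair.1.exists_card_eq
  haveI := S.hcyc
  haveI : IsCyclic (ZMod (Nat.card P))ˣ := by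
    rw [ha]; exact ZMod.isCyclic_units_of_prime_pow p Fact.out hp2 a
  haveI : IsCyclic (MulAut P) :=
    isCyclic_of_surjective _ (IsCyclic.mulAutMulEquiv P).symm.surjective
  exact IsCyclic.card_pow_eq_one_le S.n_pos

end CycData

variable {B' : Set (IrrCharacter H)} {P' : Subgroup H} {c' : Set (IrrCharacter C[P'])} {t' : H}

/-- **Two actions of the same order correspond under every isomorphism.** -/
theorem exists_act_match [Fintype P] [Fintype P'] (S : CycData (M := M) p B P c t n)
    (S' : CycData (M := M) p B' P' c' t' n) (φ : P' ≃* P) :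
    ∃ σ : ℕ → ℕ, (∀ k < n, σ k < n) ∧ Set.BijOn σ ↑(range n) ↑(range n) ∧
      ∀ k < n, ∀ w : P', φ (S'.act k w) = S.act (σ k) (φ w) := by
  haveI : Fintype (MulAut P) := Fintype.ofFinite _
  set f : ℕ → MulAut P := fun k => φ.symm.trans ((S'.aut k).trans φ) with hf
  have hfapp : ∀ k u, f k u = φ (S'.act k (φ.symm u)) := fun k u => rfl
  have hf1 : ∀ k, k < n → f k ∈ (range n).image S.aut := by
    intro k _
    rw [S.image_aut]
    refine mem_filter.2 ⟨mem_univ _, ?_⟩
    have hj : ∀ (j : ℕ) u, (f k ^ j) u = φ ((S'.aut k ^ j) (φ.symm u)) := by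
      intro j
      induction j with
      | zero => intro u; simp
      | succ j ih =>
        intro u
        rw [pow_succ', MulAut.mul_apply, ih, hfapp, pow_succ', MulAut.mul_apply,
          φ.symm_apply_apply, CycData.aut_apply]
    refine MulEquiv.ext fun u => ?_
    rw [hj, S'.aut_pow_eq_one, MulAut.one_apply, φ.apply_symm_apply, MulAut.one_apply]
  have hex : ∀ k, ∃ l, k < n → l < n ∧ S.aut l = f k := fun k => by
    by_cases hk : k < n
    · obtain ⟨l, hl, he⟩ := mem_image.1 (hf1 k hk)
      exact ⟨l, fun _ => ⟨mem_range.1 hl, he⟩⟩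
    · exact ⟨0, fun h => absurd h hk⟩
  choose σ hσ using hex
  have hinj : Set.InjOn σ ↑(range n) := by
    intro i hi j hj he
    rw [coe_range, Set.mem_Iio] at hi hj
    refine S'.aut_injOn (mem_range.2 hi) (mem_range.2 hj) (MulEquiv.ext fun w => ?_)
    have h1 := DFunLike.congr_fun ((hσ i hi).2.symm.trans ((congrArg S.aut he).trans (hσ j hj).2)) (φ w)
    rw [hfapp, hfapp, φ.symm_apply_apply] at h1
    exact φ.injective h1
  have hmaps : ∀ k < n, σ k < n := fun k hk => (hσ k hk).1
  refine ⟨σ, hmaps, ⟨fun k hk => mem_range.2 (hmaps k (mem_range.1 hk)), hinj, ?_⟩, fun k hk w => ?_⟩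
  · exact surjOn_of_injOn_of_card_le σ (fun k hk => mem_range.2 (hmaps k (mem_range.1 hk))) hinj le_rfl
  · rw [← CycData.aut_apply S, (hσ k hk).2, hfapp, φ.symm_apply_apply]

end CfsgLib.Cyclic
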