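import Cfsg.Agent.BlocksB.Cyclic.Values
import Cfsg.Agent.BlocksB.RegRank

/-!
# Orthogonality relations of a block with cyclic defect group
-/

set_option autoImplicit false
set_option linter.style.haveILetI false
set_option linter.unusedSectionVars false

namespace CfsgLib.Cyclic

open Cfsg Finset CfsgLib.Block CfsgLib.Block.Chr CfsgLib.BrauerPairs CfsgLib.BlockStar
  CfsgLib.BlockB CfsgLib.SL2C
open scoped ComplexConjugate
open scoped Classical

universe u

variable {M : Ideal AlgInt} [M.IsPrime] {p : ℕ} [Fact p.Prime] [CharP (Residue M) p]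
  {G : Type u} [Group G] [Fintype G]

local notation "Z[" x "]" => Subgroup.zpowers x
local notation "C[" Q "]" => Subgroup.centralizer (SetLike.coe Q)

theorem classInner_self_real {H : Type*} [Group H] [Fintype H] (F : H → ℂ) :
    classInner F F = (((Nat.card H : ℝ)⁻¹ * ∑ g : H, ‖F g‖ ^ 2 : ℝ) : ℂ) := by
  rw [CfsgLib.Char.classInner_def, Complex.ofReal_mul, Complex.ofReal_inv, Complex.ofReal_natCast,
    Complex.ofReal_sum]
  simp [Complex.mul_conj']

variable {B : Set (IrrCharacter G)} {P : Subgroup G} {c : Set (IrrCharacter C[P])} {t : G} {n : ℕ}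

/-- Multiplicities giving the values on the nontrivial subsections. -/
structure CycVals (p : ℕ) [Fact p.Prime] [CharP (Residue M) p] (P : Subgroup G) [Fintype P]
    (c : Set (IrrCharacter C[P])) (t : G) (m : IrrCharacter G → (P →* ℂˣ) → ℕ) : Prop where
  contrib : ∀ χ ψ : IrrCharacter G, ∀ u : P, u ≠ 1 →
    contribR p χ ψ (u : G) (subBlk p P (idemIn M C[P] c) (u : G)) =
      aval (m χ) u * conj (aval (m ψ) u) * (Nat.card P : ℂ)⁻¹
  inv : ∀ (χ : IrrCharacter G) (u v : P), u ≠ 1 → (v : G) = t * (u : G) * t⁻¹ →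
    aval (m χ) v = aval (m χ) u

variable [Fintype P] {m : IrrCharacter G → (P →* ℂˣ) → ℕ}

theorem CycData.exists_cycVals (S : CycData (M := M) p B P c t n) :
    ∃ m, CycVals (M := M) p P c t m := by
  obtain ⟨m, h1, h2⟩ := S.exists_values
  exact ⟨m, h1, h2⟩

/-- The power of the generator as a map on the defect group. -/
def CycData.act (S : CycData (M := M) p B P c t n) (l : ℕ) (u : P) : P :=
  ⟨t ^ l * (u : G) * (t ^ l)⁻¹, S.conj_mem l u.2⟩

namespace CycVals

variable (S : CycData (M := M) p B P c t n) (V : CycVals (M := M) p P c t m)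
include S V

theorem aval_act (χ : IrrCharacter G) {u : P} (hu : u ≠ 1) (l : ℕ) :
    aval (m χ) (S.act l u) = aval (m χ) u := by
  induction l with
  | zero => exact congrArg _ (Subtype.ext (by simp [CycData.act]))
  | succ l ih =>
    rw [V.inv χ (S.act l u) (S.act (l + 1) u) ?_ ?_, ih]
    · intro h
      have h' : t ^ l * (u : G) * (t ^ l)⁻¹ = 1 := congrArg Subtype.val h
      exact hu (Subtype.ext (conj_eq_one_iff.1 h'))
    · show t ^ (l + 1) * (u : G) * (t ^ (l + 1))⁻¹ = t * (t ^ l * (u : G) * (t ^ l)⁻¹) * t⁻¹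
      rw [pow_succ']; group

theorem act_ne_one {u : P} (hu : u ≠ 1) (l : ℕ) : S.act l u ≠ 1 := fun h =>
  hu (Subtype.ext (conj_eq_one_iff.1
    (show t ^ l * (u : G) * (t ^ l)⁻¹ = 1 from congrArg Subtype.val h)))

theorem act_injOn {u : P} (hu : u ≠ 1) : Set.InjOn (fun l => S.act l u) ↑(range n) := by
  have key : ∀ i j, i ≤ j → j < n → S.act i u = S.act j u → i = j := by
    intro i j hij hj he
    have hh : t ^ i * (u : G) * (t ^ i)⁻¹ = t ^ j * (u : G) * (t ^ j)⁻¹ := congrArg Subtype.val he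
    have h3 : t ^ (j - i) * (u : G) * (t ^ (j - i))⁻¹ = (u : G) := by
      rw [show t ^ j = t ^ i * t ^ (j - i) by rw [← pow_add, Nat.add_sub_cancel' hij]] at hh
      calc t ^ (j - i) * (u : G) * (t ^ (j - i))⁻¹
          = (t ^ i)⁻¹ * (t ^ i * t ^ (j - i) * (u : G) * (t ^ i * t ^ (j - i))⁻¹) * t ^ i := by group
        _ = (u : G) := by rw [← hh]; group
    have := Nat.eq_zero_of_dvd_of_lt (S.free u.2 (fun h => hu (Subtype.ext h)) h3) (by omega)
    omega
  intro i hi j hj he
  rw [coe_range, Set.mem_Iio] at hi hj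
  rcases le_total i j with h | h
  · exact key i j h hj he
  · exact (key j i h hi he.symm).symm

variable [Fintype B]

/-- The squares of the values at a nontrivial element add up to the order of the defect group. -/
theorem sum_norm {u : P} (hu : u ≠ 1) :
    ∑ φ : B, ‖aval (m φ.1) u‖ ^ 2 = (Nat.card P : ℝ) := by
  letI := irrFintype (G := G)
  have hM := S.hM
  have hP := S.pair
  haveI : Fintype C[Z[(u : G)]] := Fintype.ofFinite _
  obtain ⟨d, hd, hde⟩ := exists_idemIn_eq hM
    (PLE.isPair (subBlk_ple hP u.2) hP).2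
  have hpair : IsPairOf p (idem M B) (Z[(u : G)], idemIn M C[Z[(u : G)]] d) := by
    rw [hde]
    exact (isPairOf_iff_of_ple (isBlk_idem hM S.hB) (subBlk_ple hP u.2) hP).2 S.maxPair.1
  have hind := isInducedBlock_of_isBrauerPairOf hM (zpowers_le_centralizer_zpowers _)
    ((isBrauerPairOf_iff hM).2 ⟨⟨hpair.1.1, hd⟩, S.hB, hpair⟩)
  obtain ⟨N, hN⟩ := mem_pSet.1 (mem_pSet_of_mem hP u.2)
  obtain ⟨k, -, hk⟩ := (Nat.dvd_prime_pow hM.1).1 (orderOf_dvd_of_pow_eq_one hN)
  have hc : ∀ χ ψ : IrrCharacter G, CfsgLib.BlockB.contrib p d (u : G) χ ψ =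
      aval (m χ) u * conj (aval (m ψ) u) * (Nat.card P : ℂ)⁻¹ := fun χ ψ => by
    have h := contribR_idemIn hM χ ψ (mem_pSet_of_mem hP u.2) hd
    rw [hde, V.contrib χ ψ u hu] at h
    convert h.symm
  obtain ⟨χ, hχ, h0⟩ := exists_height_zero hM S.hB
  have hne := contribR_ne_zero hM S.hB hχ h0 S.maxPair u.2
  rw [V.contrib χ χ u hu] at hne
  obtain ⟨hne', hP0⟩ := mul_ne_zero_iff.1 hne
  have h := contrib_mul hM (centralizer_zpowers_eq _) hk hind χ χ
  simp only [hc] at h
  rw [sum_subtype (univ.filter (· ∈ B)) (p := (· ∈ B)) (by simp)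
    (fun ψ : IrrCharacter G => aval (m χ) u * conj (aval (m ψ) u) * (Nat.card P : ℂ)⁻¹ *
      (aval (m ψ) u * conj (aval (m χ) u) * (Nat.card P : ℂ)⁻¹))] at h
  have h2 : (aval (m χ) u * conj (aval (m χ) u) * (Nat.card P : ℂ)⁻¹) *
      ((∑ φ : B, (‖aval (m φ.1) u‖ : ℂ) ^ 2) * (Nat.card P : ℂ)⁻¹) =
      (aval (m χ) u * conj (aval (m χ) u) * (Nat.card P : ℂ)⁻¹) * 1 := by
    rw [mul_one]
    refine Eq.trans ?_ h
    rw [sum_mul, mul_sum]
    exact sum_congr rfl fun φ _ => by rw [← Complex.mul_conj']; ring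
  have h3 := mul_left_cancel₀ hne h2
  rw [mul_inv_eq_one₀ (Nat.cast_ne_zero.2 Nat.card_pos.ne')] at h3
  exact_mod_cast h3

/-- The identity on the members of the block. -/
theorem decomp (χ ψ : B) :
    (if χ = ψ then 1 else 0 : ℂ) =
      classInner (regPart p ((χ : IrrCharacter G) : G → ℂ))
        (regPart p ((ψ : IrrCharacter G) : G → ℂ)) +
      ((n : ℂ) * Nat.card P)⁻¹ * ∑ u ∈ univ.filter (fun u : P => u ≠ 1),
        aval (m χ.1) u * conj (aval (m ψ.1) u) := by
  have h := S.inner_decomp (χ := χ.1) (ψ := ψ.1) (Or.inl χ.2)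
  simp only [← Subtype.ext_iff] at h
  rw [h, mul_inv, mul_assoc]
  congr 2
  rw [mul_sum]
  exact sum_congr rfl fun u hu => by rw [V.contrib _ _ u (mem_filter.1 hu).2]; ring

/-- The norm of a combination of the members. -/
theorem norm_split (co : B → ℂ) :
    (Nat.card G : ℝ)⁻¹ * ∑ g : G,
        ‖regPart p (fun g => ∑ χ : B, co χ * ((χ : IrrCharacter G) : G → ℂ) g) g‖ ^ 2 +
      ((n : ℝ) * Nat.card P)⁻¹ * ∑ u ∈ univ.filter (fun u : P => u ≠ 1),
        ‖∑ χ : B, co χ * aval (m χ.1) u‖ ^ 2 =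
      ∑ χ : B, ‖co χ‖ ^ 2 := by
  suffices h : ((((Nat.card G : ℝ)⁻¹ * ∑ g : G,
        ‖regPart p (fun g => ∑ χ : B, co χ * ((χ : IrrCharacter G) : G → ℂ) g) g‖ ^ 2 : ℝ)) : ℂ) +
      ((n : ℂ) * Nat.card P)⁻¹ * ∑ u ∈ univ.filter (fun u : P => u ≠ 1),
        ((∑ χ : B, co χ * aval (m χ.1) u) * conj (∑ χ : B, co χ * aval (m χ.1) u)) =
      ∑ χ : B, co χ * conj (co χ) by
    simp only [Complex.mul_conj'] at h
    apply Complex.ofReal_injective
    push_cast at h ⊢
    exact h
  rw [← classInner_self_real]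
  have hF : regPart p (fun g => ∑ χ : B, co χ * ((χ : IrrCharacter G) : G → ℂ) g) =
      ∑ χ : B, co χ • regPart p ((χ : IrrCharacter G) : G → ℂ) := funext fun g => by
    rw [Finset.sum_apply]
    by_cases hg : p ∣ orderOf g
    · rw [regPart_of_dvd hg]
      exact (sum_eq_zero fun χ _ => by rw [Pi.smul_apply, regPart_of_dvd hg, smul_zero]).symm
    · rw [regPart_of_not_dvd hg]
      exact sum_congr rfl fun χ _ => by rw [Pi.smul_apply, regPart_of_not_dvd hg, smul_eq_mul]
  have hsq : ∀ u : P, (∑ χ : B, co χ * aval (m χ.1) u) * conj (∑ χ : B, co χ * aval (m χ.1) u) =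
      ∑ χ : B, ∑ ψ : B, co χ * conj (co ψ) * (aval (m χ.1) u * conj (aval (m ψ.1) u)) := fun u => by
    rw [map_sum, sum_mul_sum]
    exact sum_congr rfl fun χ _ => sum_congr rfl fun ψ _ => by rw [map_mul]; ring
  simp only [hsq]
  rw [hF, CfsgLib.Char.classInner_sum_left]
  simp only [CfsgLib.Char.classInner_sum_right, CfsgLib.Char.classInner_smul_left,
    CfsgLib.Char.classInner_smul_right, map_sum, map_mul, mul_sum, sum_mul]
  rw [sum_comm (s := univ.filter fun u : P => u ≠ 1), ← sum_add_distrib]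
  refine sum_congr rfl fun χ _ => ?_
  rw [sum_comm (s := univ.filter fun u : P => u ≠ 1)]
  have : co χ * conj (co χ) = ∑ ψ : B, co χ * conj (co ψ) * (if χ = ψ then 1 else 0) := by
    simp
  rw [this]
  simp only [decomp S V, mul_add, mul_sum, ← sum_add_distrib]
  rw [sum_add_distrib, sum_add_distrib]
  congr 1
  · exact sum_congr rfl fun ψ _ => by ring
  · exact sum_congr rfl fun ψ _ => sum_congr rfl fun u _ => by ring

/-- **The values are orthogonal, also to the regular parts.** -/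
theorem orth_aux {v : P} (hv : v ≠ 1) :
    (∀ u : P, u ≠ 1 → u ∉ (range n).image (fun l => S.act l v) →
      ∑ χ : B, aval (m χ.1) u * conj (aval (m χ.1) v) = 0) ∧
    ∀ g : G, ¬ p ∣ orderOf g →
      ∑ χ : B, conj (aval (m χ.1) v) * ((χ : IrrCharacter G) : G → ℂ) g = 0 := by
  set co : B → ℂ := fun χ => conj (aval (m χ.1) v) with hco
  have h := norm_split S V co
  have hco2 : ∑ χ : B, ‖co χ‖ ^ 2 = (Nat.card P : ℝ) := by
    rw [← sum_norm S V hv]
    exact sum_congr rfl fun χ _ => by rw [hco, Complex.norm_conj]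
  set T := (range n).image (fun l => S.act l v) with hT
  have hTsub : T ⊆ univ.filter (fun u : P => u ≠ 1) := fun u hu => by
    obtain ⟨l, -, rfl⟩ := mem_image.1 hu
    exact mem_filter.2 ⟨mem_univ _, act_ne_one S V hv l⟩
  have hTcard : T.card = n := by rw [hT, card_image_of_injOn (act_injOn S V hv), card_range]
  have hTval : ∀ u ∈ T, ‖∑ χ : B, co χ * aval (m χ.1) u‖ ^ 2 = (Nat.card P : ℝ) ^ 2 := by
    intro u hu
    obtain ⟨l, -, rfl⟩ := mem_image.1 hu
    have h1 : ∑ χ : B, co χ * aval (m χ.1) (S.act l v) = ((Nat.card P : ℝ) : ℂ) := by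
      rw [← sum_norm S V hv, Complex.ofReal_sum]
      refine sum_congr rfl fun χ _ => ?_
      rw [aval_act S V χ.1 hv, hco, Complex.ofReal_pow, ← Complex.mul_conj', mul_comm]
    rw [h1, Complex.norm_real, Real.norm_eq_abs, abs_of_nonneg (Nat.cast_nonneg _)]
  rw [hco2, ← sum_sdiff hTsub, sum_congr (s₁ := T) rfl hTval, sum_const, hTcard, nsmul_eq_mul,
    mul_add, ← add_assoc] at h
  have hn0 : (n : ℝ) ≠ 0 := Nat.cast_ne_zero.2 S.n_pos.ne'
  have hP0 : (Nat.card P : ℝ) ≠ 0 := Nat.cast_ne_zero.2 Nat.card_pos.ne'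
  rw [show ((n : ℝ) * Nat.card P)⁻¹ * ((n : ℝ) * (Nat.card P : ℝ) ^ 2) = (Nat.card P : ℝ) by
    field_simp] at h
  have h0 := add_eq_right.1 h
  obtain ⟨hA, hB'⟩ := (add_eq_zero_iff_of_nonneg
    (mul_nonneg (inv_nonneg.2 (Nat.cast_nonneg _)) (sum_nonneg fun _ _ => sq_nonneg _))
    (mul_nonneg (inv_nonneg.2 (mul_nonneg (Nat.cast_nonneg _) (Nat.cast_nonneg _)))
      (sum_nonneg fun _ _ => sq_nonneg _))).1 h0
  refine ⟨fun u hu huT => ?_, fun g hg => ?_⟩
  · have h1 := (sum_eq_zero_iff_of_nonneg fun _ _ => sq_nonneg _).1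
      ((mul_eq_zero.1 hB').resolve_left (inv_ne_zero (mul_ne_zero hn0 hP0))) u
      (mem_sdiff.2 ⟨mem_filter.2 ⟨mem_univ _, hu⟩, huT⟩)
    rw [← norm_eq_zero.1 ((pow_eq_zero_iff two_ne_zero).1 h1)]
    exact sum_congr rfl fun χ _ => mul_comm _ _
  · have h1 := (sum_eq_zero_iff_of_nonneg fun _ _ => sq_nonneg _).1
      ((mul_eq_zero.1 hA).resolve_left (inv_ne_zero (Nat.cast_ne_zero.2 Nat.card_pos.ne'))) g
      (mem_univ g)
    have h2 := norm_eq_zero.1 ((pow_eq_zero_iff two_ne_zero).1 h1)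
    rwa [regPart_of_not_dvd hg] at h2

/-- The inner products of the values. -/
theorem orth {u v : P} (hu : u ≠ 1) (hv : v ≠ 1) :
    ∑ χ : B, aval (m χ.1) u * conj (aval (m χ.1) v) =
      if u ∈ (range n).image (fun l => S.act l v) then (Nat.card P : ℂ) else 0 := by
  split_ifs with h
  · obtain ⟨l, -, rfl⟩ := mem_image.1 h
    rw [show (Nat.card P : ℂ) = ((Nat.card P : ℝ) : ℂ) by norm_num, ← sum_norm S V hv,
      Complex.ofReal_sum]
    exact sum_congr rfl fun χ _ => by
      rw [aval_act S V χ.1 hv, Complex.ofReal_pow, Complex.mul_conj']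
  · exact (orth_aux S V hv).1 u hu h

/-- Combinations killed by all values vanish on the singular elements. -/
theorem vanish (co : B → ℂ) (h : ∀ u : P, u ≠ 1 → ∑ χ : B, co χ * aval (m χ.1) u = 0)
    {g : G} (hg : p ∣ orderOf g) :
    ∑ χ : B, co χ * ((χ : IrrCharacter G) : G → ℂ) g = 0 := by
  letI := irrFintype (G := G)
  set F : G → ℂ := fun g => ∑ χ : B, co χ * ((χ : IrrCharacter G) : G → ℂ) g with hF
  have h1 := norm_split S V co
  rw [sum_eq_zero (s := univ.filter fun u : P => u ≠ 1) fun u hu => by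
    rw [h u (mem_filter.1 hu).2, norm_zero, zero_pow two_ne_zero], mul_zero, add_zero] at h1
  have h2 : classInner F F = ((∑ χ : B, ‖co χ‖ ^ 2 : ℝ) : ℂ) := by
    have hFc : F = comb B co := funext fun g => (comb_apply co g).symm
    rw [Complex.ofReal_sum]
    conv_lhs => arg 2; rw [show F = ∑ χ : B, co χ • ((χ : IrrCharacter G) : G → ℂ) from funext fun g => by
      rw [Finset.sum_apply]; rfl]
    rw [CfsgLib.Char.classInner_sum_right]
    refine sum_congr rfl fun χ _ => ?_
    rw [CfsgLib.Char.classInner_smul_right, hFc, classInner_comb, Complex.ofReal_pow,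
      ← Complex.mul_conj', mul_comm]
  rw [classInner_self_real] at h2
  have h3 := Complex.ofReal_injective h2
  rw [← h1] at h3
  have h4 := mul_left_cancel₀ (inv_ne_zero (Nat.cast_ne_zero.2 Nat.card_pos.ne')) h3
  have h5 : ∑ x : G, (‖F x‖ ^ 2 - ‖regPart p F x‖ ^ 2) = 0 := by
    rw [sum_sub_distrib, h4, sub_self]
  have h6 := (sum_eq_zero_iff_of_nonneg fun x _ => by
    by_cases hx : p ∣ orderOf x
    · rw [regPart_of_dvd hx, norm_zero, zero_pow two_ne_zero, sub_zero]; exact sq_nonneg _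
    · rw [regPart_of_not_dvd hx, sub_self]).1 h5 g (mem_univ g)
  rw [regPart_of_dvd hg, norm_zero, zero_pow two_ne_zero, sub_zero] at h6
  exact norm_eq_zero.1 ((pow_eq_zero_iff two_ne_zero).1 h6)

/-- **The number of members is the rank plus the number of orbits.** -/
theorem card_relation :
    n * Nat.card B + 1 = n * blockRank p B + Nat.card P := by
  have hM := S.hM
  have h1 : ∀ χ : B, classInner (regPart p ((χ : IrrCharacter G) : G → ℂ))
      (regPart p ((χ : IrrCharacter G) : G → ℂ)) = regMat p B χ χ := fun χ => by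
    rw [regMat, CfsgLib.Char.classInner_def, CfsgLib.Char.classInner_def]
    refine congrArg _ (sum_congr rfl fun g _ => ?_)
    by_cases hg : p ∣ orderOf g
    · rw [regPart_of_dvd hg, zero_mul, zero_mul]
    · rw [regPart_of_not_dvd hg]
  have hs := sum_congr (s₁ := (univ : Finset B)) rfl fun χ _ => decomp S V χ χ
  simp only [if_true, sum_const, card_univ, nsmul_eq_mul, mul_one, h1, sum_add_distrib,
    ← blockRank_eq_trace hM S.hB, ← mul_sum] at hs
  rw [sum_comm] at hs
  rw [sum_congr rfl fun u hu => show (∑ χ : B, aval (m χ.1) u * conj (aval (m χ.1) u)) =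
      ((Nat.card P : ℝ) : ℂ) from by
    rw [← sum_norm S V (mem_filter.1 hu).2, Complex.ofReal_sum]
    exact sum_congr rfl fun χ _ => by rw [Complex.ofReal_pow, Complex.mul_conj'],
    sum_const, nsmul_eq_mul, filter_ne' univ (1 : P), card_erase_of_mem (mem_univ _), card_univ,
    ← Nat.card_eq_fintype_card (α := P), ← Nat.card_eq_fintype_card (α := B),
    Complex.ofReal_natCast, Nat.cast_sub Nat.card_pos, Nat.cast_one] at hs
  have hn0 : (n : ℂ) ≠ 0 := Nat.cast_ne_zero.2 S.n_pos.ne'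
  have hP0 : (Nat.card P : ℂ) ≠ 0 := Nat.cast_ne_zero.2 Nat.card_pos.ne'
  field_simp at hs
  have : ((n * Nat.card B + 1 : ℕ) : ℂ) = ((n * blockRank p B + Nat.card P : ℕ) : ℂ) := by
    push_cast
    linear_combination hs
  exact_mod_cast this

end CycVals

end CfsgLib.Cyclic
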