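import Cfsg.Agent.BlocksB.Cyclic.Corner
import Cfsg.Agent.BlocksB.Cyclic.Lift
import Cfsg.Agent.BlocksB.InertialAbelian
import Cfsg.Agent.BrauerPairs.BlockSaturation

/-!
# The inertial index is at most the rank of a block with cyclic defect group
-/

set_option autoImplicit false
set_option linter.style.haveILetI false
set_option linter.unusedSectionVars false

namespace CfsgLib.Cyclic

open Cfsg Finset CfsgLib.Block CfsgLib.Block.Chr CfsgLib.BrauerPairs CfsgLib.BlockStar
  CfsgLib.BlockB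
open scoped Classical

universe u

variable {M : Ideal AlgInt} [M.IsPrime] {p : ℕ} [Fact p.Prime] [CharP (Residue M) p]
  {G : Type u} [Group G] [Fintype G]

local notation "𝕜" => Residue M
local notation "C[" Q "]" => Subgroup.centralizer (SetLike.coe Q)
local notation "N[" Q "]" => Subgroup.normalizer (SetLike.coe Q)

theorem emb_tr (L : Subgroup G) [Fintype L] (D : Subgroup L) (a : MonoidAlgebra 𝕜 L)
    (ha : FixBy D a) :
    tr (D.map L.subtype) L (emb L a) = emb L (tr D (⊤ : Subgroup L) a) := by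
  haveI : Fintype (L ⧸ (D.map L.subtype).subgroupOf L) := Fintype.ofFinite _
  haveI : Fintype ((⊤ : Subgroup L) ⧸ D.subgroupOf ⊤) := Fintype.ofFinite _
  have hsub : (D.map L.subtype).subgroupOf L = D :=
    Subgroup.comap_map_eq_self_of_injective L.subtype_injective D
  let φ : L ⧸ (D.map L.subtype).subgroupOf L → (⊤ : Subgroup L) ⧸ D.subgroupOf ⊤ :=
    fun q => ((⟨q.out, Subgroup.mem_top _⟩ : (⊤ : Subgroup L)) : (⊤ : Subgroup L) ⧸ D.subgroupOf ⊤)
  have hφ : Function.Bijective φ := by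
    refine ⟨fun q q' h => ?_, fun r => ⟨((r.out : L) : L ⧸ (D.map L.subtype).subgroupOf L), ?_⟩⟩
    · have h' : (q.out)⁻¹ * q'.out ∈ D :=
        Subgroup.mem_subgroupOf.1 (QuotientGroup.eq.1 h)
      rw [← QuotientGroup.out_eq' q, ← QuotientGroup.out_eq' q', QuotientGroup.eq]
      exact hsub.ge h'
    · obtain ⟨d, hd⟩ := QuotientGroup.mk_out_eq_mul ((D.map L.subtype).subgroupOf L) (r.out : L)
      conv_rhs => rw [← QuotientGroup.out_eq' r]
      refine QuotientGroup.eq.2 (Subgroup.mem_subgroupOf.2 ?_)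
      show (((r.out : L) : L ⧸ (D.map L.subtype).subgroupOf L).out)⁻¹ * (r.out : L) ∈ D
      rw [hd, mul_inv_rev, inv_mul_cancel_right]
      exact D.inv_mem (hsub.le d.2)
  rw [tr_apply, tr_apply, map_sum, ← (Equiv.ofBijective φ hφ).sum_comp]
  refine sum_congr rfl fun q _ => ?_
  rw [Equiv.ofBijective_apply, ← cj_rep ha (t := (⟨q.out, Subgroup.mem_top _⟩ : (⊤ : Subgroup L))) rfl,
    cj_emb]

/-- The conjugation automorphism of the group algebra of a normalized subgroup. -/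
noncomputable def conjAut (L : Subgroup G) (t : G) (ht : t ∈ N[L]) :
    MonoidAlgebra (Residue M) L ≃ₐ[Residue M] MonoidAlgebra (Residue M) L :=
  MonoidAlgebra.domCongr (Residue M) (Residue M)
    (L.normalizerMonoidHom ⟨t, ht⟩ : MulAut L)

theorem emb_conjAut (L : Subgroup G) [Fintype L] {t : G} (ht : t ∈ N[L])
    (a : MonoidAlgebra 𝕜 L) : emb L (conjAut L t ht a) = cj 𝕜 t (emb L a) := by
  refine coeff_ext fun g => ?_
  rw [coeff_cj]
  by_cases hg : g ∈ L
  · obtain ⟨g, rfl⟩ : ∃ h : L, (h : G) = g := ⟨⟨g, hg⟩, rfl⟩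
    rw [coeff_emb_coe]
    have hm : t⁻¹ * (g : G) * t ∈ L := ((Subgroup.mem_normalizer_iff''.1 ht) (g : G)).1 g.2
    rw [show t⁻¹ * (g : G) * t = ((⟨_, hm⟩ : L) : G) from rfl, coeff_emb_coe]
    have he : (L.normalizerMonoidHom ⟨t, ht⟩ : MulAut L).symm g = ⟨_, hm⟩ := by
      rw [MulEquiv.symm_apply_eq]
      refine Subtype.ext ?_
      show (g : G) = t * (t⁻¹ * (g : G) * t) * t⁻¹
      group
    rw [← he]
    simp [conjAut]
  · rw [coeff_emb_not_mem L _ hg, coeff_emb_not_mem L _ fun h => hg ?_]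
    simpa [mul_assoc] using ((Subgroup.mem_normalizer_iff.1 ht) _).1 h

variable {B : Set (IrrCharacter G)} {P : Subgroup G} {c : Set (IrrCharacter C[P])}

/-- A generator of the inertial quotient of order prime to `p`. -/
theorem exists_inertial_generator (hM : IsPModular p M) (hB : IsPBlock M B)
    {e : MonoidAlgebra 𝕜 G} (hP : IsPair p (P, e)) (hmax : IsMaxPair p (idem M B) (P, e))
    (hcyc : IsCyclic P) (hP1 : P ≠ ⊥) :
    ∃ t ∈ stab P e, ¬ p ∣ orderOf t ∧
      t ^ (C[P] : Subgroup G).relIndex (stab P e) ∈ C[P] ∧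
      (∀ l, 0 < l → l < (C[P] : Subgroup G).relIndex (stab P e) → t ^ l ∉ C[P]) ∧
      ∀ g ∈ stab P e, ∃ l : ℕ, ∃ d ∈ C[P], g = t ^ l * d := by
  set T := stab P e
  have hab : ∀ a ∈ P, ∀ b ∈ P, a * b = b * a := by
    letI := hcyc.commGroup
    exact fun a ha b hb => congrArg Subtype.val (mul_comm (⟨a, ha⟩ : P) ⟨b, hb⟩)
  haveI hN : ((C[P] : Subgroup G).subgroupOf T).Normal :=
    (Subgroup.normal_subgroupOf_iff_le_normalizer (centralizer_le_stab hP)).mpr
      stab_le_normalizer_centralizer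
  set K := (C[P] : Subgroup G).subgroupOf T with hK
  obtain ⟨⟨q, hq⟩⟩ := (Inertial.cyclic_quotient hM hB hP hmax hcyc hP1).1
  obtain ⟨s, rfl⟩ := QuotientGroup.mk_surjective q
  obtain ⟨x, t, hxt, hs⟩ := exists_pElt p s
  obtain ⟨j, hj⟩ := hxt.pow
  have hxK : x ∈ K := Subgroup.mem_subgroupOf.2
    (Inertial.mem_centralizer_of_pow hM hB hP hmax hab x.2 (n := j) (by
      rw [← SubgroupClass.coe_pow, hj]; exact (C[P]).one_mem))
  have hst : (s : T ⧸ K) = (t : T ⧸ K) := by
    rw [← hs, QuotientGroup.mk_mul, (QuotientGroup.eq_one_iff x).2 hxK, one_mul]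
  rw [hst] at hq
  have hord : orderOf (t : T ⧸ K) = (C[P] : Subgroup G).relIndex T :=
    orderOf_eq_card_of_forall_mem_zpowers hq
  refine ⟨t, t.2, by rw [Subgroup.orderOf_coe]; exact hxt.reg, ?_, fun l hl hln hmem => ?_,
    fun g hg => ?_⟩
  · rw [← SubgroupClass.coe_pow, ← Subgroup.mem_subgroupOf, ← QuotientGroup.eq_one_iff,
      QuotientGroup.mk_pow, ← hord]
    exact pow_orderOf_eq_one _
  · rw [← SubgroupClass.coe_pow, ← Subgroup.mem_subgroupOf, ← QuotientGroup.eq_one_iff,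
      QuotientGroup.mk_pow, ← orderOf_dvd_iff_pow_eq_one, hord] at hmem
    exact absurd (Nat.le_of_dvd hl hmem) (not_le.2 hln)
  · obtain ⟨l, hl⟩ := (isOfFinOrder_of_finite (t : T ⧸ K)).mem_powers_iff_mem_zpowers.2
      (hq ((⟨g, hg⟩ : T) : T ⧸ K))
    have hl' : (((t ^ l : T)) : T ⧸ K) = ((⟨g, hg⟩ : T) : T ⧸ K) := hl
    refine ⟨l, _, Subgroup.mem_subgroupOf.1 (QuotientGroup.eq.1 hl'), ?_⟩
    simp

/-- A subgroup of prime order in a cyclic `p`-group lies below every nontrivial element. -/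
theorem le_zpowers_of_cyclic (hPp : IsPGroup p P) (hcyc : IsCyclic P) {Z : Subgroup G}
    (hZP : Z ≤ P) (hZ : Nat.card Z = p) {d : G} (hd : d ∈ P) (hd1 : d ≠ 1) :
    Z ≤ Subgroup.zpowers d := by
  haveI := Fintype.ofFinite P
  obtain ⟨z', hz'⟩ := exists_prime_orderOf_dvd_card' (G := Subgroup.zpowers d) p (by
    rw [Nat.card_zpowers]
    obtain ⟨j, hj⟩ := IsPGroup.iff_orderOf.1 hPp ⟨d, hd⟩
    rw [Subgroup.orderOf_mk] at hj
    rw [hj]
    exact dvd_pow_self p fun h => hd1 (orderOf_eq_one_iff.1 (by rw [hj, h, pow_zero])))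
  set W := Subgroup.zpowers (z' : G)
  have hWd : W ≤ Subgroup.zpowers d := Subgroup.zpowers_le.2 z'.2
  have hWP : W ≤ P := hWd.trans (Subgroup.zpowers_le.2 hd)
  have hW : Nat.card W = p := by rw [Nat.card_zpowers, Subgroup.orderOf_coe, hz']
  suffices Z = W by rw [this]; exact hWd
  have hsub : ∀ Y : Subgroup G, Y ≤ P → Nat.card Y = p →
      (Y.subgroupOf P : Set P) = ↑(univ.filter fun a : P => a ^ p = 1) := by
    intro Y hY hc
    have h1 : (Y.subgroupOf P : Set P).toFinset ⊆ univ.filter fun a : P => a ^ p = 1 := by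
      intro a ha
      rw [Set.mem_toFinset, SetLike.mem_coe, Subgroup.mem_subgroupOf] at ha
      refine mem_filter.2 ⟨mem_univ _, Subtype.ext ?_⟩
      have := congrArg Subtype.val (pow_card_eq_one' (x := (⟨(a : G), ha⟩ : Y)))
      rw [hc] at this
      simpa using this
    have h2 : (univ.filter fun a : P => a ^ p = 1).card ≤ (Y.subgroupOf P : Set P).toFinset.card := by
      rw [Set.toFinset_card, ← Nat.card_eq_fintype_card, SetLike.coe_sort_coe,
        Nat.card_congr (Subgroup.subgroupOfEquivOfLe hY).toEquiv, hc]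
      haveI := hcyc
      exact IsCyclic.card_pow_eq_one_le (Fact.out : p.Prime).pos
    rw [← Finset.eq_of_subset_of_card_le h1 h2, Set.coe_toFinset]
  refine Subgroup.ext fun g => ?_
  have h := (hsub Z hZP hZ).trans (hsub W hWP hW).symm
  refine ⟨fun hg => ?_, fun hg => ?_⟩
  · exact (Set.ext_iff.1 h (⟨g, hZP hg⟩ : P)).1 hg
  · exact (Set.ext_iff.1 h (⟨g, hWP hg⟩ : P)).2 hg

/-- **The stabilizer of a subpair is the centralizer times the inertial group.** -/
theorem stab_decomp (hM : IsPModular p M) (hB : IsPBlock M B)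
    (hP : IsPair p (P, idemIn M C[P] c)) (hmax : IsMaxPair p (idem M B) (P, idemIn M C[P] c))
    (hcyc : IsCyclic P) {t : G} (htT : t ∈ stab P (idemIn M C[P] c))
    (htgen : ∀ g ∈ stab P (idemIn M C[P] c), ∃ l : ℕ, ∃ d ∈ C[P], g = t ^ l * d)
    {Z : Subgroup G} (hZP : Z ≤ P) {f : Set (IrrCharacter C[Z])}
    (hf : IsInducedBlockIn M C[Z] C[P] c f) {g : G} (hgN : g ∈ N[Z])
    (hgf : cj 𝕜 g (idemIn M C[Z] f) = idemIn M C[Z] f) :
    ∃ l : ℕ, ∃ d ∈ (C[Z] : Subgroup G), g = t ^ l * d := by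
    have hab : ∀ a ∈ P, ∀ b ∈ P, a * b = b * a := by
      letI := hcyc.commGroup
      exact fun a ha b hb => congrArg Subtype.val (mul_comm (⟨a, ha⟩ : P) ⟨b, hb⟩)
    haveI := Fintype.ofFinite (C[Z] : Subgroup G)
    have hPC : P ≤ C[Z] := fun x hx =>
      Subgroup.mem_centralizer_iff.mpr fun y hy => hab y (hZP hy) x hx
    have hCC : C[P] ≤ C[Z] := Subgroup.centralizer_le (SetLike.coe_subset_coe.mpr hZP)
    obtain ⟨e', hee', hP', hmax'⟩ := Inertial.local_maxPair hM hB hP hmax hab hZP hf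
    have htNC : t ∈ N[C[Z]] :=
      map_normalizer_centralizer (Inertial.le_normalizer_of_cyclic hcyc hZP htT)
    have hle := Inertial.ple_of_inducedIn hM hP hab hZP hf
    set e := idemIn M C[P] c
    set T := stab P e
    set P' := P.subgroupOf C[Z]
    have hmapP : P'.map (C[Z] : Subgroup G).subtype = P := Subgroup.map_subgroupOf_eq_of_le hPC
    have hm : Nat.card P' = Nat.card P := Nat.card_congr (Subgroup.subgroupOfEquivOfLe hPC).toEquiv
    set gP := P.map (MulAut.conj g).toMonoidHom with hgP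
    have hgPC : gP ≤ C[Z] := by
      rintro _ ⟨y, hy, rfl⟩
      exact ((Subgroup.mem_normalizer_iff.1 (map_normalizer_centralizer hgN)) y).1 (hPC hy)
    have hgPair : IsPair p (gP, cj 𝕜 g e) := hP.cj g
    have hcen : C[gP] ≤ C[Z] := by
      rw [hgP, ← map_conj_centralizer]
      rintro _ ⟨y, hy, rfl⟩
      exact ((Subgroup.mem_normalizer_iff.1 (map_normalizer_centralizer hgN)) y).1 (hCC hy)
    set e'' := restr (C[Z] : Subgroup G) (cj 𝕜 g e)
    have he'' : emb C[Z] e'' = cj 𝕜 g e := emb_restr _ (hgPair.suppIn.mono hcen)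
    set gP' := gP.subgroupOf C[Z]
    have hmapg : gP'.map (C[Z] : Subgroup G).subtype = gP := Subgroup.map_subgroupOf_eq_of_le hgPC
    have hep : embPair (C[Z] : Subgroup G) (gP', e'') = (gP, cj 𝕜 g e) := Prod.ext hmapg he''
    have hgP' : IsPair p (gP', e'') :=
      (isPair_embPair_iff _ (by rw [hmapg]; exact hcen)).mp (hep ▸ hgPair)
    have hof : IsPairOf p (idem M f) (gP', e'') := by
      refine ⟨hgP', emb_injective (C[Z] : Subgroup G) ?_⟩
      rw [map_mul, ← br_emb_eq, hmapg, ← idemIn_eq, he'']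
      have hstep : NStep p (Z, idemIn M C[Z] f) (P, e) :=
        PLE.nstep_of_le_normalizer hP hle (hPC.trans (centralizer_le_normalizer Z))
      have h1 := congrArg (cj 𝕜 g) hstep.2.2.2.2.2
      rw [map_mul, cj_br, hgf, ← hgP] at h1
      exact h1
    obtain ⟨d, hd⟩ := exists_conj_ple_max (isBlk_idem hM hf.2.1) hmax' hof
    have heq : (cjPair d (gP', e'')).1 = P' := by
      refine Subgroup.eq_of_le_of_card_ge hd.le (le_of_eq ?_)
      show Nat.card P' = Nat.card (gP'.map (MulAut.conj d).toMonoidHom)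
      rw [Subgroup.card_map_of_injective (MulAut.conj d).injective, hm,
        Nat.card_congr (Subgroup.subgroupOfEquivOfLe hgPC).toEquiv, hgP,
        Subgroup.card_map_of_injective (MulAut.conj g).injective]
    have h2 : cjPair d (gP', e'') = (P', e') := PLE.eq_of_eq hd heq
    have h3 := congrArg (embPair (C[Z] : Subgroup G)) h2
    rw [← cjPair_embPair, hep, show (gP, cj 𝕜 g e) = cjPair g (P, e) from rfl, ← cjPair_mul,
      show embPair (C[Z] : Subgroup G) (P', e') = (P, e) from Prod.ext hmapP hee'] at h3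
    have hT' : (d : G) * g ∈ T := by
      refine ⟨?_, congrArg Prod.snd h3⟩
      rw [Subgroup.mem_normalizer_iff]
      intro a
      have hm3 : P.map (MulAut.conj ((d : G) * g)).toMonoidHom = P := congrArg Prod.fst h3
      conv_rhs => rw [← hm3]
      exact (Subgroup.mem_map_iff_mem (f := (MulAut.conj ((d : G) * g)).toMonoidHom)
        (MulAut.conj _).injective).symm
    obtain ⟨l, y, hy, hly⟩ := htgen _ hT'
    refine ⟨l, (t ^ l)⁻¹ * (d : G)⁻¹ * t ^ l * y, mul_mem ?_ (hCC hy), ?_⟩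
    · have htlN : t ^ l ∈ (N[C[Z]] : Subgroup G) := pow_mem htNC l
      exact ((Subgroup.mem_normalizer_iff''.1 htlN) _).1 ((C[Z]).inv_mem d.2)
    · rw [show g = (d : G)⁻¹ * ((d : G) * g) by group, hly]; group

/-- **The inertial index is at most the rank.** -/
theorem inertial_le_rank (hM : IsPModular p M) (hB : IsPBlock M B)
    (hPD : IsDefectGroup p M B P) (hcyc : IsCyclic P) (hP1 : P ≠ ⊥)
    (hc : IsInducedBlock M C[P] c B) :
    (C[P] : Subgroup G).relIndex (stab P (idemIn M C[P] c)) ≤ blockRank p B := by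
  have hp : p.Prime := Fact.out
  have hab : ∀ a ∈ P, ∀ b ∈ P, a * b = b * a := by
    letI := hcyc.commGroup
    exact fun a ha b hb => congrArg Subtype.val (mul_comm (⟨a, ha⟩ : P) ⟨b, hb⟩)
  obtain ⟨hP, hmax⟩ := Inertial.maxPair_of_induced hM hB hPD hab hc
  have hb := isBlk_idem hM hB
  obtain ⟨t, htT, htreg, htn, htl, htgen⟩ := exists_inertial_generator hM hB hP hmax hcyc hP1
  set e := idemIn M C[P] c
  set T := stab P e
  set n := (C[P] : Subgroup G).relIndex T
  -- the subgroup of order `p`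
  obtain ⟨k, hk⟩ := IsPGroup.iff_card.mp hP.1
  have hk0 : k ≠ 0 := fun h => hP1 (Subgroup.card_eq_one.mp (by rw [hk, h, pow_zero]))
  obtain ⟨⟨z, hz⟩, hzo⟩ := exists_prime_orderOf_dvd_card' (G := P) p (hk ▸ dvd_pow_self p hk0)
  rw [Subgroup.orderOf_mk] at hzo
  set Z := Subgroup.zpowers z
  have hz1 : z ≠ 1 := fun h => hp.ne_one (by rw [← hzo, h, orderOf_one])
  have hZP : Z ≤ P := Subgroup.zpowers_le.mpr hz
  have hZc : Nat.card Z = p := by rw [Nat.card_zpowers, hzo]
  have hPC : P ≤ C[Z] := fun x hx => Subgroup.mem_centralizer_iff.mpr fun y hy => hab y (hZP hy) x hx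
  have hCC : C[P] ≤ C[Z] := Subgroup.centralizer_le (SetLike.coe_subset_coe.mpr hZP)
  have hTN : T ≤ N[Z] := Inertial.le_normalizer_of_cyclic hcyc hZP
  have hfree : ∀ s ∈ T, s ∈ (C[Z] : Subgroup G) → s ∈ (C[P] : Subgroup G) := fun s hs hsZ =>
    Inertial.free_of_cyclic hM hB hP hmax hcyc s hs z hz hz1 (mul_inv_eq_iff_eq_mul.2
      (Subgroup.mem_centralizer_iff.1 hsZ z (Subgroup.mem_zpowers z)).symm)
  -- the block of the centralizer
  obtain ⟨f, hf⟩ := Inertial.exists_inducedIn hM hP.1 hc.1 hab hZP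
  haveI := Fintype.ofFinite (C[Z] : Subgroup G)
  obtain ⟨e', hee', hP', hmax'⟩ := Inertial.local_maxPair hM hB hP hmax hab hZP hf
  have hnil : IsNil p (idem M f) :=
    ((isNilpotentBlock_iff hM).1 (Inertial.isNilpotentBlock_local hM hB hP hmax hab hZP hfree hf)).2
  have hfblk : IsBlk 𝕜 C[Z] (idemIn M C[Z] f) := isBlk_idemIn hM hf.2.1
  set P' := P.subgroupOf C[Z]
  have hmapP : P'.map (C[Z] : Subgroup G).subtype = P := Subgroup.map_subgroupOf_eq_of_le hPC
  have hle := Inertial.ple_of_inducedIn hM hP hab hZP hf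
  have hQf : IsPairOf p (idem M B) (Z, idemIn M C[Z] f) :=
    (isPairOf_iff_of_ple hb hle hP).mpr hmax.1
  have htf : cj 𝕜 t (idemIn M C[Z] f) = idemIn M C[Z] f := by
    have h1 := PLE.cj hle t
    have h2 : cjPair t (P, e) = (P, e) := Prod.ext (map_conj_eq_self htT.1) htT.2
    rw [h2] at h1
    have h3 : cjPair t (Z, idemIn M C[Z] f) = (Z, cj 𝕜 t (idemIn M C[Z] f)) :=
      Prod.ext (map_conj_eq_self (hTN htT)) rfl
    rw [h3] at h1
    exact (existsUnique_ple hP hZP).unique h1 hle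
  -- the automorphism
  have htNC : t ∈ N[C[Z]] := map_normalizer_centralizer (hTN htT)
  set σ := conjAut (M := M) (C[Z] : Subgroup G) t htNC
  set o := orderOf t
  have ho : (o : 𝕜) ≠ 0 := by
    rw [Ne, CharP.cast_eq_zero_iff 𝕜 p]; exact htreg
  have hpow : ∀ (j : ℕ) a, emb C[Z] ((σ ^ j) a) = cj 𝕜 (t ^ j) (emb C[Z] a) := fun j => by
    induction j with
    | zero => simp
    | succ j ih =>
      intro a
      rw [pow_succ' σ, AlgEquiv.mul_apply, emb_conjAut, ih, pow_succ' t, cj_mul]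
  have hσo : σ ^ o = 1 := AlgEquiv.ext fun a => emb_injective _ (by
    rw [hpow, pow_orderOf_eq_one, cj_one, AlgEquiv.one_apply])
  have hσf : σ (idem M f) = idem M f := emb_injective _ (by
    rw [emb_conjAut, ← idemIn_eq, htf])
  have hPne : P' ≠ ⊥ := fun h => hP1 (by rw [← hmapP, h, Subgroup.map_bot])
  haveI hcyc' : IsCyclic P' :=
    isCyclic_of_surjective _ (Subgroup.subgroupOfEquivOfLe hPC).symm.surjective
  obtain ⟨i, x, ζ, hii, hfi, hσi, hxc, hxf, hσx, hζ, hxm, htop, hgen, hcorner⟩ :=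
    exists_corner hM hf.2.1 hnil hmax' hcyc' hPne σ ho hσo hσf
  have hm : Nat.card P' = Nat.card P := Nat.card_congr (Subgroup.subgroupOfEquivOfLe hPC).toEquiv
  rw [hm] at hxm htop
  have hm1 : 1 < Nat.card P := Finite.one_lt_card_iff_nontrivial.2
    ((Subgroup.nontrivial_iff_ne_bot P).2 hP1)
  have hsupp : ∀ a : MonoidAlgebra 𝕜 (C[Z] : Subgroup G), SuppIn C[Z] (emb C[Z] a) :=
    fun a g hg => coeff_emb_not_mem _ a hg
  have hfc : ∀ y : MonoidAlgebra 𝕜 (C[Z] : Subgroup G), Commute (idem M f) y := fun y =>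
    (alg_commute le_rfl (suppIn_top y) (isBlk_idem hM hf.2.1).mem.2).symm
  have hlift : ∀ {a : MonoidAlgebra 𝕜 G}, SuppIn C[Z] a →
      ∃ a', emb C[Z] a' = a := fun ha => ⟨_, emb_restr _ ha⟩
  have L : LocalData (idem M B) (idemIn M C[Z] f) (emb C[Z] i) (emb C[Z] x) Z (Nat.card P) := by
    refine ⟨hb.idem, fun y => (alg_commute le_rfl (suppIn_top y) hb.mem.2).symm, hQf.2,
      hfblk.suppIn, hfblk.idem, fun y hy => ?_, hsupp _, by rw [← map_mul, hii],
      by rw [idemIn_eq, ← map_mul, hfi], hsupp _, fun y hy => ?_, hm1,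
      by rw [← map_pow, hxm, map_zero],
      fun h => htop (emb_injective _ (by rw [map_mul, map_pow, h, map_zero])), ?_, fun y hy => ?_,
      fun y hy hxy hfy => ?_⟩
    · obtain ⟨y', rfl⟩ := hlift hy
      rw [idemIn_eq]
      exact (hfc y').map _
    · obtain ⟨y', rfl⟩ := hlift hy
      exact (hxc y').map _
    · obtain ⟨N, a, d, had⟩ := hgen
      refine ⟨N, fun j => emb C[Z] (a j), fun j => emb C[Z] (d j), fun j => hsupp _, fun j => hsupp _, ?_⟩
      rw [idemIn_eq, ← had, map_sum]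
      simp [map_mul]
    · obtain ⟨y', rfl⟩ := hlift hy
      obtain ⟨Q, hQ⟩ := hcorner y'
      refine ⟨Q, ?_⟩
      rw [← map_mul, ← map_mul, hQ, map_mul, Polynomial.aeval_algHom_apply]
    · obtain ⟨y', rfl⟩ := hlift hy
      obtain ⟨z', hz'⟩ := corner_ker (f := idem M f) (y := y') hii hxc (by omega : 0 < Nat.card P) hxm
        htop hgen hcorner (emb_injective _ (by rw [map_mul, hxy, map_zero]))
        (emb_injective _ (by rw [map_mul, map_mul, ← idemIn_eq, hfy]))
      exact ⟨emb C[Z] z', by rw [hz', map_mul, map_pow]⟩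
  -- the trace form of the block
  obtain ⟨-, -, ⟨w, hw, hfw⟩, -⟩ := hmax'.isDef (isBlk_idem hM hf.2.1)
  have hwP : FixBy P (emb C[Z] w) := fun d hd => by
    have h1 := cj_emb (k := 𝕜) C[Z] (⟨d, hPC hd⟩ : (C[Z] : Subgroup G)) w
    rw [hw.2 _ (Subgroup.mem_subgroupOf.2 hd)] at h1
    exact h1
  have htr : tr P C[Z] (emb C[Z] w) = idemIn M C[Z] f := by
    rw [idemIn_eq, hfw, ← emb_tr _ P' w hw.2, hmapP]
  -- the stabilizer
  have hstab : ∀ g ∈ (N[Z] : Subgroup G),
      cj 𝕜 g (idemIn M C[Z] f) * idemIn M C[Z] f ≠ 0 →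
      ∃ l : ℕ, ∃ d ∈ (C[Z] : Subgroup G), g = t ^ l * d := by
    intro g hgN hne
    have hgf : cj 𝕜 g (idemIn M C[Z] f) = idemIn M C[Z] f := by
      by_contra h
      exact hne ((hfblk.cj_of_mem (map_normalizer_centralizer hgN)).mul_eq_zero_of_ne
        (alg_comm le_rfl) hfblk h)
    exact stab_decomp hM hB hP hmax hcyc htT htgen hZP hf hgN hgf
  refine le_blockRank hM hB L hZc (t := t) (ζ := ζ) (o := o) (hTN htT) htf ?_ ?_ hζ ho
    (pow_orderOf_eq_one t) ?_ (hCC htn) (fun l hl hln h => htl l hl hln (hfree _ (pow_mem htT l) h))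
    hstab hPC (fun d hd hd1 => le_zpowers_of_cyclic hP.1 hcyc hZP hZc hd hd1) hZP (hsupp w) hwP htr
  · rw [← emb_conjAut _ htNC, hσi]
  · rw [← emb_conjAut _ htNC, hσx, map_smul]
  · exact Nat.pos_of_ne_zero Subgroup.index_ne_zero_of_finite

end CfsgLib.Cyclic
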