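import Cfsg.Agent.BlocksB.Cyclic.Vectors
import Cfsg.Agent.BrauerPairs.Pairs

/-!
# Local data and the starting vectors
-/

set_option autoImplicit false
set_option linter.style.haveILetI false
set_option linter.unusedSectionVars false

namespace CfsgLib.Cyclic

open Module MonoidAlgebra Finset CfsgLib.BrauerPairs
open scoped Classical

universe u v

variable {k : Type v} [Field k] {G : Type u} [Group G] [Fintype G]

local notation "C[" Q "]" => Subgroup.centralizer (SetLike.coe Q)

theorem suppIn_mul {H : Subgroup G} {a b : MonoidAlgebra k G} (ha : SuppIn H a) (hb : SuppIn H b) :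
    SuppIn H (a * b) := fun g hg => by
  rw [BrauerPairs.coeff_mul]
  refine Finset.sum_eq_zero fun x _ => ?_
  by_cases hx : x ∈ H
  · rw [hb _ fun h => hg (by simpa using H.mul_mem hx h), mul_zero]
  · rw [ha x hx, zero_mul]

theorem suppIn_single {H : Subgroup G} {g : G} (hg : g ∈ H) (c : k) : SuppIn H (single g c) :=
  fun h hh => by
    rw [coeff_single_apply, if_neg]
    exact fun e => hh (e ▸ hg)

theorem suppIn_pow {H : Subgroup G} {a : MonoidAlgebra k G} (ha : SuppIn H a) :
    ∀ n : ℕ, SuppIn H (a ^ n)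
  | 0 => by rw [pow_zero, one_def]; exact suppIn_single H.one_mem 1
  | n + 1 => by rw [pow_succ]; exact suppIn_mul (suppIn_pow ha n) ha

theorem suppIn_aeval {H : Subgroup G} {x : MonoidAlgebra k G} (hx : SuppIn H x) (P : Polynomial k) :
    SuppIn H (Polynomial.aeval x P) := fun g hg => by
  rw [Polynomial.aeval_eq_sum_range, coeff_sum, Finsupp.finsetSum_apply]
  exact Finset.sum_eq_zero fun j _ => by simp [suppIn_pow hx j g hg]

theorem br_mul_right_supp {Z : Subgroup G} {y : MonoidAlgebra k G} (hy : SuppIn C[Z] y)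
    (a : MonoidAlgebra k G) : br Z (a * y) = br Z a * y := coeff_ext fun g => by
  rw [coeff_br, BrauerPairs.coeff_mul, BrauerPairs.coeff_mul]
  split_ifs with hg
  · refine Finset.sum_congr rfl fun x _ => ?_
    by_cases hx : x ∈ C[Z]
    · rw [coeff_br_of_mem a hx]
    · rw [coeff_br, if_neg hx, zero_mul, hy _ fun h => hx ?_, mul_zero]
      simpa [mul_inv_rev] using (C[Z]).mul_mem hg ((C[Z]).inv_mem h)
  · refine (Finset.sum_eq_zero fun x _ => ?_).symm
    by_cases hx : x ∈ C[Z]
    · rw [hy _ fun h => hg (by simpa using (C[Z]).mul_mem hx h), mul_zero]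
    · rw [coeff_br, if_neg hx, zero_mul]

theorem br_mul_left_supp {Z : Subgroup G} {y : MonoidAlgebra k G} (hy : SuppIn C[Z] y)
    (a : MonoidAlgebra k G) : br Z (y * a) = y * br Z a := coeff_ext fun g => by
  rw [coeff_br, BrauerPairs.coeff_mul, BrauerPairs.coeff_mul]
  split_ifs with hg
  · refine Finset.sum_congr rfl fun x _ => ?_
    by_cases hx : x ∈ C[Z]
    · rw [coeff_br_of_mem a ((C[Z]).mul_mem ((C[Z]).inv_mem hx) hg)]
    · rw [hy x hx, zero_mul, zero_mul]
  · refine (Finset.sum_eq_zero fun x _ => ?_).symm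
    by_cases hx : x ∈ C[Z]
    · rw [coeff_br, if_neg fun h => hg (by simpa using (C[Z]).mul_mem hx h), mul_zero]
    · rw [hy x hx, zero_mul]

/-- The data of a block `f` of the centralizer of `Z` below `b`, with a corner `i` and a uniserial
central element `x`. -/
structure LocalData (b f i x : MonoidAlgebra k G) (Z : Subgroup G) (m : ℕ) : Prop where
  b_idem : b * b = b
  b_central : ∀ y, Commute b y
  b_f : br Z b * f = f
  f_supp : SuppIn C[Z] f
  f_idem : f * f = f
  f_central : ∀ y, SuppIn C[Z] y → Commute f y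
  i_supp : SuppIn C[Z] i
  i_idem : i * i = i
  f_i : f * i = i
  x_supp : SuppIn C[Z] x
  x_central : ∀ y, SuppIn C[Z] y → Commute x y
  one_lt : 1 < m
  x_pow : x ^ m = 0
  top : x ^ (m - 1) * i ≠ 0
  gen : ∃ (n : ℕ) (a c : Fin n → MonoidAlgebra k G), (∀ j, SuppIn C[Z] (a j)) ∧
    (∀ j, SuppIn C[Z] (c j)) ∧ ∑ j, a j * i * c j = f
  corner : ∀ y, SuppIn C[Z] y → ∃ P : Polynomial k, i * y * i = Polynomial.aeval x P * i
  ker : ∀ y, SuppIn C[Z] y → x * y = 0 → f * y * f = y → ∃ z, y = x ^ (m - 1) * z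

namespace LocalData

variable {b f i x : MonoidAlgebra k G} {Z : Subgroup G} {m : ℕ} (L : LocalData b f i x Z m)
include L

theorem xi : Commute x i := L.x_central i L.i_supp

theorem i_not_mem : i ∉ Submodule.span (MonoidAlgebra k G) {x} := by
  intro h
  obtain ⟨y, hy⟩ := Submodule.mem_span_singleton.1 h
  have h1 : i = br Z y * x := by
    rw [← br_mul_right_supp L.x_supp, ← smul_eq_mul, hy, br_eq_self L.i_supp]
  have h2 : ∀ j : ℕ, i = br Z y ^ (j + 1) * x ^ (j + 1) := fun j => by
    induction j with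
    | zero => simpa using h1
    | succ j ih =>
      conv_lhs => rw [← L.i_idem]
      conv_lhs => congr; rw [h1]
      conv_lhs => enter [2]; rw [ih]
      rw [mul_assoc, ← mul_assoc x, ((L.x_central _ (suppIn_br y)).pow_right _).eq, mul_assoc,
        ← mul_assoc, ← pow_succ', ← pow_succ']
  refine L.top ?_
  obtain ⟨j, hj⟩ := Nat.exists_eq_add_of_le L.one_lt
  rw [h2 (m - 1), show m - 1 + 1 = m by omega, L.x_pow, mul_zero, mul_zero]

theorem poly_mem (P : Polynomial k) :
    Polynomial.aeval x P * i - P.coeff 0 • i ∈ Submodule.span (MonoidAlgebra k G) {x} := by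
  refine Submodule.mem_span_singleton.2 ⟨Polynomial.aeval x P.divX * i, ?_⟩
  have h : Commute x (Polynomial.aeval x P.divX * i) :=
    L.x_central _ (suppIn_mul (suppIn_aeval L.x_supp _) L.i_supp)
  conv_rhs => arg 1; rw [← Polynomial.X_mul_divX_add P]
  rw [smul_eq_mul, map_add, map_mul, Polynomial.aeval_X, Polynomial.aeval_C, add_mul,
    ← Algebra.smul_def, add_sub_cancel_right, mul_assoc x, h.eq]

theorem exists_coeff {y : MonoidAlgebra k G} (hy : SuppIn C[Z] y) :
    ∃ c : k, i * y * i - c • i ∈ Submodule.span (MonoidAlgebra k G) {x} := by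
  obtain ⟨P, hP⟩ := L.corner y hy
  exact ⟨P.coeff 0, hP ▸ L.poly_mem P⟩

theorem coeff_unique {c c' : k} {y : MonoidAlgebra k G}
    (h : y - c • i ∈ Submodule.span (MonoidAlgebra k G) {x})
    (h' : y - c' • i ∈ Submodule.span (MonoidAlgebra k G) {x}) : c = c' := by
  by_contra hne
  have h2 : (c' - c) • i ∈ Submodule.span (MonoidAlgebra k G) {x} := by
    have := sub_mem h h'
    rwa [sub_sub_sub_cancel_left, ← sub_smul] at this
  refine L.i_not_mem ?_
  have h3 := Submodule.smul_of_tower_mem _ (c' - c)⁻¹ h2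
  rwa [inv_smul_smul₀ (sub_ne_zero.2 (Ne.symm hne))] at h3

/-- Powers of corner elements multiply their constant terms. -/
theorem coeff_pow {y : MonoidAlgebra k G} (hy : SuppIn C[Z] y) (hyi : Commute y i) {c : k}
    (hc : i * y * i - c • i ∈ Submodule.span (MonoidAlgebra k G) {x}) :
    ∀ j : ℕ, y ^ j * i - c ^ j • i ∈ Submodule.span (MonoidAlgebra k G) {x} := by
  intro j
  have hc' : y * i - c • i ∈ Submodule.span (MonoidAlgebra k G) {x} := by
    rwa [← hyi.eq, mul_assoc, L.i_idem] at hc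
  induction j with
  | zero => simp
  | succ j ih =>
    rw [show y ^ (j + 1) * i - c ^ (j + 1) • i = y ^ j * (y * i - c • i) + c • (y ^ j * i - c ^ j • i) by
      rw [mul_sub, mul_smul_comm, smul_sub, smul_smul, ← mul_assoc, ← pow_succ, ← pow_succ']
      abel]
    exact add_mem (Submodule.smul_mem _ (y ^ j) hc') (Submodule.smul_of_tower_mem _ c ih)

variable {p : ℕ} [Fact p.Prime] [CharP k p]

/-- Central `p`-elements act trivially modulo `x`. -/
theorem z_mem (hZ : Nat.card Z = p) (hZC : Z ≤ C[Z]) {z : G} (hz : z ∈ Z) :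
    single z (1 : k) * i - i ∈ Submodule.span (MonoidAlgebra k G) {x} := by
  have hzi : Commute (single z (1 : k)) i := by
    refine coeff_ext fun g => ?_
    rw [coeff_single_mul_apply, coeff_mul_single_apply, one_mul, mul_one]
    by_cases hg : g ∈ C[Z]
    · congr 1
      have h1 := Subgroup.mem_centralizer_iff.1 hg z hz
      calc z⁻¹ * g = z⁻¹ * g * z * z⁻¹ := by group
        _ = z⁻¹ * (z * g) * z⁻¹ := by rw [h1, mul_assoc z⁻¹ g z]
        _ = g * z⁻¹ := by group
    · rw [L.i_supp _ fun h => hg (by simpa using (C[Z]).mul_mem (hZC hz) h),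
        L.i_supp _ fun h => hg (by simpa using (C[Z]).mul_mem h (hZC hz))]
  obtain ⟨c, hc⟩ := L.exists_coeff (suppIn_single (hZC hz) (1 : k))
  have h1 := L.coeff_pow (suppIn_single (hZC hz) (1 : k)) hzi hc p
  have hzp : z ^ p = 1 := by
    have h2 := congrArg Subtype.val (pow_card_eq_one' (x := (⟨z, hz⟩ : Z)))
    rwa [hZ] at h2
  rw [single_pow, hzp, one_pow, ← one_def, one_mul] at h1
  have hcp : c ^ p = 1 ^ p := by
    rw [one_pow]; exact (L.coeff_unique h1 (by simp)).trans rfl
  haveI : ExpChar k p := ExpChar.prime Fact.out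
  have hc1 : c = 1 := frobenius_inj k p hcp
  rw [hc1, one_smul, ← hzi.eq, mul_assoc, L.i_idem] at hc
  exact hc

/-- The truncation of a twisted block idempotent vanishes modulo `x`. -/
theorem br_twist_mem (hZ : Nat.card Z = p) (hZC : Z ≤ C[Z]) {g : G}
    (hgN : g ∈ Subgroup.normalizer (Z : Set G)) (hg : g ∉ C[Z]) :
    br Z (b * single g (1 : k)) * i ∈ Submodule.span (MonoidAlgebra k G) {x} := by
  have hp : p.Prime := Fact.out
  haveI := Fintype.ofFinite Z
  obtain ⟨z, hz, hzg⟩ : ∃ z ∈ Z, z * g ≠ g * z := by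
    by_contra hh
    push_neg at hh
    exact hg (Subgroup.mem_centralizer_iff.2 hh)
  have hz' : z * g⁻¹ * z⁻¹ * g ∈ Z := by
    rw [mul_assoc, mul_assoc]
    refine Z.mul_mem hz ?_
    rw [← mul_assoc]
    exact ((Subgroup.mem_normalizer_iff''.1 hgN) z⁻¹).1 (Z.inv_mem hz)
  set z' := z * g⁻¹ * z⁻¹ * g
  have hz'1 : z' ≠ 1 := fun h => hzg (by
    have h2 : z * g⁻¹ = g⁻¹ * z := by
      calc z * g⁻¹ = z' * g⁻¹ * z := by simp only [z']; group
        _ = g⁻¹ * z := by rw [h, one_mul]
    calc z * g = g * (g⁻¹ * z) * g := by group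
      _ = g * (z * g⁻¹) * g := by rw [h2]
      _ = g * z := by group)
  set a := br Z (b * single g (1 : k))
  have hinv : ∀ c, a.coeff (c * z') = a.coeff c := fun c => by
    simp only [a, coeff_br]
    by_cases hc : c ∈ C[Z]
    · rw [if_pos hc, if_pos ((C[Z]).mul_mem hc (hZC hz')), coeff_mul_single_apply,
        coeff_mul_single_apply, mul_one, mul_one]
      have h1 := Subgroup.mem_centralizer_iff.1 hc z hz
      have hcm := congrArg (fun e => e.coeff (z * (c * g⁻¹))) (L.b_central (single z (1 : k))).eq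
      simp only [coeff_single_mul_apply, coeff_mul_single_apply, one_mul, mul_one,
        inv_mul_cancel_left] at hcm
      rw [← hcm]
      congr 1
      calc c * z' * g⁻¹ = c * z * g⁻¹ * z⁻¹ := by simp only [z']; group
        _ = z * (c * g⁻¹) * z⁻¹ := by rw [← h1]; group
    · rw [if_neg hc, if_neg fun h => hc ?_]
      simpa using (C[Z]).mul_mem h ((C[Z]).inv_mem (hZC hz'))
  have hgen : Subgroup.zpowers z' = Z := by
    refine Subgroup.eq_of_le_of_card_ge (Subgroup.zpowers_le.2 hz') ?_
    rw [hZ, Nat.card_zpowers]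
    exact Nat.le_of_dvd (orderOf_pos z') ((Nat.dvd_prime hp).1 (hZ ▸
      Subgroup.orderOf_dvd_natCard Z hz') |>.resolve_left (fun h => hz'1 (orderOf_eq_one_iff.1 h))).symm.dvd
  have hinv' : ∀ (w : G), w ∈ Z → ∀ c, a.coeff (c * w) = a.coeff c := fun w hw => by
    rw [← hgen] at hw
    obtain ⟨j, rfl⟩ := (isOfFinOrder_of_finite z').mem_powers_iff_mem_zpowers.2 hw
    intro c
    clear hw
    show a.coeff (c * z' ^ j) = a.coeff c
    induction j with
    | zero => simp
    | succ j ih => rw [pow_succ, ← mul_assoc, hinv]; exact ih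
  haveI : Fintype (G ⧸ Z) := Fintype.ofFinite _
  have ha : a = (∑ q : G ⧸ Z, a.coeff q.out • single q.out (1 : k)) *
      ∑ w : Z, single (w : G) (1 : k) := by
    refine coeff_ext fun c => ?_
    rw [sum_mul]
    simp only [mul_sum, coeff_sum, Finsupp.finsetSum_apply, smul_mul_assoc, single_mul_single, mul_one,
      coeff_smul_apply, coeff_single_apply]
    rw [sum_eq_single (c : G ⧸ Z)]
    · obtain ⟨w, hw⟩ := QuotientGroup.mk_out_eq_mul Z c
      rw [sum_eq_single w⁻¹]
      · rw [hw, hinv' w w.2]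
        simp
      · intro v _ hv
        rw [if_neg fun h => hv ?_, smul_zero]
        rw [hw, mul_assoc, mul_eq_left] at h
        exact eq_inv_of_mul_eq_one_right (Subtype.ext h)
      · simp
    · intro q _ hq
      refine sum_eq_zero fun v _ => ?_
      rw [if_neg fun h => hq ?_, smul_zero]
      rw [← h, QuotientGroup.mk_mul_of_mem _ v.2, QuotientGroup.out_eq']
    · simp
  rw [ha, mul_assoc]
  refine Submodule.smul_mem _ _ ?_
  have h0 : (∑ w : Z, single (w : G) (1 : k)) * i = ∑ w : Z, (single (w : G) (1 : k) * i - i) := by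
    rw [sum_mul, sum_sub_distrib, sum_const, card_univ, ← Nat.card_eq_fintype_card, hZ,
      ← Nat.cast_smul_eq_nsmul k, CharP.cast_eq_zero, zero_smul, sub_zero]
  rw [h0]
  exact Submodule.sum_mem _ fun w _ => L.z_mem hZ hZC w.2

/-- The starting vector of an eigenvalue. -/
theorem exists_start (hZ : Nat.card Z = p) (hZC : Z ≤ C[Z]) {t : G} {n : ℕ}
    (htN : t ∈ Subgroup.normalizer (Z : Set G)) (hti : cj k t i = i) {ζ : k}
    (htx : cj k t x = ζ • x) (hζ : ζ ≠ 0)
    (hn : 0 < n) (hlt : ∀ l, 0 < l → l < n → t ^ l ∉ C[Z]) {c0 α : k}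
    (hc0 : single (t ^ n) (1 : k) * i - c0 • i ∈ Submodule.span (MonoidAlgebra k G) {x})
    (hα : α ^ n = c0) (hα0 : α ≠ 0) :
    ∃ (X : Type (max u v)) (_ : AddCommGroup X) (_ : Module k X) (_ : Module (MonoidAlgebra k G) X)
      (_ : IsScalarTower k (MonoidAlgebra k G) X) (_ : FiniteDimensional k X) (v : X),
      (∀ z : X, b • z = z) ∧ IsVec i x t α m X v := by
  set J0 : Submodule (MonoidAlgebra k G) (MonoidAlgebra k G) :=
    Submodule.span _ {x}
  set Λ : Submodule (MonoidAlgebra k G) (MonoidAlgebra k G) := Submodule.span _ {b}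
  set J := J0.comap Λ.subtype
  haveI : FiniteDimensional k Λ := inferInstanceAs (FiniteDimensional k (Λ.restrictScalars k))
  haveI : FiniteDimensional k (Λ ⧸ J) :=
    Module.Finite.of_surjective (J.mkQ.restrictScalars k) J.mkQ_surjective
  set u : MonoidAlgebra k G := ∑ l ∈ range n, (α⁻¹) ^ l • (single (t ^ l) (1 : k) * i)
  have hit : ∀ l : ℕ, cj k (t ^ l) i = i := fun l => by
    induction l with
    | zero => simp
    | succ l ih => rw [pow_succ' t, cj_mul, ih, hti]
  have hxt : ∀ l : ℕ, cj k (t ^ l) x = ζ ^ l • x := fun l => by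
    induction l with
    | zero => simp
    | succ l ih => rw [pow_succ' t, cj_mul, ih, map_smul, htx, smul_smul, pow_succ]
  have hmk : ∀ y : Λ, ∀ y' : Λ, J.mkQ y = J.mkQ y' ↔
      (y : MonoidAlgebra k G) - y' ∈ J0 := fun y y' => by
    rw [Submodule.mkQ_apply, Submodule.mkQ_apply, Submodule.Quotient.eq]; rfl
  have hbu : b * u ∈ Λ := Submodule.mem_span_singleton.2 ⟨u, (L.b_central u).eq.symm⟩
  have hiu : i * u = u := by
    simp only [u, mul_sum, mul_smul_comm]
    refine sum_congr rfl fun l _ => ?_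
    rw [← mul_assoc]
    conv_lhs => enter [2, 1, 1]; rw [← hit l]
    rw [← single_mul_cj, mul_assoc, L.i_idem]
  refine ⟨Λ ⧸ J, inferInstance, inferInstance, inferInstance, inferInstance, inferInstance,
    J.mkQ ⟨b * u, hbu⟩, fun z => ?_, ?_, ?_, ?_, fun y hy => ?_⟩
  · obtain ⟨y, rfl⟩ := J.mkQ_surjective z
    rw [← map_smul]
    congr 1
    refine Subtype.ext ?_
    obtain ⟨w, hw⟩ := Submodule.mem_span_singleton.1 y.2
    show b * (y : MonoidAlgebra k G) = y
    rw [← hw, smul_eq_mul, (L.b_central _).eq, mul_assoc, L.b_idem]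
  · rw [← map_smul]
    congr 1
    refine Subtype.ext ?_
    show i * (b * u) = b * u
    rw [← mul_assoc, ← (L.b_central i).eq, mul_assoc, hiu]
  · rw [← map_smul, ← map_zero J.mkQ, hmk]
    show x * (b * u) - 0 ∈ J0
    rw [sub_zero, ← mul_assoc, ← (L.b_central x).eq, mul_assoc]
    refine J0.smul_mem b ?_
    simp only [u, mul_sum, mul_smul_comm]
    refine Submodule.sum_mem _ fun l _ => Submodule.smul_of_tower_mem _ _ ?_
    refine Submodule.mem_span_singleton.2 ⟨(ζ ^ l)⁻¹ • (single (t ^ l) (1 : k) * i), ?_⟩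
    have h1 : x * single (t ^ l) (1 : k) = (ζ ^ l)⁻¹ • (single (t ^ l) (1 : k) * x) := by
      rw [single_mul_cj, hxt, smul_mul_assoc, inv_smul_smul₀ (pow_ne_zero _ hζ)]
    rw [smul_eq_mul, ← mul_assoc, h1, smul_mul_assoc, smul_mul_assoc, mul_assoc, ← L.xi.eq,
      ← mul_assoc]
  · rw [← map_smul, ← LinearMap.map_smul_of_tower, hmk]
    show single t (1 : k) * (b * u) - α • (b * u) ∈ J0
    rw [← mul_assoc, ← (L.b_central _).eq, mul_assoc, ← mul_smul_comm, ← mul_sub]
    refine J0.smul_mem b ?_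
    have h1 : single t (1 : k) * u - α • u = α • ((α ^ n)⁻¹ • (single (t ^ n) (1 : k) * i) - i) := by
      let F : ℕ → MonoidAlgebra k G := fun l => (α⁻¹) ^ l • (single (t ^ l) (1 : k) * i)
      have h2 : single t (1 : k) * u = α • ∑ l ∈ range n, F (l + 1) := by
        simp only [u, F, mul_sum, smul_sum, mul_smul_comm, ← mul_assoc, single_mul_single, one_mul,
          ← pow_succ', smul_smul]
        refine sum_congr rfl fun l _ => ?_
        congr 1
        rw [pow_succ', ← mul_assoc, mul_inv_cancel₀ hα0, one_mul]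
      have h3 : ∑ l ∈ range n, F (l + 1) - u = F n - F 0 := by
        show _ - ∑ l ∈ range n, F l = _
        rw [sub_eq_sub_iff_add_eq_add, ← Finset.sum_range_succ', Finset.sum_range_succ, add_comm]
      rw [h2, ← smul_sub, h3]
      simp [F, inv_pow, ← one_def]
    rw [h1]
    refine Submodule.smul_of_tower_mem _ _ ?_
    have h4 := Submodule.smul_of_tower_mem _ (α ^ n)⁻¹ hc0
    rwa [smul_sub, smul_smul, ← hα, inv_mul_cancel₀ (pow_ne_zero _ hα0), one_smul] at h4
  · obtain ⟨y, rfl⟩ := J.mkQ_surjective y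
    rw [← map_smul, hmk] at hy
    replace hy : x ^ (m - 1) * (y : MonoidAlgebra k G) - b * u ∈ J0 := hy
    have hbr : ∀ w ∈ J0, br Z w ∈ J0 := fun w hw => by
      obtain ⟨c, rfl⟩ := Submodule.mem_span_singleton.1 hw
      rw [smul_eq_mul, br_mul_right_supp L.x_supp]
      exact Submodule.mem_span_singleton.2 ⟨_, rfl⟩
    have h5 := hbr _ hy
    rw [map_sub, br_mul_left_supp (suppIn_pow L.x_supp _)] at h5
    have h6 : x ^ (m - 1) * br Z (y : MonoidAlgebra k G) ∈ J0 := by
      rw [((L.x_central _ (suppIn_br _)).pow_left _).eq,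
        show m - 1 = m - 2 + 1 by have := L.one_lt; omega, pow_succ, ← mul_assoc]
      exact J0.smul_mem _ (Submodule.mem_span_singleton_self x)
    have h7 : br Z (b * u) ∈ J0 := by
      have := J0.sub_mem h6 h5
      rwa [sub_sub_cancel] at this
    refine L.i_not_mem ?_
    simp only [u, mul_sum, mul_smul_comm, ← mul_assoc, map_sum, map_smul,
      br_mul_right_supp L.i_supp] at h7
    rw [← Finset.add_sum_erase _ _ (mem_range.2 hn)] at h7
    have h8 := Submodule.sum_mem J0 (t := (range n).erase 0)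
      (f := fun l => (α⁻¹) ^ l • (br Z (b * single (t ^ l) (1 : k)) * i)) fun l hl => by
        rw [mem_erase, mem_range] at hl
        exact Submodule.smul_of_tower_mem _ _ (L.br_twist_mem hZ hZC (pow_mem htN l)
          (hlt l (Nat.pos_of_ne_zero hl.1) hl.2))
    have h9 := (Submodule.add_mem_iff_left J0 h8).1 h7
    rwa [pow_zero, one_smul, pow_zero, ← one_def, mul_one, show br Z b * i = i by
      rw [← L.f_i, ← mul_assoc, L.b_f]] at h9

end LocalData

end CfsgLib.Cyclic
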