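import Cfsg.Agent.BlocksB.Cyclic.Relations
import Cfsg.Agent.BlocksB.Cyclic.Coherence
import Cfsg.Agent.BlocksB.Counting

/-!
# The members of a block with cyclic defect group
-/

set_option autoImplicit false
set_option linter.style.haveILetI false
set_option linter.unusedSectionVars false

namespace CfsgLib.Cyclic

open Cfsg Finset CfsgLib.Block CfsgLib.Block.Chr CfsgLib.BrauerPairs CfsgLib.BlockStar
  CfsgLib.BlockB CfsgLib.SL2C
open scoped ComplexConjugate
open scoped Classical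

universe u

variable {M : Ideal AlgInt} [M.IsPrime] {p : ℕ} [Fact p.Prime] [CharP (Residue M) p]
  {G : Type u} [Group G] [Fintype G]

local notation "Z[" x "]" => Subgroup.zpowers x
local notation "C[" Q "]" => Subgroup.centralizer (SetLike.coe Q)

variable {B : Set (IrrCharacter G)} {P : Subgroup G} {c : Set (IrrCharacter C[P])} {t : G} {n : ℕ}

namespace CycData

variable (S : CycData (M := M) p B P c t n)
include S

/-- The action as a homomorphism. -/
def actHom (l : ℕ) : P →* P :=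
  MonoidHom.mk' (S.act l) fun a b => Subtype.ext (by
    show t ^ l * ((a : G) * b) * (t ^ l)⁻¹ = t ^ l * a * (t ^ l)⁻¹ * (t ^ l * b * (t ^ l)⁻¹)
    group)

theorem actHom_apply (l : ℕ) (u : P) : S.actHom l u = S.act l u := rfl

theorem act_add (i j : ℕ) (u : P) : S.act (i + j) u = S.act i (S.act j u) := Subtype.ext (by
  show t ^ (i + j) * (u : G) * (t ^ (i + j))⁻¹ =
    t ^ i * (t ^ j * (u : G) * (t ^ j)⁻¹) * (t ^ i)⁻¹
  rw [pow_add]; group)

theorem act_surjective [Fintype P] (l : ℕ) : Function.Surjective (S.act l) :=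
  Finite.injective_iff_surjective.1 fun a b h => Subtype.ext
    (mul_left_cancel (mul_right_cancel (congrArg Subtype.val h :
      t ^ l * (a : G) * (t ^ l)⁻¹ = t ^ l * (b : G) * (t ^ l)⁻¹)))

/-- The action on the linear characters is free. -/
theorem free_dual [Fintype P] {l : ℕ} (hl0 : 0 < l) (hl : l < n) {μ : P →* ℂˣ}
    (h : μ.comp (S.actHom l) = μ) : μ = 1 := by
  have hcomm : ∀ a b : P, a * b = b * a := fun a b =>
    Subtype.ext (commute_of_cyclic S.hcyc _ a.2 _ b.2)
  have hinj : Function.Injective (fun w : P => S.actHom l w * w⁻¹) := by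
    intro w w' he
    simp only at he
    by_contra hne
    have h1 : S.actHom l (w * w'⁻¹) = w * w'⁻¹ := by
      rw [map_mul, map_inv, mul_inv_eq_iff_eq_mul.1 he, mul_assoc (S.actHom l w'),
        hcomm (S.actHom l w'), mul_inv_cancel_right, hcomm]
    have h3 := S.free (l := l) (u := ((w * w'⁻¹ : P) : G)) (w * w'⁻¹).2
      (fun h' => hne (mul_inv_eq_one.1 (Subtype.ext h'))) (congrArg Subtype.val h1)
    exact absurd (Nat.le_of_dvd hl0 h3) (not_le.2 hl)
  refine MonoidHom.ext fun w => ?_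
  obtain ⟨y, rfl⟩ := Finite.injective_iff_surjective.1 hinj w
  have h2 : μ (S.actHom l y) = μ y := DFunLike.congr_fun h y
  rw [map_mul, map_inv, h2, mul_inv_cancel, MonoidHom.one_apply]

theorem dual_injOn [Fintype P] {μ : P →* ℂˣ} (hμ : μ ≠ 1) :
    Set.InjOn (fun l => μ.comp (S.actHom l)) ↑(range n) := by
  have key : ∀ i j, i ≤ j → j < n → μ.comp (S.actHom i) = μ.comp (S.actHom j) → i = j := by
    intro i j hij hj he
    by_contra hne
    refine hμ (S.free_dual (l := j - i) (by omega) (by omega) (MonoidHom.ext fun w => ?_))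
    obtain ⟨y, rfl⟩ := S.act_surjective i w
    have := DFunLike.congr_fun he y
    simp only [MonoidHom.comp_apply, actHom_apply] at this ⊢
    rw [this, ← S.act_add, Nat.sub_add_cancel hij]
  intro i hi j hj he
  rw [coe_range, Set.mem_Iio] at hi hj
  rcases le_total i j with h | h
  · exact key i j h hj he
  · exact (key j i h hi he.symm).symm

end CycData

/-- The multiplicity minus that of the trivial character. -/
noncomputable def dvec {P : Subgroup G} (m : IrrCharacter G → (P →* ℂˣ) → ℕ)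
    (B : Set (IrrCharacter G)) (μ : P →* ℂˣ) : B → ℤ := fun x => (m x.1 μ : ℤ) - (m x.1 1 : ℤ)

namespace CycVals

variable [Fintype P] {m : IrrCharacter G → (P →* ℂˣ) → ℕ}
  (S : CycData (M := M) p B P c t n) (V : CycVals (M := M) p P c t m) [Fintype B]
include S V

theorem card_mul_dvec (μ : P →* ℂˣ) (x : B) :
    (Nat.card P : ℂ) * (dvec m B μ x : ℂ) = ∑ u : P, aval (m x.1) u * (conj (μ u : ℂ) - 1) := by
  have h1 : ∀ μ : P →* ℂˣ, ∑ u : P, aval (m x.1) u * conj (μ u : ℂ) =
      (Nat.card P : ℂ) * m x.1 μ := fun μ => by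
    simp only [aval, sum_mul]
    rw [sum_comm, sum_eq_single μ]
    · simp only [mul_assoc, conj_char, ← Units.val_mul, ← MonoidHom.mul_apply, mul_inv_cancel,
        ← mul_sum, sum_char, if_true, Nat.card_eq_fintype_card]
      ring
    · intro ν _ hν
      simp only [mul_assoc, conj_char, ← Units.val_mul, ← MonoidHom.mul_apply, ← mul_sum, sum_char]
      rw [if_neg fun h => hν (mul_inv_eq_one.1 h), mul_zero]
    · simp
  simp only [mul_sub, mul_one, sum_sub_distrib]
  rw [h1, dvec, Int.cast_sub, Int.cast_natCast, Int.cast_natCast, mul_sub]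
  congr 1
  rw [← h1 1]
  simp

theorem aval_eq_sum_dvec {u : P} (hu : u ≠ 1) (x : B) :
    aval (m x.1) u = ∑ μ : P →* ℂˣ, (dvec m B μ x : ℂ) * (μ u : ℂ) := by
  simp only [dvec, Int.cast_sub, Int.cast_natCast, sub_mul, sum_sub_distrib, ← mul_sum]
  rw [sum_dual (fun a b => Subtype.ext (commute_of_cyclic S.hcyc _ a.2 _ b.2)), if_neg hu,
    mul_zero, sub_zero, aval]

/-- The values do not vanish. -/
theorem aval_ne_zero (x : B) {u : P} (hu : u ≠ 1) : aval (m x.1) u ≠ 0 := by
  have hM := S.hM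
  have hP := S.pair
  have hab := commute_of_cyclic S.hcyc
  haveI : Fintype C[Z[(u : G)]] := Fintype.ofFinite _
  obtain ⟨d, hd, hde⟩ := S.exists_induced_sub u.2
  obtain ⟨e', -, hP', hmax'⟩ := Inertial.local_maxPair hM S.hB hP S.maxPair hab
    (Subgroup.zpowers_le.2 u.2) hd
  have hPQ : P ≤ C[Z[(u : G)]] := fun y hy => mem_cz.2 (hab y hy _ u.2)
  have hcard := card_defectGroup hM hd.2.1
    (isDefectGroup_of_isDef hM hd.2.1 (hmax'.isDef (isBlk_idem hM hd.2.1)))
  rw [Nat.card_congr (Subgroup.subgroupOfEquivOfLe hPQ).toEquiv,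
    card_defectGroup hM S.hB S.hPD] at hcard
  have hbd : blockDefect p d = blockDefect p B :=
    (Nat.pow_right_injective hM.1.two_le hcard).symm
  have hpair : IsPairOf p (idem M B) (Z[(u : G)], idemIn M C[Z[(u : G)]] d) := by
    rw [hde]
    exact (isPairOf_iff_of_ple (isBlk_idem hM S.hB) (subBlk_ple hP u.2) hP).2 S.maxPair.1
  have hind := isInducedBlock_of_isBrauerPairOf hM (zpowers_le_centralizer_zpowers _)
    ((isBrauerPairOf_iff hM).2 ⟨⟨hpair.1.1, hd.2.1⟩, S.hB, hpair⟩)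
  obtain ⟨N, hN⟩ := mem_pSet.1 (mem_pSet_of_mem hP u.2)
  obtain ⟨k, -, hk⟩ := (Nat.dvd_prime_pow hM.1).1 (orderOf_dvd_of_pow_eq_one hN)
  obtain ⟨ξ, hξ, h0⟩ := exists_height_zero hM S.hB
  intro h
  refine contrib_ne_zero hM (centralizer_zpowers_eq _) hk hind hbd x.2 hξ h0 ?_
  have h2 := contribR_idemIn hM x.1 ξ (mem_pSet_of_mem hP u.2) hd.2.1
  rw [hde, V.contrib x.1 ξ u hu, h, zero_mul, zero_mul] at h2
  convert h2.symm

/-- The number of translates of one linear character equal to another. -/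
theorem sum_dvec_mul {μ ν : P →* ℂˣ} (hμ : μ ≠ 1) (hν : ν ≠ 1) :
    ∑ x : B, dvec m B μ x * dvec m B ν x =
      (n : ℤ) + (((range n).filter fun l => ν = μ.comp (S.actHom l)).card : ℤ) := by
  have hP0 : (Nat.card P : ℂ) ≠ 0 := Nat.cast_ne_zero.2 Nat.card_pos.ne'
  have key : ((Nat.card P : ℂ) * Nat.card P) * ∑ x : B, (dvec m B μ x : ℂ) * (dvec m B ν x : ℂ) =
      ((Nat.card P : ℂ) * Nat.card P) *
        ((n : ℂ) + (((range n).filter fun l => ν = μ.comp (S.actHom l)).card : ℂ)) := by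
    have e1 : ∀ x : B, (Nat.card P : ℂ) * Nat.card P * ((dvec m B μ x : ℂ) * (dvec m B ν x : ℂ)) =
        ∑ u : P, ∑ v : P, (conj (μ u : ℂ) - 1) * ((ν v : ℂ) - 1) *
          (aval (m x.1) u * conj (aval (m x.1) v)) := by
      intro x
      have h2 := congrArg conj (card_mul_dvec S V ν x)
      rw [map_mul, map_natCast, map_intCast, map_sum] at h2
      rw [show (Nat.card P : ℂ) * Nat.card P * ((dvec m B μ x : ℂ) * (dvec m B ν x : ℂ)) =
        ((Nat.card P : ℂ) * dvec m B μ x) * ((Nat.card P : ℂ) * dvec m B ν x) by ring,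
        card_mul_dvec S V μ x, h2, sum_mul_sum]
      refine sum_congr rfl fun u _ => sum_congr rfl fun v _ => ?_
      rw [map_mul, map_sub, map_one, Complex.conj_conj]
      ring
    rw [mul_sum, sum_congr rfl fun x _ => e1 x, sum_comm, sum_congr rfl fun u _ => sum_comm]
    simp only [← mul_sum]
    rw [sum_comm]
    have e2 : ∀ v : P, ∑ u : P, (conj (μ u : ℂ) - 1) * ((ν v : ℂ) - 1) *
          ∑ x : B, aval (m x.1) u * conj (aval (m x.1) v) =
        ∑ l ∈ range n, (Nat.card P : ℂ) * ((conj (μ (S.act l v) : ℂ) - 1) * ((ν v : ℂ) - 1)) := by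
      intro v
      by_cases hv : v = 1
      · subst hv
        simp
      rw [← sum_image (g := fun l => S.act l v)
        (f := fun u => (Nat.card P : ℂ) * ((conj (μ u : ℂ) - 1) * ((ν v : ℂ) - 1)))
        (act_injOn S V hv)]
      symm
      refine (sum_congr rfl fun u hu => ?_).trans
        (sum_subset (subset_univ _) fun u _ hu => ?_)
      · obtain ⟨l, -, rfl⟩ := mem_image.1 hu
        rw [orth S V (act_ne_one S V hv l) hv, if_pos hu]
        ring
      · by_cases hu1 : u = 1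
        · subst hu1; simp
        · rw [orth S V hu1 hv, if_neg hu, mul_zero]
    rw [sum_congr rfl fun v _ => e2 v, sum_comm]
    simp only [← mul_sum]
    rw [mul_assoc]
    congr 1
    have e3 : ∀ l, ∑ v : P, (conj (μ (S.act l v) : ℂ) - 1) * ((ν v : ℂ) - 1) =
        (Nat.card P : ℂ) * ((if ν = μ.comp (S.actHom l) then 1 else 0) + 1) := by
      intro l
      have hne : μ.comp (S.actHom l) ≠ 1 := fun h => hμ (MonoidHom.ext fun w => by
        obtain ⟨y, rfl⟩ := S.act_surjective l w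
        exact DFunLike.congr_fun h y)
      have e4 : ∀ v : P, (conj (μ (S.act l v) : ℂ) - 1) * ((ν v : ℂ) - 1) =
          (((μ.comp (S.actHom l))⁻¹ * ν) v : ℂ) - (((μ.comp (S.actHom l))⁻¹) v : ℂ) - (ν v : ℂ) + 1 :=
        fun v => by
          rw [MonoidHom.mul_apply, Units.val_mul, ← conj_char, MonoidHom.comp_apply,
            CycData.actHom_apply]
          ring
      have i1 : (μ.comp (S.actHom l))⁻¹ * ν = 1 ↔ ν = μ.comp (S.actHom l) := by
        exact (inv_mul_eq_one (G := P →* ℂˣ)).trans eq_comm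
      simp only [e4, sum_add_distrib, sum_sub_distrib, sum_char]
      rw [if_neg (fun h => hne ((inv_eq_one (α := P →* ℂˣ)).1 h)), if_neg hν, sum_const,
        card_univ, nsmul_eq_mul, mul_one, Nat.card_eq_fintype_card]
      by_cases hh : ν = μ.comp (S.actHom l)
      · rw [if_pos hh, if_pos (i1.2 hh)]; ring
      · rw [if_neg hh, if_neg fun h => hh (i1.1 h)]; ring
    simp only [e3, ← mul_sum, sum_add_distrib, sum_const, card_range, nsmul_eq_mul, mul_one,
      sum_boole]
    ring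
  have h := mul_left_cancel₀ (mul_ne_zero hP0 hP0) key
  exact_mod_cast h

/-- The differences are orthogonal to the values at regular elements. -/
theorem sum_dvec_reg {μ : P →* ℂˣ} {g : G} (hg : ¬ p ∣ orderOf g) :
    ∑ x : B, ((x : IrrCharacter G) : G → ℂ) g * (dvec m B μ x : ℂ) = 0 := by
  refine (mul_eq_zero.1 (?_ : (Nat.card P : ℂ) * ∑ x : B,
    ((x : IrrCharacter G) : G → ℂ) g * (dvec m B μ x : ℂ) = 0)).resolve_left
    (Nat.cast_ne_zero.2 Nat.card_pos.ne')
  rw [mul_sum]
  simp only [mul_left_comm (Nat.card P : ℂ), card_mul_dvec S V, mul_sum]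
  rw [sum_comm]
  refine sum_eq_zero fun u _ => ?_
  by_cases hu : u = 1
  · subst hu; simp
  · have h1 := congrArg conj ((orth_aux S V hu).2 g⁻¹ (by rwa [orderOf_inv]))
    rw [map_zero, map_sum] at h1
    simp only [← mul_assoc, ← sum_mul]
    rw [show (∑ x : B, ((x : IrrCharacter G) : G → ℂ) g * aval (m x.1) u) = 0 from ?_, zero_mul]
    refine Eq.trans (sum_congr rfl fun x _ => ?_) h1
    rw [map_mul, Complex.conj_conj, conj_irr, inv_inv, mul_comm]

/-- **The structure of a block with cyclic defect group.** -/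
theorem exists_structure (x₀ : B) :
    blockRank p B = n ∧ ∃ (X : Finset B) (δ : B → ℤ) (δ₀ : ℤ) (rep : B → (P →* ℂˣ)),
      X.card = n ∧ n * (Xᶜ).card + 1 = Nat.card P ∧ (Nat.card P = n + 1 → x₀ ∈ X) ∧
      (∀ x ∈ X, δ x = 1 ∨ δ x = -1) ∧ (δ₀ = 1 ∨ δ₀ = -1) ∧
      (∀ y, y ∉ X → ∀ g : G, ¬ p ∣ orderOf g →
        (δ₀ : ℂ) * ((y : IrrCharacter G) : G → ℂ) g +
          ∑ x ∈ X, (δ x : ℂ) * ((x : IrrCharacter G) : G → ℂ) g = 0) ∧
      (∀ x ∈ X, ∀ u : P, u ≠ 1 → aval (m x.1) u = -(δ x : ℂ)) ∧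
      (∀ y, y ∉ X → rep y ≠ 1 ∧ ∀ u : P, u ≠ 1 →
        aval (m y.1) u = (δ₀ : ℂ) * ∑ l ∈ range n, (rep y (S.act l u) : ℂ)) ∧
      ∀ μ : P →* ℂˣ, μ ≠ 1 → ∃! y, y ∉ X ∧ ∃ l < n, μ = (rep y).comp (S.actHom l) := by
  set d : (P →* ℂˣ) → B → ℤ := fun μ => dvec m B μ with hd
  set T := univ.filter fun μ : P →* ℂˣ => μ ≠ 1 with hT
  have hmem : ∀ {μ : P →* ℂˣ}, μ ∈ T ↔ μ ≠ 1 := fun {μ} => by simp [hT]
  have hcount : ∀ {μ : P →* ℂˣ}, μ ≠ 1 → ∀ ν : P →* ℂˣ,
      ((range n).filter fun l => ν = μ.comp (S.actHom l)).card =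
        if ν ∈ (range n).image (fun l => μ.comp (S.actHom l)) then 1 else 0 := by
    intro μ hμ ν
    split_ifs with h
    · obtain ⟨l, hl, rfl⟩ := mem_image.1 h
      rw [card_eq_one]
      refine ⟨l, ext fun i => ?_⟩
      rw [mem_filter, mem_singleton]
      exact ⟨fun hi => (S.dual_injOn hμ hl hi.1 hi.2).symm, by rintro rfl; exact ⟨hl, rfl⟩⟩
    · rw [card_eq_zero, filter_eq_empty_iff]
      exact fun l hl he => h (mem_image.2 ⟨l, hl, he.symm⟩)
  have hself : ∀ {μ : P →* ℂˣ}, μ ≠ 1 → μ ∈ (range n).image (fun l => μ.comp (S.actHom l)) := fun {μ} _ =>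
    mem_image.2 ⟨0, mem_range.2 S.n_pos, MonoidHom.ext fun w => congrArg μ
      (Subtype.ext (show t ^ 0 * (w : G) * (t ^ 0)⁻¹ = w by simp))⟩
  have hne1 : ∀ {μ : P →* ℂˣ}, μ ≠ 1 → ∀ {ν}, ν ∈ (range n).image (fun l => μ.comp (S.actHom l)) → ν ≠ 1 := by
    intro μ hμ ν hν h
    obtain ⟨l, -, rfl⟩ := mem_image.1 hν
    refine hμ (MonoidHom.ext fun w => ?_)
    obtain ⟨y, rfl⟩ := S.act_surjective l w
    exact DFunLike.congr_fun h y
  have hfib : ∀ {μ : P →* ℂˣ}, μ ≠ 1 → T.filter (fun ν => d ν = d μ) =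
      (range n).image (fun l => μ.comp (S.actHom l)) := by
    intro μ hμ
    ext ν
    rw [mem_filter, hmem]
    constructor
    · rintro ⟨hν, he⟩
      by_contra hn'
      have h1 := sum_dvec_mul S V hμ hν
      rw [hcount hμ, if_neg hn', show dvec m B ν = dvec m B μ from he, sum_dvec_mul S V hμ hμ,
        hcount hμ, if_pos (hself hμ)] at h1
      omega
    · intro h
      have hν := hne1 hμ h
      refine ⟨hν, funext fun x => ?_⟩
      have h1 := sum_dvec_mul S V hμ hν
      have h2 := sum_dvec_mul S V hμ hμ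
      have h3 := sum_dvec_mul S V hν hν
      rw [hcount hμ, if_pos h] at h1
      rw [hcount hμ, if_pos (hself hμ)] at h2
      rw [hcount hν, if_pos (hself hν)] at h3
      have h4 : ∑ x : B, (d ν x - d μ x) * (d ν x - d μ x) = 0 := by
        simp only [hd, sub_mul, mul_sub, sum_sub_distrib, mul_comm (dvec m B ν _) (dvec m B μ _)]
        omega
      exact sub_eq_zero.1 (mul_self_eq_zero.1
        ((sum_eq_zero_iff_of_nonneg fun _ _ => mul_self_nonneg _).1 h4 x (mem_univ x)))
  set I := T.image d with hI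
  have hI' : ∀ i : I, ∃ μ : P →* ℂˣ, μ ≠ 1 ∧ d μ = i.1 := fun i => by
    obtain ⟨μ, hμ, h⟩ := mem_image.1 i.2
    exact ⟨μ, hmem.1 hμ, h⟩
  choose ρ hρ hρd using hI'
  have hcab : ∀ a b : P, a * b = b * a := fun a b =>
    Subtype.ext (commute_of_cyclic S.hcyc _ a.2 _ b.2)
  have hTcard : T.card = Nat.card P - 1 := by
    rw [hT, filter_ne' univ (1 : P →* ℂˣ), card_erase_of_mem (mem_univ _), card_univ,
      card_dual hcab, Nat.card_eq_fintype_card]
  have hIT : T.card = n * I.card := by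
    rw [card_eq_sum_card_image d T, ← hI, sum_const_nat fun i hi => ?_, mul_comm]
    obtain ⟨μ, hμ, rfl⟩ := mem_image.1 hi
    rw [hfib (hmem.1 hμ), card_image_of_injOn (S.dual_injOn (hmem.1 hμ)), card_range]
  have hcI : Fintype.card I = I.card := Fintype.card_coe I
  have hP1 : 1 < Nat.card P := Finite.one_lt_card_iff_nontrivial.2
    ((Subgroup.nontrivial_iff_ne_bot P).2 S.hP1)
  have hk := card_relation S V
  have hX : Fintype.card B = blockRank p B + Fintype.card I := by
    rw [hcI, ← Nat.card_eq_fintype_card]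
    have : n * Nat.card B = n * (blockRank p B + I.card) := by
      rw [mul_add, ← hIT, hTcard]
      omega
    exact Nat.eq_of_mul_eq_mul_left S.n_pos this
  have hIpos : 0 < Fintype.card I := by
    rw [hcI]
    refine Nat.pos_of_ne_zero fun h => ?_
    rw [h, mul_zero] at hIT
    omega
  obtain ⟨hrank, ψ, δ₀, Sg, hψ, hψ0, hδ₀, hS0, hSg, hD⟩ :=
    coherence (fun i : I => i.1) (fun x : B => (charDegree ((x : IrrCharacter G) : G → ℂ) : ℤ))
      (fun x => by exact_mod_cast (irr_one x.1).2) S.n_pos S.le_rank hX hIpos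
      (fun i j => by
        rw [← hρd i, ← hρd j, sum_dvec_mul S V (hρ i) (hρ j), hcount (hρ i), ← hfib (hρ i)]
        by_cases hij : i = j
        · subst hij
          rw [if_pos (show ρ i ∈ T.filter (fun ν => d ν = d (ρ i)) from mem_filter.2 ⟨hmem.2 (hρ i), rfl⟩), if_pos rfl]; rfl
        · rw [if_neg fun h => hij (Subtype.ext ?_), if_neg hij]; rfl
          rw [← hρd i, ← hρd j]
          exact (mem_filter.1 h).2.symm)
      (fun i => by
        have h := sum_dvec_reg S V (μ := ρ i) (g := 1)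
          (by rw [orderOf_one]; exact (Fact.out : p.Prime).not_dvd_one)
        rw [← hρd i]
        simp only [(irr_one _).1] at h
        exact_mod_cast h)
      (fun x => by
        by_contra hne
        simp only [not_exists, not_not] at hne
        obtain ⟨u, hu⟩ : ∃ u : P, u ≠ 1 :=
          haveI := (Subgroup.nontrivial_iff_ne_bot P).2 S.hP1
          exists_ne 1
        refine aval_ne_zero S V x hu ?_
        rw [aval_eq_sum_dvec S V hu]
        refine sum_eq_zero fun μ _ => ?_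
        by_cases hμ : μ = 1
        · subst hμ; simp [dvec]
        · rw [show dvec m B μ x = 0 from hne ⟨d μ, mem_image_of_mem d (hmem.2 hμ)⟩, Int.cast_zero,
            zero_mul])
      x₀
  set X := univ.filter fun x : B => x ∉ Set.range ψ with hXdef
  have hXmem : ∀ {x}, x ∈ X ↔ x ∉ Set.range ψ := fun {x} => by simp [hXdef]
  have hXc : Xᶜ = univ.image ψ := by ext x; simp [hXdef]
  have hXc' : (Xᶜ).card = I.card := by
    rw [hXc, card_image_of_injective _ hψ, card_univ, hcI]
  let rep : B → (P →* ℂˣ) := fun y => if h : ∃ i, ψ i = y then ρ h.choose else 1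
  have hrep : ∀ i, rep (ψ i) = ρ i := fun i => by
    have h : ∃ j, ψ j = ψ i := ⟨i, rfl⟩
    show (if h : ∃ j, ψ j = ψ i then ρ h.choose else 1) = ρ i
    rw [dif_pos h, hψ h.choose_spec]
  refine ⟨hrank, X, Sg, δ₀, rep, ?_, ?_, fun h => ?_, fun x hx => hSg x (hXmem.1 hx), hδ₀, ?_,
    ?_, ?_, ?_⟩
  · have := card_add_card_compl X
    omega
  · rw [hXc', ← hIT, hTcard]
    omega
  · refine hXmem.2 fun ⟨i, hi⟩ => hψ0 ?_ i hi
    rw [hcI]
    have : n * I.card = n * 1 := by rw [← hIT, hTcard]; omega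
    exact Nat.eq_of_mul_eq_mul_left S.n_pos this
  · intro y hy g hg
    obtain ⟨i, rfl⟩ : y ∈ Set.range ψ := not_not.1 fun h => hy (hXmem.2 h)
    have h := sum_dvec_reg S V (μ := ρ i) hg
    have e : ∀ x, (dvec m B (ρ i) x : ℂ) = (Sg x : ℂ) + (δ₀ : ℂ) * (unitVec (ψ i) x : ℂ) :=
      fun x => by
        rw [show dvec m B (ρ i) x = i.1 x from congrFun (hρd i) x, hD i x]
        push_cast; rfl
    simp only [e, mul_add, sum_add_distrib] at h
    rw [← h, add_comm]
    congr 1
    · rw [← sum_subset (subset_univ X) (fun x _ hx => by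
        obtain ⟨j, rfl⟩ : x ∈ Set.range ψ := not_not.1 fun h' => hx (hXmem.2 h')
        rw [hS0 j, Int.cast_zero, mul_zero])]
      exact sum_congr rfl fun x _ => mul_comm _ _
    · simp [unitVec, apply_ite (Int.cast : ℤ → ℂ), mul_comm]
  · intro x hx u hu
    have h1 : ∀ μ : P →* ℂˣ, μ ≠ 1 → (dvec m B μ x : ℂ) = (Sg x : ℂ) := fun μ hμ => by
      have h2 := hD ⟨d μ, mem_image_of_mem d (hmem.2 hμ)⟩ x
      rw [unitVec, if_neg fun h => hXmem.1 hx ⟨_, h.symm⟩, mul_zero, add_zero] at h2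
      exact congrArg _ h2
    rw [aval_eq_sum_dvec S V hu, ← add_sum_erase _ _ (mem_univ (1 : P →* ℂˣ)),
      sum_congr rfl fun μ hμ => by rw [h1 μ (mem_erase.1 hμ).1], ← mul_sum]
    have h3 := sum_dual hcab u
    rw [if_neg hu, ← add_sum_erase _ _ (mem_univ (1 : P →* ℂˣ))] at h3
    simp only [dvec, sub_self, Int.cast_zero, zero_mul, zero_add, MonoidHom.one_apply,
      Units.val_one] at h3 ⊢
    linear_combination (Sg x : ℂ) * h3
  · intro y hy
    obtain ⟨i, rfl⟩ : y ∈ Set.range ψ := not_not.1 fun h => hy (hXmem.2 h)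
    rw [hrep]
    refine ⟨hρ i, fun u hu => ?_⟩
    rw [aval_eq_sum_dvec S V hu, mul_sum]
    refine Eq.trans ?_ (sum_image (g := fun l => (ρ i).comp (S.actHom l))
        (f := fun μ : P →* ℂˣ => (δ₀ : ℂ) * (μ u : ℂ)) (S.dual_injOn (hρ i)))
    rw [← hfib (hρ i), sum_filter]
    rw [hT, sum_filter]
    refine sum_congr rfl fun μ _ => ?_
    by_cases hμ : μ = 1
    · subst hμ; simp [dvec]
    rw [if_pos hμ]
    have h2 := hD ⟨d μ, mem_image_of_mem d (hmem.2 hμ)⟩ (ψ i)
    rw [hS0, zero_add] at h2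
    rw [show dvec m B μ (ψ i) = _ from h2, unitVec, Int.cast_mul]
    by_cases he : d μ = d (ρ i)
    · rw [if_pos he, if_pos (congrArg ψ (Subtype.ext (he.trans (hρd i))).symm), Int.cast_one, mul_one]
    · rw [if_neg he, if_neg fun h => he ((congrArg Subtype.val (hψ h.symm)).trans (hρd i).symm),
        Int.cast_zero, mul_zero, zero_mul]
  · intro μ hμ
    refine ⟨ψ ⟨d μ, mem_image_of_mem d (hmem.2 hμ)⟩, ⟨fun h => hXmem.1 h ⟨_, rfl⟩, ?_⟩, ?_⟩
    · rw [hrep]
      have : μ ∈ T.filter (fun ν => d ν = d (ρ ⟨d μ, mem_image_of_mem d (hmem.2 hμ)⟩)) :=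
        mem_filter.2 ⟨hmem.2 hμ, (hρd ⟨d μ, mem_image_of_mem d (hmem.2 hμ)⟩).symm⟩
      rw [hfib (hρ _)] at this
      obtain ⟨l, hl, he⟩ := mem_image.1 this
      exact ⟨l, mem_range.1 hl, he.symm⟩
    · rintro y ⟨hy, l, hl, he⟩
      obtain ⟨i, rfl⟩ : y ∈ Set.range ψ := not_not.1 fun h => hy (hXmem.2 h)
      rw [hrep] at he
      have : μ ∈ (range n).image (fun l => (ρ i).comp (S.actHom l)) :=
        mem_image.2 ⟨l, mem_range.2 hl, he.symm⟩
      rw [← hfib (hρ i)] at this
      exact congrArg ψ (Subtype.ext ((hρd i).symm.trans (mem_filter.1 this).2.symm))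

/-- Combinations killed by the values are divisible by the full power of `p` at one. -/
theorem dvd_of_killed (co : B → ℤ)
    (h : ∀ u : P, u ≠ 1 → ∑ x : B, (co x : ℂ) * aval (m x.1) u = 0) :
    (p : ℤ) ^ (Nat.card G).factorization p ∣
      ∑ x : B, co x * (charDegree ((x : IrrCharacter G) : G → ℂ) : ℤ) := by
  obtain ⟨Q⟩ := (inferInstance : Nonempty (Sylow p G))
  haveI := Fintype.ofFinite (Q : Subgroup G)
  choose a ha using fun x : B => CfsgLib.BlocksB.exists_avg_eq_natCast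
    (isCharacter_irr (x : IrrCharacter G)) (Q : Subgroup G)
  have hs : ∑ w : (Q : Subgroup G), ∑ x : B, (co x : ℂ) * ((x : IrrCharacter G) : G → ℂ) w =
      ∑ x : B, (co x : ℂ) * (charDegree ((x : IrrCharacter G) : G → ℂ) : ℂ) := by
    rw [sum_eq_single (1 : (Q : Subgroup G))]
    · exact sum_congr rfl fun x _ => by rw [OneMemClass.coe_one, (irr_one _).1]
    · intro w _ hw
      refine vanish S V _ h ?_
      obtain ⟨j, hj⟩ := IsPGroup.iff_orderOf.1 Q.isPGroup' w
      rw [Subgroup.orderOf_coe, hj]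
      exact dvd_pow_self p fun h0 => hw (orderOf_eq_one_iff.1 (by rw [hj, h0, pow_zero]))
    · simp
  rw [sum_comm] at hs
  simp only [← mul_sum, ha, Sylow.card_eq_multiplicity] at hs
  refine ⟨∑ x : B, co x * (a x : ℤ), ?_⟩
  rw [mul_sum]
  have hs' : ((∑ x : B, co x * (charDegree ((x : IrrCharacter G) : G → ℂ) : ℤ) : ℤ) : ℂ) =
      ((∑ x : B, (p : ℤ) ^ (Nat.card G).factorization p * (co x * (a x : ℤ)) : ℤ) : ℂ) := by
    push_cast at hs ⊢
    rw [← hs]
    exact sum_congr rfl fun x _ => by ring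
  exact_mod_cast hs'

end CycVals

end CfsgLib.Cyclic
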