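import Cfsg.Agent.BlocksB.Cyclic.Setup
import Cfsg.Agent.BlocksB.Star.Weight

/-!
# Subsections of a block with cyclic defect group
-/

set_option autoImplicit false
set_option linter.style.haveILetI false
set_option linter.unusedSectionVars false

namespace CfsgLib.Cyclic

open Cfsg Finset CfsgLib.Block CfsgLib.Block.Chr CfsgLib.BrauerPairs CfsgLib.BlockStar
  CfsgLib.BlockB
open scoped ComplexConjugate
open scoped Classical

universe u

variable {M : Ideal AlgInt} [M.IsPrime] {p : ℕ} [Fact p.Prime] [CharP (Residue M) p]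
  {G : Type u} [Group G] [Fintype G]

local notation "𝕜" => Residue M
local notation "Z[" x "]" => Subgroup.zpowers x
local notation "C[" Q "]" => Subgroup.centralizer (SetLike.coe Q)
local notation "N[" Q "]" => Subgroup.normalizer (SetLike.coe Q)

theorem commute_of_cyclic {P : Subgroup G} (hcyc : IsCyclic P) :
    ∀ a ∈ P, ∀ b ∈ P, a * b = b * a := by
  letI := hcyc.commGroup
  exact fun a ha b hb => congrArg Subtype.val (mul_comm (⟨a, ha⟩ : P) ⟨b, hb⟩)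

/-- Cyclic subgroups of a cyclic group are determined by their orders. -/
theorem zpowers_eq_of_card {P : Subgroup G} (hcyc : IsCyclic P) {u v : G} (hu : u ∈ P) (hv : v ∈ P)
    (h : orderOf u = orderOf v) : Z[u] = Z[v] := by
  haveI := Fintype.ofFinite P
  have hsub : ∀ w : P, (Subgroup.zpowers w : Set P).toFinset =
      univ.filter fun a : P => a ^ orderOf w = 1 := fun w => by
    refine Finset.eq_of_subset_of_card_le (fun a ha => ?_) ?_
    · rw [Set.mem_toFinset, SetLike.mem_coe] at ha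
      refine mem_filter.2 ⟨mem_univ _, ?_⟩
      exact orderOf_dvd_iff_pow_eq_one.1 (orderOf_dvd_of_mem_zpowers ha)
    · rw [Set.toFinset_card, ← Nat.card_eq_fintype_card, SetLike.coe_sort_coe, Nat.card_zpowers]
      haveI := hcyc
      exact IsCyclic.card_pow_eq_one_le (orderOf_pos w)
  have h1 : Subgroup.zpowers (⟨u, hu⟩ : P) = Subgroup.zpowers ⟨v, hv⟩ := by
    refine SetLike.coe_injective (Set.toFinset_inj.1 ?_)
    rw [hsub, hsub, Subgroup.orderOf_mk, Subgroup.orderOf_mk, h]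
  have h2 := congrArg (Subgroup.map P.subtype) h1
  rwa [MonoidHom.map_zpowers, MonoidHom.map_zpowers] at h2

variable {B : Set (IrrCharacter G)} {P : Subgroup G} {c : Set (IrrCharacter C[P])}

/-- The data of a maximal pair of a block with nontrivial cyclic defect group and a generator of
its inertial quotient. -/
structure CycData (p : ℕ) [Fact p.Prime] [CharP (Residue M) p] (B : Set (IrrCharacter G))
    (P : Subgroup G) (c : Set (IrrCharacter C[P])) (t : G) (n : ℕ) : Prop where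
  hM : IsPModular p M
  hB : IsPBlock M B
  hPD : IsDefectGroup p M B P
  hcyc : IsCyclic P
  hP1 : P ≠ ⊥
  hc : IsInducedBlock M C[P] c B
  n_eq : n = (C[P] : Subgroup G).relIndex (stab P (idemIn M C[P] c))
  t_mem : t ∈ stab P (idemIn M C[P] c)
  t_reg : ¬ p ∣ orderOf t
  t_pow : t ^ n ∈ C[P]
  t_lt : ∀ l, 0 < l → l < n → t ^ l ∉ C[P]
  t_gen : ∀ g ∈ stab P (idemIn M C[P] c), ∃ l : ℕ, ∃ d ∈ C[P], g = t ^ l * d

theorem exists_cycData (hM : IsPModular p M) (hB : IsPBlock M B) (hPD : IsDefectGroup p M B P)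
    (hcyc : IsCyclic P) (hP1 : P ≠ ⊥) (hc : IsInducedBlock M C[P] c B) :
    ∃ t n, CycData (M := M) p B P c t n := by
  obtain ⟨hP, hmax⟩ := Inertial.maxPair_of_induced hM hB hPD (commute_of_cyclic hcyc) hc
  obtain ⟨t, h1, h2, h3, h4, h5⟩ := exists_inertial_generator hM hB hP hmax hcyc hP1
  exact ⟨t, _, hM, hB, hPD, hcyc, hP1, hc, rfl, h1, h2, h3, h4, h5⟩

namespace CycData

variable {t : G} {n : ℕ} (S : CycData (M := M) p B P c t n)
include S

theorem pair : IsPair p (P, idemIn M C[P] c) :=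
  (Inertial.maxPair_of_induced S.hM S.hB S.hPD (commute_of_cyclic S.hcyc) S.hc).1

theorem maxPair : IsMaxPair p (idem M B) (P, idemIn M C[P] c) :=
  (Inertial.maxPair_of_induced S.hM S.hB S.hPD (commute_of_cyclic S.hcyc) S.hc).2

theorem n_pos : 0 < n := by
  rw [S.n_eq]; exact Nat.pos_of_ne_zero Subgroup.index_ne_zero_of_finite

theorem n_dvd : n ∣ p - 1 := by
  haveI hN : ((C[P] : Subgroup G).subgroupOf (stab P (idemIn M C[P] c))).Normal :=
    (Subgroup.normal_subgroupOf_iff_le_normalizer (centralizer_le_stab S.pair)).mpr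
      stab_le_normalizer_centralizer
  rw [S.n_eq]
  exact (Inertial.cyclic_quotient S.hM S.hB S.pair S.maxPair S.hcyc S.hP1).2

theorem le_rank : n ≤ blockRank p B := by
  rw [S.n_eq]; exact inertial_le_rank S.hM S.hB S.hPD S.hcyc S.hP1 S.hc

theorem pow_mem_stab (l : ℕ) : t ^ l ∈ stab P (idemIn M C[P] c) := pow_mem S.t_mem l

/-- Only trivial powers of the generator fix a nontrivial element. -/
theorem free {l : ℕ} {u : G} (hu : u ∈ P) (hu1 : u ≠ 1) (h : t ^ l * u * (t ^ l)⁻¹ = u) :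
    n ∣ l := by
  have hC := Inertial.free_of_cyclic S.hM S.hB S.pair S.maxPair S.hcyc _ (S.pow_mem_stab l) u hu
    hu1 h
  refine Nat.dvd_of_mod_eq_zero ?_
  by_contra hne
  refine S.t_lt (l % n) (Nat.pos_of_ne_zero hne) (Nat.mod_lt _ S.n_pos) ?_
  have h1 : t ^ l = t ^ (l % n) * (t ^ n) ^ (l / n) := by
    rw [← pow_mul, ← pow_add, Nat.mod_add_div]
  rw [h1] at hC
  exact (Subgroup.mul_mem_cancel_right _ (pow_mem S.t_pow _)).1 hC

theorem conj_mem (l : ℕ) {u : G} (hu : u ∈ P) : t ^ l * u * (t ^ l)⁻¹ ∈ P :=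
  (Subgroup.mem_normalizer_iff.1 (S.pow_mem_stab l).1 u).1 hu

theorem subBlk_conj_stab {g u : G} (hg : g ∈ stab P (idemIn M C[P] c)) (hu : u ∈ P) :
    cj 𝕜 g (subBlk p P (idemIn M C[P] c) u) =
      subBlk p P (idemIn M C[P] c) (g * u * g⁻¹) := by
  have h := (subBlk_ple S.pair hu).cj g
  rw [show cjPair g (P, idemIn M C[P] c) = (P, idemIn M C[P] c) from
    Prod.ext (map_conj_eq_self hg.1) hg.2, cjPair_zpowers] at h
  exact ple_unique S.pair h
    (subBlk_ple S.pair ((Subgroup.mem_normalizer_iff.1 hg.1 u).1 hu))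

theorem subBlk_congr {u v : G} (hu : u ∈ P) (hv : v ∈ P) (h : Z[u] = Z[v]) :
    subBlk p P (idemIn M C[P] c) u = subBlk p P (idemIn M C[P] c) v := by
  refine (existsUnique_ple S.pair (Subgroup.zpowers_le.2 hv)).unique ?_ (subBlk_ple S.pair hv)
  have := subBlk_ple S.pair hu
  rwa [h] at this

theorem exists_induced_sub {u : G} (hu : u ∈ P) :
    ∃ f : Set (IrrCharacter C[Z[u]]), IsInducedBlockIn M C[Z[u]] C[P] c f ∧
      idemIn M C[Z[u]] f = subBlk p P (idemIn M C[P] c) u := by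
  obtain ⟨f, hf⟩ := Inertial.exists_inducedIn S.hM S.pair.1 S.hc.1 (commute_of_cyclic S.hcyc)
    (Subgroup.zpowers_le.2 hu)
  exact ⟨f, hf, (existsUnique_ple S.pair (Subgroup.zpowers_le.2 hu)).unique
    (Inertial.ple_of_inducedIn S.hM S.pair (commute_of_cyclic S.hcyc) (Subgroup.zpowers_le.2 hu) hf)
    (subBlk_ple S.pair hu)⟩

/-- Subsections of the maximal pair conjugate in the group are conjugate in the inertial group. -/
theorem fusion {g u v : G} (hu : u ∈ P) (hv : v ∈ P) (hguv : g * u * g⁻¹ = v)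
    (hgf : cj 𝕜 g (subBlk p P (idemIn M C[P] c) u) = subBlk p P (idemIn M C[P] c) v) :
    ∃ l < n, ∃ d ∈ (C[Z[u]] : Subgroup G), g = t ^ l * d := by
  have ho : orderOf u = orderOf v := by
    rw [← hguv]; exact (orderOf_injective (MulAut.conj g).toMonoidHom (MulAut.conj g).injective u).symm
  have hz : Z[u] = Z[v] := zpowers_eq_of_card S.hcyc hu hv ho
  have hgN : g ∈ N[Z[u]] := by
    have hm : (Z[u]).map (MulAut.conj g).toMonoidHom = Z[u] := by
      rw [MonoidHom.map_zpowers]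
      show Subgroup.zpowers (g * u * g⁻¹) = _
      rw [hguv, hz]
    rw [Subgroup.mem_normalizer_iff]
    intro a
    conv_rhs => rw [← hm]
    exact (Subgroup.mem_map_iff_mem (f := (MulAut.conj g).toMonoidHom)
      (MulAut.conj g).injective).symm
  obtain ⟨f, hf, hfe⟩ := S.exists_induced_sub hu
  obtain ⟨l, d, hd, rfl⟩ := stab_decomp S.hM S.hB S.pair S.maxPair S.hcyc S.t_mem S.t_gen
    (Subgroup.zpowers_le.2 hu) hf hgN (by rw [hfe, hgf, S.subBlk_congr hu hv hz])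
  have hCC : (C[P] : Subgroup G) ≤ C[Z[u]] :=
    Subgroup.centralizer_le (SetLike.coe_subset_coe.mpr (Subgroup.zpowers_le.2 hu))
  refine ⟨l % n, Nat.mod_lt _ S.n_pos, (t ^ n) ^ (l / n) * d,
    mul_mem (pow_mem (hCC S.t_pow) _) hd, ?_⟩
  rw [← mul_assoc, ← pow_mul, ← pow_add, Nat.mod_add_div]

/-- **Sums over the nontrivial subsections.** -/
theorem sum_pairs_free [Fintype P] (F : G → MonoidAlgebra 𝕜 G → ℂ)
    (hF0 : ∀ x ∈ pSet p G, ∀ f ∈ blks M x, ¬ IsPairOf p (idem M B) (Z[x], f) → F x f = 0)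
    (hFG : ∀ x ∈ pSet p G, ∀ f ∈ blks M x, ∀ g, F (g * x * g⁻¹) (cj 𝕜 g f) = F x f) :
    (Nat.card G : ℂ) * ∑ u ∈ univ.filter (fun u : P => u ≠ 1),
        F (u : G) (subBlk p P (idemIn M C[P] c) (u : G)) =
      (n : ℂ) * ∑ x ∈ (pSet p G).filter (· ≠ 1),
        (Nat.card C[Z[x]] : ℂ) * ∑ f ∈ blks M x, F x f := by
  have hP := S.pair
  have hb := isBlk_idem S.hM S.hB
  set E := fun u : G => subBlk p P (idemIn M C[P] c) u
  set P1 := univ.filter (fun u : P => u ≠ 1)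
  set T := ((pSet p G).filter (· ≠ 1)).sigma fun x => blks M x
  let Ψ : G × P → (_ : G) × MonoidAlgebra 𝕜 G := fun y =>
    ⟨y.1 * (y.2 : G) * y.1⁻¹, cj 𝕜 y.1 (E y.2)⟩
  have hEblk : ∀ u : P, E u ∈ blks M (u : G) := fun u =>
    mem_blks.2 (PLE.isPair (subBlk_ple hP u.2) hP).2
  have hΨ : ∀ y ∈ (univ : Finset G) ×ˢ P1, Ψ y ∈ T := fun y hy => by
    refine mem_sigma.2 ⟨mem_filter.2 ⟨?_, ?_⟩, ?_⟩
    · obtain ⟨j, hj⟩ := mem_pSet.1 (mem_pSet_of_mem hP y.2.2)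
      exact mem_pSet.2 ⟨j, by rw [conj_pow, hj, mul_one, mul_inv_cancel]⟩
    · show y.1 * (y.2 : G) * y.1⁻¹ ≠ 1
      rw [Ne, conj_eq_one_iff, OneMemClass.coe_eq_one]
      exact (mem_filter.1 (mem_product.1 hy).2).2
    · have := (mem_blks.1 (hEblk y.2)).cj y.1
      rw [map_conj_centralizer, MonoidHom.map_zpowers] at this
      exact mem_blks.2 this
  have h1 : (Nat.card G : ℂ) * ∑ u ∈ P1, F (u : G) (E u) =
      ∑ y ∈ (univ : Finset G) ×ˢ P1, F (Ψ y).1 (Ψ y).2 := by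
    rw [sum_product]
    have : ∀ g : G, ∑ u ∈ P1, F (Ψ (g, u)).1 (Ψ (g, u)).2 = ∑ u ∈ P1, F (u : G) (E u) := fun g =>
      sum_congr rfl fun u _ => hFG _ (mem_pSet_of_mem hP u.2) _ (hEblk u) g
    rw [sum_congr rfl fun g _ => this g, sum_const, card_univ, nsmul_eq_mul,
      Nat.card_eq_fintype_card]
  rw [h1, ← sum_fiberwise_of_maps_to hΨ fun y => F (Ψ y).1 (Ψ y).2]
  simp only [mul_sum]
  rw [show T = ((pSet p G).filter (· ≠ 1)).sigma (fun x => blks M x) from rfl, Finset.sum_sigma]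
  refine sum_congr rfl fun x hx' => sum_congr rfl fun f hf => ?_
  obtain ⟨hx, hx1⟩ := mem_filter.1 hx'
  refine (sum_congr rfl (g := fun _ => F x f) fun y hy => ?_).trans ?_
  · rw [(mem_filter.1 hy).2]
  rw [sum_const, nsmul_eq_mul]
  by_cases hpair : IsPairOf p (idem M B) (Z[x], f)
  swap
  · rw [hF0 x hx f hf hpair, mul_zero, mul_zero, mul_zero]
  rw [← mul_assoc]
  congr 1
  rw [← Nat.cast_mul, Nat.cast_inj]
  obtain ⟨a, ha⟩ := exists_conj_ple_max hb S.maxPair hpair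
  rw [cjPair_zpowers] at ha
  set u0 := a * x * a⁻¹ with hu0
  have hu0P : u0 ∈ P := PLE.le ha (Subgroup.mem_zpowers _)
  have hu01 : u0 ≠ 1 := by rwa [Ne, hu0, conj_eq_one_iff]
  have hfE : E u0 = cj 𝕜 a f := ple_unique hP (subBlk_ple hP hu0P) ha
  let Λ : Fin n × C[Z[x]] → G × P := fun z =>
    ((z.2 : G) * a⁻¹ * (t ^ (z.1 : ℕ))⁻¹, ⟨_, S.conj_mem z.1 hu0P⟩)
  rw [show n * Nat.card C[Z[x]] = (univ : Finset (Fin n × C[Z[x]])).card by
    rw [card_univ, Fintype.card_prod, Fintype.card_fin, Nat.card_eq_fintype_card]]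
  symm
  refine card_bij (fun z _ => Λ z) (fun z _ => mem_filter.2 ⟨mem_product.2 ⟨mem_univ _,
    mem_filter.2 ⟨mem_univ _, ?_⟩⟩, Sigma.ext ?_ (heq_of_eq ?_)⟩) ?_ ?_
  · intro h
    have h' : t ^ (z.1 : ℕ) * u0 * (t ^ (z.1 : ℕ))⁻¹ = 1 := congrArg Subtype.val h
    exact hu01 (conj_eq_one_iff.1 h')
  · show ((z.2 : G) * a⁻¹ * (t ^ (z.1 : ℕ))⁻¹) * (t ^ (z.1 : ℕ) * u0 * (t ^ (z.1 : ℕ))⁻¹) *
      ((z.2 : G) * a⁻¹ * (t ^ (z.1 : ℕ))⁻¹)⁻¹ = x
    rw [hu0, show ((z.2 : G) * a⁻¹ * (t ^ (z.1 : ℕ))⁻¹) *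
      (t ^ (z.1 : ℕ) * (a * x * a⁻¹) * (t ^ (z.1 : ℕ))⁻¹) *
      ((z.2 : G) * a⁻¹ * (t ^ (z.1 : ℕ))⁻¹)⁻¹ = (z.2 : G) * x * (z.2 : G)⁻¹ by group,
      mem_cz.1 z.2.2, mul_inv_cancel_right]
  · show cj 𝕜 ((z.2 : G) * a⁻¹ * (t ^ (z.1 : ℕ))⁻¹) (E _) = f
    rw [show E (t ^ (z.1 : ℕ) * u0 * (t ^ (z.1 : ℕ))⁻¹) = cj 𝕜 (t ^ (z.1 : ℕ)) (E u0) from
        (S.subBlk_conj_stab (S.pow_mem_stab _) hu0P).symm, ← cj_mul, inv_mul_cancel_right, cj_mul,
      hfE, cj_inv_cj, (mem_blks.1 hf).fixBy _ z.2.2]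
  · rintro ⟨l, d⟩ _ ⟨l', d'⟩ _ he
    have h2 : t ^ (l : ℕ) * u0 * (t ^ (l : ℕ))⁻¹ = t ^ (l' : ℕ) * u0 * (t ^ (l' : ℕ))⁻¹ :=
      congrArg (fun y : G × P => (y.2 : G)) he
    have key : ∀ {i j : ℕ}, i ≤ j → j < n →
        t ^ i * u0 * (t ^ i)⁻¹ = t ^ j * u0 * (t ^ j)⁻¹ → i = j := by
      intro i j hij hj hh
      have h3 : t ^ (j - i) * u0 * (t ^ (j - i))⁻¹ = u0 := by
        rw [show t ^ j = t ^ i * t ^ (j - i) by rw [← pow_add, Nat.add_sub_cancel' hij]] at hh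
        calc t ^ (j - i) * u0 * (t ^ (j - i))⁻¹
            = (t ^ i)⁻¹ * (t ^ i * t ^ (j - i) * u0 * (t ^ i * t ^ (j - i))⁻¹) * t ^ i := by group
          _ = u0 := by rw [← hh]; group
      have := Nat.eq_zero_of_dvd_of_lt (S.free hu0P hu01 h3) (by omega)
      omega
    have hl : (l : ℕ) = l' := by
      rcases le_total (l : ℕ) l' with h | h
      · exact key h l'.2 h2
      · exact (key h l.2 h2.symm).symm
    have h1 : (d : G) * a⁻¹ * (t ^ (l : ℕ))⁻¹ = (d' : G) * a⁻¹ * (t ^ (l' : ℕ))⁻¹ :=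
      congrArg Prod.fst he
    rw [hl] at h1
    exact Prod.ext (Fin.ext hl) (Subtype.ext (mul_right_cancel (mul_right_cancel h1)))
  · rintro ⟨g, u⟩ hy
    obtain ⟨hgu, hΨy⟩ := mem_filter.1 hy
    obtain ⟨e1, e2⟩ := Sigma.mk.inj_iff.1 hΨy
    have e2' : cj 𝕜 g (E u) = f := eq_of_heq e2
    have hgx : (g⁻¹ * a⁻¹) * u0 * (g⁻¹ * a⁻¹)⁻¹ = (u : G) := by rw [hu0, ← e1]; group
    obtain ⟨l, hl, d, hd, hld⟩ := S.fusion hu0P u.2 hgx (by
      show cj 𝕜 (g⁻¹ * a⁻¹) (E u0) = E u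
      rw [hfE, ← cj_mul, inv_mul_cancel_right, ← e2', cj_inv_cj])
    refine ⟨(⟨l, hl⟩, ⟨a⁻¹ * d⁻¹ * a, mem_cz.2 ?_⟩), mem_univ _, Prod.ext ?_ (Subtype.ext ?_)⟩
    · have hd' := mem_cz.1 ((C[Z[u0]]).inv_mem hd)
      rw [show x = a⁻¹ * u0 * a by rw [hu0]; group]
      calc a⁻¹ * d⁻¹ * a * (a⁻¹ * u0 * a) = a⁻¹ * (d⁻¹ * u0) * a := by group
        _ = a⁻¹ * (u0 * d⁻¹) * a := by rw [hd']
        _ = a⁻¹ * u0 * a * (a⁻¹ * d⁻¹ * a) := by group
    · show a⁻¹ * d⁻¹ * a * a⁻¹ * (t ^ l)⁻¹ = g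
      rw [show g = ((g⁻¹ * a⁻¹) * a)⁻¹ by group, hld]; group
    · show t ^ l * u0 * (t ^ l)⁻¹ = (u : G)
      rw [← hgx, hld]
      calc t ^ l * u0 * (t ^ l)⁻¹ = t ^ l * (d * u0 * d⁻¹) * (t ^ l)⁻¹ := by
            rw [mem_cz.1 hd, mul_inv_cancel_right]
        _ = t ^ l * d * u0 * (t ^ l * d)⁻¹ := by group

/-- **The identity decomposes along the subsections.** -/
theorem inner_decomp [Fintype P] {χ ψ : IrrCharacter G} (hχψ : χ ∈ B ∨ ψ ∈ B) :
    (if χ = ψ then 1 else 0 : ℂ) =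
      classInner (regPart p (χ : G → ℂ)) (regPart p (ψ : G → ℂ)) +
      (n : ℂ)⁻¹ * ∑ u ∈ univ.filter (fun u : P => u ≠ 1),
        contribR p χ ψ (u : G) (subBlk p P (idemIn M C[P] c) (u : G)) := by
  have hM := S.hM
  have hδ : ∀ φ : IrrCharacter G, starFun p (fun x (_ : MonoidAlgebra 𝕜 G) =>
      if x = 1 then (1 : ℂ) else 0) φ = regPart p (φ : G → ℂ) := fun φ => funext fun g => by
    obtain ⟨x, s, h, rfl⟩ := exists_pElt p g
    by_cases hx : x = 1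
    · subst hx
      rw [starFun_eq _ φ h rfl, wsum_one_eq hM _ φ h, one_mul,
        regPart_of_not_dvd h.reg]
      have h2 := wsum_const_one (M := M) hM φ h
      rw [wsum_one_eq hM _ φ h, one_mul] at h2
      simpa using h2
    · rw [starFun_eq _ φ h rfl, wsum_one_eq hM _ φ h, regPart_of_dvd ?_]
      · simp [hx]
      · obtain ⟨j, hj⟩ := orderOf_eq_pow h
        have hj0 : j ≠ 0 := fun e => hx (orderOf_eq_one_iff.1 (by rw [hj, e, pow_zero]))
        rw [h.comm.orderOf_mul_eq_mul_orderOf_of_coprime (by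
          rw [hj]; exact ((Fact.out : p.Prime).coprime_iff_not_dvd.2 h.reg).pow_left j), hj]
        exact dvd_mul_of_dvd_left (dvd_pow_self p hj0) _
  have h1mem : (1 : G) ∈ pSet p G := mem_pSet.2 ⟨0, by simp⟩
  rw [← classInner_irr, ← starFun_const_one (M := M) hM χ, ← starFun_const_one (M := M) hM ψ,
    classInner_starFun' hM, starFun_const_one hM, starFun_const_one hM, ← hδ χ, ← hδ ψ,
    classInner_starFun' hM, ← sum_filter_add_sum_filter_not (pSet p G) (fun x => x = 1), mul_add]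
  congr 1
  · congr 1
    rw [sum_filter]
    refine sum_congr rfl fun x _ => ?_
    by_cases hx : x = 1 <;> simp [hx]
  · simp only [map_one, one_mul]
    have h2 := S.sum_pairs_free (fun x f => contribR p χ ψ x f)
      (fun x hx f hf hn => contribR_eq_zero hM S.hB hχψ hx (mem_blks.1 hf) hn)
      (fun x hx f hf g => contribR_conj hM χ ψ hx (mem_blks.1 hf) g)
    have hn0 : (n : ℂ) ≠ 0 := Nat.cast_ne_zero.2 S.n_pos.ne'
    have hG0 : (Nat.card G : ℂ) ≠ 0 := Nat.cast_ne_zero.2 Nat.card_pos.ne'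
    rw [eq_inv_mul_iff_mul_eq₀ hn0, mul_left_comm, ← h2, inv_mul_cancel_left₀ hG0]

end CycData

end CfsgLib.Cyclic
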