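import Cfsg.Agent.BlocksB.Cyclic.Modules
import Cfsg.Agent.BrauerPairs.Blk

/-!
# Local vectors in modules and their descent to simple modules
-/

set_option autoImplicit false
set_option linter.style.haveILetI false
set_option linter.unusedSectionVars false

namespace CfsgLib.Cyclic

open Module MonoidAlgebra Finset CfsgLib.BrauerPairs
open scoped Classical

universe u v

variable {k : Type v} [Field k] {G : Type u} [Group G] [Fintype G]

theorem cj_eq_mul (g : G) (a : MonoidAlgebra k G) :
    cj k g a = single g (1 : k) * a * single g⁻¹ (1 : k) := by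
  refine coeff_ext fun h => ?_
  rw [coeff_cj, coeff_mul_single_apply, coeff_single_mul_apply]
  simp [mul_assoc]

theorem single_mul_cj (g : G) (a : MonoidAlgebra k G) :
    single g (1 : k) * a = cj k g a * single g (1 : k) := by
  rw [cj_eq_mul, mul_assoc _ (single g⁻¹ (1 : k)), single_mul_single, inv_mul_cancel, one_mul,
    ← one_def, mul_one]

variable {S : Type*} [AddCommGroup S] [Module k S] [Module (MonoidAlgebra k G) S]
  [IsScalarTower k (MonoidAlgebra k G) S]

theorem single_smul_cj (g : G) (a : MonoidAlgebra k G) (v : S) :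
    single g (1 : k) • a • v = cj k g a • single g (1 : k) • v := by
  rw [← mul_smul, ← mul_smul, single_mul_cj]

/-- A vector in the fixed part of `i`, killed by `x`, an eigenvector of `g`, and not in the image of
the top power of `x`. -/
def IsVec (i x : MonoidAlgebra k G) (g : G) (α : k) (m : ℕ) (S : Type*) [AddCommGroup S]
    [Module k S] [Module (MonoidAlgebra k G) S] (v : S) : Prop :=
  i • v = v ∧ x • v = 0 ∧ single g (1 : k) • v = α • v ∧ ∀ u : S, x ^ (m - 1) • u ≠ v

theorem IsVec.ne_zero {i x : MonoidAlgebra k G} {g : G} {α : k} {m : ℕ} {v : S}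
    (h : IsVec i x g α m S v) : v ≠ 0 := fun h0 => h.2.2.2 0 (by rw [h0, smul_zero])

theorem single_pow_smul {g : G} {α : k} {v : S} (h : single g (1 : k) • v = α • v) (j : ℕ) :
    single (g ^ j) (1 : k) • v = α ^ j • v := by
  induction j with
  | zero => simp [← one_def]
  | succ j ih =>
    rw [pow_succ', show single (g * g ^ j) (1 : k) = single g (1 : k) * single (g ^ j) (1 : k) by
      rw [single_mul_single, one_mul], mul_smul, ih, smul_comm, h, smul_smul, pow_succ]

theorem IsVec.pow_eq_one {i x : MonoidAlgebra k G} {g : G} {α : k} {m : ℕ} {v : S}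
    (h : IsVec i x g α m S v) {o : ℕ} (ho : g ^ o = 1) : α ^ o = 1 := by
  have := single_pow_smul h.2.2.1 o
  rw [ho, ← one_def, one_smul] at this
  exact (smul_left_injective k h.ne_zero ((one_smul k v).trans this)).symm

/-- A local vector descends to some simple subquotient. -/
theorem exists_simple_isVec {b i x : MonoidAlgebra k G} {g : G} {α ζ : k} {m o : ℕ}
    (hii : i * i = i) (hxi : Commute x i) (hig : cj k g i = i) (hxg : cj k g x = ζ • x) (hζ : ζ ≠ 0) (hm : 0 < m)
    (hxm : x ^ m = 0) (ho : (o : k) ≠ 0) (hgo : g ^ o = 1) :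
    ∀ (d : ℕ) (X : Type (max u v)) [AddCommGroup X] [Module k X] [Module (MonoidAlgebra k G) X]
      [IsScalarTower k (MonoidAlgebra k G) X] [FiniteDimensional k X], finrank k X = d →
      (∀ z : X, b • z = z) → ∀ v : X, IsVec i x g α m X v →
      ∃ (S : Type (max u v)) (_ : AddCommGroup S) (_ : Module k S) (_ : Module (MonoidAlgebra k G) S)
        (_ : IsScalarTower k (MonoidAlgebra k G) S) (_ : FiniteDimensional k S)
        (_ : IsSimpleModule (MonoidAlgebra k G) S) (w : S), (∀ z : S, b • z = z) ∧
          IsVec i x g α m S w := by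
  intro d
  induction d using Nat.strong_induction_on with
  | _ d ih =>
  intro X _ _ _ _ _ hd hb v hv
  haveI : Nontrivial X := ⟨v, 0, hv.ne_zero⟩
  obtain ⟨U, hU⟩ := exists_simple_submodule (k := k) (G := G) (S := X)
  haveI : FiniteDimensional k U := inferInstanceAs (FiniteDimensional k (U.restrictScalars k))
  have hpos : 0 < finrank k U := by
    haveI := IsSimpleModule.nontrivial (MonoidAlgebra k G) U
    exact Module.finrank_pos
  have hsum := finrank_eq_add (k := k) U
  by_cases hq : ∀ z : X ⧸ U, x ^ (m - 1) • z ≠ U.mkQ v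
  · refine ih _ (by omega) (X ⧸ U) rfl (fun z => ?_) (U.mkQ v)
      ⟨by rw [← map_smul, hv.1], by rw [← map_smul, hv.2.1, map_zero],
        by rw [← map_smul, hv.2.2.1]; rfl, hq⟩
    obtain ⟨y, rfl⟩ := U.mkQ_surjective z
    rw [← map_smul, hb]
  · push_neg at hq
    obtain ⟨z, hz⟩ := hq
    obtain ⟨w, rfl⟩ := U.mkQ_surjective z
    rw [← map_smul] at hz
    have hxi' : Commute (x ^ (m - 1)) i := hxi.pow_left _
    have hiw : U.mkQ (x ^ (m - 1) • i • w) = U.mkQ v := by
      rw [← mul_smul, hxi'.eq, mul_smul, map_smul, hz, ← map_smul, hv.1]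
    have hαo := hv.pow_eq_one hgo
    have ho0 : o ≠ 0 := fun e => ho (by simp [e])
    have hgx : cj k g (x ^ (m - 1)) = ζ ^ (m - 1) • x ^ (m - 1) := by
      rw [map_pow, hxg, smul_pow]
    have hζo : (ζ ^ (m - 1)) ^ o • x ^ (m - 1) = x ^ (m - 1) := by
      have h1 : ∀ j : ℕ, cj k (g ^ j) (x ^ (m - 1)) = (ζ ^ (m - 1)) ^ j • x ^ (m - 1) := fun j => by
        induction j with
        | zero => simp
        | succ j ij => rw [pow_succ' g, cj_mul, ij, map_smul, hgx, smul_smul, pow_succ]
      rw [← h1, hgo, cj_one]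
    by_cases hx0 : x ^ (m - 1) = 0
    · refine ⟨U, inferInstance, inferInstance, inferInstance, inferInstance, inferInstance, hU,
        ⟨v, ?_⟩, fun z => Subtype.ext (hb z), Subtype.ext hv.1, Subtype.ext hv.2.1,
        Subtype.ext hv.2.2.1, fun u hu => hv.2.2.2 u (congrArg Subtype.val hu)⟩
      rw [hx0, zero_smul] at hz
      exact (Submodule.Quotient.mk_eq_zero U).1 (hz.symm.trans (map_zero _))
    have hζo' : (ζ ^ (m - 1)) ^ o = 1 :=
      smul_left_injective k hx0 (hζo.trans (one_smul k _).symm)
    set β := α * (ζ ^ (m - 1))⁻¹ with hβ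
    have hβo : β ^ o = 1 := by rw [hβ, mul_pow, inv_pow, hαo, hζo', inv_one, one_mul]
    have hβ0 : β ≠ 0 := fun e => by rw [e, zero_pow ho0] at hβo; exact zero_ne_one hβo
    let F : ℕ → X := fun j => (β⁻¹) ^ j • single (g ^ j) (1 : k) • i • w
    set w' := (o : k)⁻¹ • ∑ j ∈ range o, F j with hw'
    have hgw : single g (1 : k) • w' = β • w' := by
      have h1 : ∀ j, single g (1 : k) • F j = β • F (j + 1) := fun j => by
        simp only [F]
        rw [smul_comm (single g (1 : k)), ← mul_smul (single g (1 : k)), single_mul_single, one_mul,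
          ← pow_succ', smul_smul β, pow_succ' β⁻¹, ← mul_assoc, mul_inv_cancel₀ hβ0, one_mul]
      rw [hw', smul_comm, smul_sum, sum_congr rfl fun j _ => h1 j, ← smul_sum, smul_comm β]
      congr 2
      have hF : F o = F 0 := by simp [F, inv_pow, hβo, hgo]
      have h2 : ∑ j ∈ range o, F (j + 1) + F 0 = ∑ j ∈ range o, F j + F o := by
        rw [← Finset.sum_range_succ', Finset.sum_range_succ]
      rw [hF] at h2
      exact add_right_cancel h2
    have hiw' : i • w' = w' := by
      have h1 : ∀ j : ℕ, cj k (g ^ j) i = i := fun j => by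
        induction j with
        | zero => simp
        | succ j ij => rw [pow_succ' g, cj_mul, ij, hig]
      simp only [hw', F, smul_comm i ((o : k)⁻¹), smul_sum]
      refine sum_congr rfl fun j _ => ?_
      rw [smul_comm i ((β⁻¹) ^ j)]
      congr 2
      rw [show i • single (g ^ j) (1 : k) • i • w =
        cj k (g ^ j) i • single (g ^ j) (1 : k) • i • w by rw [h1], ← single_smul_cj]
      congr 1
      rw [← mul_smul, hii]
    have hcjx : ∀ j : ℕ, cj k (g ^ j) (x ^ (m - 1)) = (ζ ^ (m - 1)) ^ j • x ^ (m - 1) := fun j => by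
      induction j with
      | zero => simp
      | succ j ij => rw [pow_succ' g, cj_mul, ij, map_smul, hgx, smul_smul, pow_succ]
    have himg : U.mkQ (x ^ (m - 1) • w') = U.mkQ v := by
      have h1 : ∀ j, U.mkQ (x ^ (m - 1) • F j) = U.mkQ v := fun j => by
        simp only [F]
        have h2 : single (g ^ j) (1 : k) • x ^ (m - 1) • i • w =
            (ζ ^ (m - 1)) ^ j • x ^ (m - 1) • single (g ^ j) (1 : k) • i • w := by
          rw [single_smul_cj, hcjx, smul_assoc]
        have h3 := congrArg (fun z => single (g ^ j) (1 : k) • z) hiw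
        simp only [← map_smul, h2, single_pow_smul hv.2.2.1] at h3
        rw [LinearMap.map_smul_of_tower, LinearMap.map_smul_of_tower] at h3
        rw [smul_comm, LinearMap.map_smul_of_tower]
        have hz0 : (ζ ^ (m - 1)) ^ j ≠ 0 := pow_ne_zero _ (pow_ne_zero _ hζ)
        have h4 := congrArg (fun z => ((ζ ^ (m - 1)) ^ j)⁻¹ • z) h3
        rw [inv_smul_smul₀ hz0] at h4
        rw [LinearMap.map_smul_of_tower, h4, LinearMap.map_smul_of_tower, smul_smul, smul_smul, hβ,
          mul_inv, inv_inv, mul_pow, inv_pow,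
          mul_inv_cancel_right₀ hz0,
          inv_mul_cancel₀ (pow_ne_zero _ (fun e => by
            rw [e, zero_pow ho0] at hαo; exact zero_ne_one hαo)), one_smul]
      rw [hw', smul_comm, LinearMap.map_smul_of_tower, smul_sum, map_sum,
        sum_congr rfl fun j _ => h1 j, sum_const, card_range, ← Nat.cast_smul_eq_nsmul k, smul_smul,
        inv_mul_cancel₀ ho, one_smul]
    have hmem : v - x ^ (m - 1) • w' ∈ U := by
      rw [← Submodule.Quotient.mk_eq_zero, ← Submodule.mkQ_apply, map_sub, himg, sub_self]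
    refine ⟨U, inferInstance, inferInstance, inferInstance, inferInstance, inferInstance, hU,
      ⟨_, hmem⟩, fun z => Subtype.ext (hb z), Subtype.ext ?_, Subtype.ext ?_, Subtype.ext ?_,
      fun u hu => hv.2.2.2 ((u : X) + w') ?_⟩
    · show i • (v - x ^ (m - 1) • w') = _
      rw [smul_sub, hv.1, ← mul_smul, ← hxi'.eq, mul_smul, hiw']
    · show x • (v - x ^ (m - 1) • w') = 0
      rw [smul_sub, hv.2.1, ← mul_smul, ← pow_succ', Nat.sub_add_cancel hm, hxm, zero_smul, sub_zero]
    · show single g (1 : k) • (v - x ^ (m - 1) • w') = α • (v - x ^ (m - 1) • w')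
      rw [smul_sub, hv.2.2.1, single_smul_cj, hgx, hgw, smul_assoc, smul_comm (x ^ (m - 1)) β,
        smul_smul, hβ, mul_left_comm, mul_inv_cancel₀ (pow_ne_zero _ hζ), mul_one, smul_sub]
    · have h2 : x ^ (m - 1) • (u : X) = v - x ^ (m - 1) • w' := congrArg Subtype.val hu
      rw [smul_add, h2, sub_add_cancel]

end CfsgLib.Cyclic
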